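import Cfsg.Agent.Components.BGNP.Two
import Cfsg.Agent.PGroups.SpecialCoprime

/-!
Two characteristic subgroups for pushing up: the subgroup `S₀` and the criterion for its fixed points to be
central.
-/

set_option autoImplicit false
set_option linter.unusedSectionVars false
set_option linter.style.haveILetI false

namespace Cfsg.Lib.PushUp.Char

open Subgroup Cfsg.Lib.BGN Cfsg.Lib.BGN.P
open scoped commutatorElement

universe u v

/-- the subgroup `S₀` of `K` -/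
def s0 {H : Type*} [Group H] (p : ℕ) (K : Subgroup H) : Subgroup H :=
  if p = 2 then ⁅phi p K, K⁆ ⊔ phi p (phi p K)
  else if p = 3 then ⁅⁅phi p K, K⁆, K⁆ ⊔ phi p (phi p K)
  else ⁅phi p K, K⁆ ⊔ pw p K

theorem delta_two {M : Type*} [AddCommGroup M] (σ : M →+ M) (hM : ∀ x : M, 2 • x = 0) {x : M}
    (h : σ (σ x) = x) : σ (σ x - x) - (σ x - x) = 0 := by
  rw [map_sub, h, show x - σ x - (σ x - x) = 2 • x - 2 • σ x by abel, hM, hM, sub_zero]

theorem delta_three {M : Type*} [AddCommGroup M] (σ : M →+ M) (hM : ∀ x : M, 3 • x = 0) {x : M}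
    (h : σ (σ (σ x)) = x) : σ (σ (σ x - x) - (σ x - x)) - (σ (σ x - x) - (σ x - x)) = 0 := by
  simp only [map_sub, h]
  rw [show x - σ (σ x) - (σ (σ x) - σ x) - (σ (σ x) - σ x - (σ x - x)) = 3 • σ x - 3 • σ (σ x) by abel, hM, hM,
    sub_zero]

theorem map_s0 {H H' : Type*} [Group H] [Group H'] (p : ℕ) [Fact p.Prime] (f : H →* H') (K : Subgroup H) :
    (s0 p K).map f = s0 p (K.map f) := by
  simp only [s0]
  split_ifs <;> rw [Subgroup.map_sup] <;> simp only [map_commutator] <;> repeat' first | rw [map_phi] | rw [map_pw]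

theorem comm_mem_of_le {H : Type*} [Group H] {S M : Subgroup H} (hM : S ≤ normalizer (M : Set H)) {x s : H}
    (hx : x ∈ M) (hs : s ∈ S) : ⁅x, s⁆ ∈ M :=
  Subgroup.le_normalizer_iff_commutator_le_left.1 hM (commutator_mem_commutator hx hs)

theorem phi_bot {H : Type*} [Group H] {p : ℕ} {K : Subgroup H} (hab : ∀ x ∈ K, ∀ y ∈ K, x * y = y * x)
    (hexp : ∀ x ∈ K, x ^ p = 1) : phi p K = ⊥ := by
  refine le_bot_iff.1 (sup_le (commutator_le.2 fun x hx y hy => ?_) ((closure_le _).2 ?_))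
  · rw [mem_bot, commutatorElement_eq_one_iff_mul_comm]; exact hab x hx y hy
  · rintro _ ⟨x, hx, rfl⟩; exact mem_bot.2 (hexp x hx)

theorem mem_product {H : Type*} [Group H] {A Q : Subgroup H} (hn : A ≤ normalizer (Q : Set H)) {s : H}
    (hs : s ∈ A ⊔ Q) : ∃ a ∈ A, ∃ q ∈ Q, a * q = s := by
  rw [← SetLike.mem_coe, coe_mul_of_left_le_normalizer_right _ _ hn] at hs
  exact hs

/-- `S₀` vanishes for a split extension with short commutators -/
theorem s0_eq_bot {H : Type*} [Group H] [Finite H] {p : ℕ} [hp : Fact p.Prime] {S Q A : Subgroup H} (hS : A ⊔ Q = S)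
    (hn : S ≤ normalizer (Q : Set H)) (hA : ∀ a ∈ A, ∀ b ∈ A, a * b = b * a) (hAp : ∀ a ∈ A, a ^ p = 1)
    (hQ : ∀ a ∈ Q, ∀ b ∈ Q, a * b = b * a) (hQp : ∀ a ∈ Q, a ^ p = 1)
    (h2 : p ≠ 3 → ⁅⁅Q, S⁆, S⁆ = ⊥) (h3 : p = 3 → ⁅⁅⁅Q, S⁆, S⁆, S⁆ = ⊥) : s0 p S = ⊥ := by
  have hQS : Q ≤ S := hS ▸ le_sup_right
  have hAS : A ≤ S := hS ▸ le_sup_left
  set M := ⁅Q, S⁆ with hM
  have hMQ : M ≤ Q := Subgroup.le_normalizer_iff_commutator_le_left.1 hn
  have hMn : S ≤ normalizer (M : Set H) :=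
    Cfsg.Lib.PushUp.le_normalizer_comm hn le_normalizer
  set N := M.subgroupOf S
  haveI : N.Normal := normal_subgroupOf_of_le_normalizer hMn
  set π := QuotientGroup.mk' N
  have hone : ∀ (x : ↥S), (x : H) ∈ M → π x = 1 := fun x hx =>
    (QuotientGroup.eq_one_iff x).2 (mem_subgroupOf.2 hx)
  have hdec : ∀ x : ↥S, ∃ a : ↥S, ∃ q : ↥S, (a : H) ∈ A ∧ (q : H) ∈ Q ∧ x = a * q := fun x => by
    obtain ⟨a, ha, q, hq, e⟩ := mem_product (hAS.trans hn) (hS.symm ▸ x.2 : (x : H) ∈ A ⊔ Q)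
    exact ⟨⟨a, hAS ha⟩, ⟨q, hQS hq⟩, ha, hq, Subtype.ext e.symm⟩
  have hcomm : ∀ x y : ↥S, Commute (π x) (π y) := by
    have hq : ∀ x y : ↥S, (x : H) ∈ Q → Commute (π x) (π y) := fun x y hx =>
      commutatorElement_eq_one_iff_mul_comm.1 (by
        rw [← map_commutatorElement]; exact hone _ (commutator_mem_commutator hx y.2))
    intro x y
    obtain ⟨a, q, ha, hq', rfl⟩ := hdec x
    obtain ⟨b, r, hb, hr, rfl⟩ := hdec y
    rw [map_mul, map_mul]
    refine ((Commute.mul_right ?_ ?_).mul_left ?_)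
    · exact (show Commute a b from Subtype.ext (hA _ ha _ hb)).map π
    · exact (hq r a hr).symm
    · rw [← map_mul]; exact hq q _ hq'
  have hpow : ∀ x : ↥S, π x ^ p = 1 := fun x => by
    obtain ⟨a, q, ha, hq, rfl⟩ := hdec x
    rw [map_mul, (hcomm a q).mul_pow, ← map_pow, ← map_pow, show a ^ p = 1 from Subtype.ext (hAp _ ha),
      show q ^ p = 1 from Subtype.ext (hQp _ hq), map_one, one_mul]
  have hphi : phi p S ≤ M := by
    refine sup_le (commutator_le.2 fun x hx y hy => ?_) ((closure_le _).2 ?_)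
    · have h := commutatorElement_eq_one_iff_mul_comm.2 (hcomm ⟨x, hx⟩ ⟨y, hy⟩).eq
      rw [← map_commutatorElement] at h
      exact mem_subgroupOf.1 ((QuotientGroup.eq_one_iff _).1 h)
    · rintro _ ⟨x, hx, rfl⟩
      have h := hpow ⟨x, hx⟩
      rw [← map_pow] at h
      exact mem_subgroupOf.1 ((QuotientGroup.eq_one_iff _).1 h)
  have hpp : phi p (phi p S) = ⊥ := phi_bot (fun x hx y hy => hQ x (hMQ (hphi hx)) y (hMQ (hphi hy)))
    fun x hx => hQp x (hMQ (hphi hx))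
  have hd : p ≠ 3 → ⁅phi p S, S⁆ = ⊥ := fun h =>
    le_bot_iff.1 ((commutator_mono hphi le_rfl).trans (h2 h).le)
  simp only [s0]
  split_ifs with e2 e3
  · rw [hd (by omega), hpp, bot_sup_eq]
  · rw [hpp, sup_bot_eq, eq_bot_iff, ← h3 e3]
    exact commutator_mono (commutator_mono hphi le_rfl) le_rfl
  · rw [hd e3, bot_sup_eq, eq_bot_iff]
    refine (closure_le _).2 ?_
    rintro _ ⟨x, hx, rfl⟩
    obtain ⟨a, ha, q, hq, rfl⟩ := mem_product (hAS.trans hn) (hS.symm ▸ hx : x ∈ A ⊔ Q)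
    have hz : ∀ s ∈ S, Commute ⁅q, a⁆ s := fun s hs => commutatorElement_eq_one_iff_mul_comm.1
      (mem_bot.1 (h2 e3 ▸ commutator_mem_commutator (commutator_mem_commutator hq (hAS ha)) hs))
    show (a * q) ^ p = 1
    rw [mul_pow_central (z := ⁅q, a⁆) (by rw [commutatorElement_def]; group) (hz a (hAS ha)) (hz q (hQS hq)) p,
      hAp a ha, hQp q hq, mul_one, mul_one]
    obtain ⟨j, hj⟩ := hp.out.dvd_choose_self two_ne_zero (lt_of_le_of_ne hp.out.two_le (Ne.symm e2))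
    rw [hj, pow_mul, hQp _ (comm_mem_of_le hn hq (hAS ha)), one_pow]

/-- the commutators with a cyclic supplement are images of one map -/
theorem cyclic_bot {H : Type*} [Group H] [Finite H] {p : ℕ} {S Q : Subgroup H} {a : H} (hp : p = 2 ∨ p = 3)
    (hS : zpowers a ⊔ Q = S) (hn : S ≤ normalizer (Q : Set H)) (ha : a ^ p = 1)
    (hQ : ∀ x ∈ Q, ∀ y ∈ Q, x * y = y * x) (hQp : ∀ x ∈ Q, x ^ p = 1) :
    (p ≠ 3 → ⁅⁅Q, S⁆, S⁆ = ⊥) ∧ (p = 3 → ⁅⁅⁅Q, S⁆, S⁆, S⁆ = ⊥) := by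
  have haS : a ∈ S := hS ▸ mem_sup_left (mem_zpowers a)
  have han : a ∈ normalizer (Q : Set H) := hn haS
  letI : CommGroup ↥Q :=
    { (inferInstance : Group ↥Q) with mul_comm := fun x y => Subtype.ext (hQ x x.2 y y.2) }
  let σ : ↥Q →* ↥Q :=
    { toFun := fun x => ⟨a * x * a⁻¹, (mem_normalizer_iff.1 han x).1 x.2⟩
      map_one' := Subtype.ext (by simp)
      map_mul' := fun x y => Subtype.ext (by simp only [Subgroup.coe_mul]; group) }
  let δ : ↥Q →* ↥Q :=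
    { toFun := fun x => σ x * x⁻¹
      map_one' := by rw [map_one, inv_one, one_mul]
      map_mul' := fun x y => by rw [map_mul, mul_inv, mul_mul_mul_comm] }
  have hσ : ∀ x : ↥Q, (σ x : H) = a * x * a⁻¹ := fun x => rfl
  have step : ∀ X : Subgroup ↥Q, (∀ x ∈ X, σ x ∈ X) → (∀ x ∈ X.map δ, σ x ∈ X.map δ) ∧
      ⁅X.map Q.subtype, S⁆ ≤ (X.map δ).map Q.subtype := by
    intro X hX
    have hXd : ∀ x ∈ X.map δ, σ x ∈ X.map δ := by
      rintro _ ⟨x, hx, rfl⟩
      exact ⟨σ x, hX x hx, by simp [δ, map_mul]⟩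
    refine ⟨hXd, ?_⟩
    set Y := (X.map δ).map Q.subtype
    have hYn : S ≤ normalizer (Y : Set H) := by
      rw [← hS]
      refine sup_le (zpowers_le.2 ?_) (le_normalizer_of_forall fun q hq => ?_)
      · have h1 : cj a Y ≤ Y := by
          rintro _ ⟨_, ⟨y, hy, rfl⟩, rfl⟩
          exact ⟨σ y, hXd y hy, rfl⟩
        exact Cfsg.Lib.Transfer.map_conj_eq_self_iff.1 (eq_of_le_of_card_ge h1 (card_cj a Y).ge)
      · rintro _ ⟨_, ⟨y, hy, rfl⟩, rfl⟩
        refine ⟨y, hy, ?_⟩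
        show (y : H) = q * y * q⁻¹
        rw [hQ q hq y y.2, mul_inv_cancel_right]
    rw [commutator_le]
    rintro _ ⟨x, hx, rfl⟩ s hs
    let T : Subgroup H :=
      { carrier := {s | s ∈ S ∧ ⁅(x : H), s⁆ ∈ Y}
        one_mem' := ⟨one_mem _, by simp⟩
        mul_mem' := fun {s t} hs ht => ⟨mul_mem hs.1 ht.1, by
          rw [show ⁅(x : H), s * t⁆ = ⁅(x : H), s⁆ * (s * ⁅(x : H), t⁆ * s⁻¹) by
            simp only [commutatorElement_def]; group]
          exact mul_mem hs.2 ((mem_normalizer_iff.1 (hYn hs.1) _).1 ht.2)⟩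
        inv_mem' := fun {s} hs => ⟨inv_mem hs.1, by
          rw [show ⁅(x : H), s⁻¹⁆ = s⁻¹ * ⁅(x : H), s⁆⁻¹ * s⁻¹⁻¹ by simp only [commutatorElement_def]; group]
          exact (mem_normalizer_iff.1 (inv_mem (hYn hs.1)) _).1 (inv_mem hs.2)⟩ }
    refine ((hS.ge.trans (sup_le (c := T) (zpowers_le.2 ⟨haS, ?_⟩) fun q hq => ⟨hS.le (mem_sup_right hq), ?_⟩))
      hs).2
    · refine ⟨(δ x)⁻¹, inv_mem (mem_map_of_mem δ hx), ?_⟩
      simp only [δ, MonoidHom.coe_mk, OneHom.coe_mk, Subgroup.coe_subtype, Subgroup.coe_inv, Subgroup.coe_mul,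
        hσ, commutatorElement_def]
      group
    · show ⁅(x : H), q⁆ ∈ Y
      rw [commutatorElement_eq_one_iff_mul_comm.2 (hQ _ x.2 q hq)]
      exact one_mem _
  obtain ⟨i1, s1⟩ := step ⊤ fun x _ => mem_top _
  rw [← MonoidHom.range_eq_map, Subgroup.range_subtype] at s1
  obtain ⟨i2, s2⟩ := step _ i1
  obtain ⟨-, s3⟩ := step _ i2
  have hpow : ∀ x : ↥Q, x ^ p = 1 := fun x => Subtype.ext (hQp x x.2)
  refine ⟨fun h3 => le_bot_iff.1 ((commutator_mono s1 le_rfl).trans (s2.trans ?_)),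
    fun h3 => le_bot_iff.1 ((commutator_mono ((commutator_mono s1 le_rfl).trans s2) le_rfl).trans (s3.trans ?_))⟩
  · obtain rfl : p = 2 := by omega
    rintro _ ⟨_, ⟨_, ⟨x, -, rfl⟩, rfl⟩, rfl⟩
    have e : σ (σ x) = x := Subtype.ext (by
      rw [hσ, hσ, show a * (a * (x : H) * a⁻¹) * a⁻¹ = a ^ 2 * x * (a ^ 2)⁻¹ by rw [pow_two]; group, ha]; simp)
    rw [mem_bot]
    refine (congrArg Subtype.val (?_ : δ (δ x) = 1)).trans (Subgroup.coe_one _)
    have key := delta_two (MonoidHom.toAdditive σ) (fun y => hpow y) (x := Additive.ofMul x) e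
    simp only [δ, MonoidHom.coe_mk, OneHom.coe_mk]
    rw [← div_eq_mul_inv, ← div_eq_mul_inv]
    exact key
  · subst h3
    rintro _ ⟨_, ⟨_, ⟨_, ⟨x, -, rfl⟩, rfl⟩, rfl⟩, rfl⟩
    have e : σ (σ (σ x)) = x := Subtype.ext (by
      rw [hσ, hσ, hσ, show a * (a * (a * (x : H) * a⁻¹) * a⁻¹) * a⁻¹ = a ^ 3 * x * (a ^ 3)⁻¹ by rw [pow_succ, pow_two]; group, ha]
      simp)
    rw [mem_bot]
    refine (congrArg Subtype.val (?_ : δ (δ (δ x)) = 1)).trans (Subgroup.coe_one _)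
    have key := delta_three (MonoidHom.toAdditive σ) (fun y => hpow y) (x := Additive.ofMul x) e
    simp only [δ, MonoidHom.coe_mk, OneHom.coe_mk]
    rw [← div_eq_mul_inv, ← div_eq_mul_inv, ← div_eq_mul_inv]
    exact key

theorem map_eq_map {H : Type*} [Group H] [Finite H] {p : ℕ} [Fact p.Prime] (hH : IsPGroup p H) :
    frattini H = phi p (⊤ : Subgroup H) := by
  haveI : (phi p (⊤ : Subgroup H)).Characteristic := characteristic_iff_map_eq.2 fun φ => by
    rw [map_phi, map_top_of_surjective _ φ.surjective]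
  refine le_antisymm ?_ (sup_le ?_ ((closure_le _).2 ?_))
  · exact Cfsg.Lib.PGroups.SpecialCoprime.frattini_le_of_elementary _ (fun g => mem_phi_pow (mem_top g))
      le_sup_left
  · exact Cfsg.Lib.PGroups.commutator_le_frattini hH
  · rintro _ ⟨x, -, rfl⟩; exact Cfsg.Lib.PGroups.pow_mem_frattini hH x

end Cfsg.Lib.PushUp.Char
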