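import Cfsg.Agent.PushUp.Char.One

/-!
Two characteristic subgroups for pushing up: distance two.
-/

set_option autoImplicit false
set_option linter.unusedSectionVars false
set_option linter.style.haveILetI false

namespace Cfsg.Lib.BGN.P

open Subgroup Matrix Cfsg.Lib.BGN Cfsg.Lib.Known.AutPSL2
open Cfsg.Lib.PushUp.Char (s0 mem_product)
open scoped commutatorElement

universe u v

variable {p : ℕ} [hp : Fact p.Prime] {G : Type u} [Group G] [Finite G]

namespace Sit

variable {F : Type v} [Field F] [Fintype F] (d : Sit p G F)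

include d

theorem two_central (e : d.Dist2) : s0 p d.S ⊓ centralizer (d.S : Set G) ≤ center G := by
  haveI := d.c.core_normal
  haveI := e.nD
  haveI := e.nWB
  haveI := d.W_normal
  have hp2 := d.two_ne_two e
  obtain ⟨fr, ρ, hρ, hnW, hnM, hfol⟩ := d.exists_rho₂ e
  have hp3 := d.eq_three e hρ hnW hnM hfol
  have hA2le : e.A2 ≤ d.S := le_sup_left.trans e.A2S.le
  have hDS : e.D ≤ d.S := e.DQ.trans d.c.core_le
  have hWS : e.WB ≤ d.S := e.WBQ.trans d.c.core_le
  have hZMS : e.ZM ≤ d.S := e.ZMW.trans hWS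
  have hZZM : d.Z ≤ e.ZM := fun c hc => e.KZM (e.WK hc.1)
  have hDcj : ∀ g, cj g e.D = e.D := fun g => cj_eq_of_mem ((normalizer_eq_top (H := e.D)).ge (mem_top g))
  haveI hnD' : (phi p e.D).Normal := ⟨fun x hx g => by
    have h := mem_map_of_mem (MulAut.conj g).toMonoidHom hx
    rw [map_phi, show e.D.map (MulAut.conj g).toMonoidHom = e.D from hDcj g] at h
    exact h⟩
  -- the coprime elements fix the radical
  have hfix : ∀ g : G, (orderOf g).Coprime p → ∀ x ∈ phi p e.D, g * x = x * g := by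
    intro g hg
    refine centralize_phi (W := d.W) (fun w hw x hx => (e.DW x hx w (e.ZMW (e.KZM (e.WK hw)))).symm)
      (e.WK.trans e.KD) (fun w hw => d.W_pow hw) ?_ hg
    intro g hg
    have hnot : ¬ e.A2 ≤ Cfsg.pCore p G := fun h => by
      have hle := card_le_of_le (e.A2S.ge.trans (sup_le h le_rfl))
      rw [d.card_S] at hle
      exact absurd hle (not_le.2 (lt_mul_of_one_lt_left Nat.card_pos d.one_lt_q))
    refine d.c.mem_of_coprime (N := fixN e.D d.W) (fun h => d.c.closure_not_le hA2le hnot ?_) hg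
    exact (normalClosure_le_normal (show e.A2 ≤ fixN e.D d.W from fun a ha z hz => (e.DA2 z hz a ha).1)).trans h
  suffices h : s0 p d.S ≤ phi p e.D from le_trans (inf_le_inf_right _ h) (d.mem_center_of_fixed hfix)
  set π := QuotientGroup.mk' (phi p e.D)
  have hπ : ∀ {x}, π x = 1 ↔ x ∈ phi p e.D := fun {x} => QuotientGroup.eq_one_iff x
  -- `S` normalises the line
  have hZMn : d.S ≤ normalizer (e.ZM : Set G) := le_normalizer_of_forall fun s hs => by
    rintro _ ⟨x, hx, rfl⟩
    show s * x * s⁻¹ ∈ e.ZM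
    rw [show s * x * s⁻¹ = ⁅x, s⁆⁻¹ * x by simp only [commutatorElement_def]; group]
    exact mul_mem (hZZM (inv_mem (e.fixZ x hx s hs))) hx
  set N₀ := e.ZM ⊔ phi p e.D with hN₀
  have hN₀n : d.S ≤ normalizer (N₀ : Set G) := le_normalizer_of_forall fun s hs => by
    rw [hN₀, cj_sup, cj_eq_of_mem (hZMn hs), cj_eq_of_mem ((normalizer_eq_top (H := phi p e.D)).ge (mem_top s))]
  set N : Subgroup ↥d.S := N₀.subgroupOf d.S with hN
  haveI : N.Normal := normal_subgroupOf_of_le_normalizer hN₀n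
  set q := QuotientGroup.mk' N
  have hqc : ∀ (x z : ↥d.S), ⁅(x : G), (z : G)⁆ ∈ N₀ → q x * q z = q z * q x := fun x z h => by
    rw [← commutatorElement_eq_one_iff_mul_comm, ← map_commutatorElement]
    exact (QuotientGroup.eq_one_iff _).2 (mem_subgroupOf.2 h)
  have hAW : ∀ a ∈ e.A2, ∀ w ∈ e.WB, ⁅a, w⁆ ∈ N₀ := fun a ha w hw => by
    rw [← commutatorElement_inv]; exact inv_mem (mem_sup_left (e.move w hw a (hA2le ha)))
  have hAD : ∀ a ∈ e.A2, ∀ k ∈ e.D, ⁅a, k⁆ ∈ N₀ := fun a ha k hk => by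
    rw [← commutatorElement_inv]; exact inv_mem (mem_sup_left (hZZM (e.DA2 k hk a ha)))
  have hquot : ∀ s ∈ d.S, ∀ t ∈ d.S, ⁅s, t⁆ ∈ N₀ ∧ s ^ p ∈ N₀ := by
    intro s hs t ht
    obtain ⟨a, ha, w, hw, k, hk, rfl⟩ := d.mem_S₂ e hs
    obtain ⟨a', ha', w', hw', k', hk', rfl⟩ := d.mem_S₂ e ht
    let A' : ↥d.S := ⟨a, hA2le ha⟩
    let W' : ↥d.S := ⟨w, hWS hw⟩
    let K' : ↥d.S := ⟨k, hDS hk⟩
    let A₂' : ↥d.S := ⟨a', hA2le ha'⟩
    let W₂' : ↥d.S := ⟨w', hWS hw'⟩
    let K₂' : ↥d.S := ⟨k', hDS hk'⟩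
    have c1 : Commute (q A') (q A₂') := hqc _ _ (by
      rw [commutatorElement_eq_one_iff_mul_comm.2 (e.A2ab a ha a' ha')]; exact one_mem _)
    have c2 : Commute (q A') (q W₂') := hqc _ _ (hAW a ha w' hw')
    have c3 : Commute (q A') (q K₂') := hqc _ _ (hAD a ha k' hk')
    have c4 : Commute (q W') (q A₂') := (show Commute (q A₂') (q W') from hqc _ _ (hAW a' ha' w hw)).symm
    have c5 : Commute (q W') (q W₂') := hqc _ _ (mem_sup_left (hZZM (d.C_le (e.WQ w hw w' (e.WBQ hw')))))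
    have c6 : Commute (q W') (q K₂') := hqc _ _ (mem_sup_left (hZZM (d.C_le (e.WQ w hw k' (e.DQ hk')))))
    have c7 : Commute (q K') (q A₂') := hqc _ _ (mem_sup_left (hZZM (e.DA2 k hk a' ha')))
    have c8 : Commute (q K') (q W₂') := hqc _ _ (by
      rw [commutatorElement_eq_one_iff_mul_comm.2 (e.DW k hk w' hw')]; exact one_mem _)
    have c9 : Commute (q K') (q K₂') := hqc _ _ (mem_sup_right (mem_phi_comm hk hk'))
    have hc : Commute (q (A' * (W' * K'))) (q (A₂' * (W₂' * K₂'))) := by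
      simp only [map_mul]
      exact (c1.mul_right (c2.mul_right c3)).mul_left ((c4.mul_right (c5.mul_right c6)).mul_left
        (c7.mul_right (c8.mul_right c9)))
    refine ⟨?_, ?_⟩
    · have h := commutatorElement_eq_one_iff_mul_comm.2 hc.eq
      rw [← map_commutatorElement] at h
      exact mem_subgroupOf.1 ((QuotientGroup.eq_one_iff _).1 h)
    · have d1 : Commute (q A') (q W') := hqc _ _ (hAW a ha w hw)
      have d2 : Commute (q A') (q K') := hqc _ _ (hAD a ha k hk)
      have d3 : Commute (q W') (q K') := hqc _ _ (mem_sup_left (hZZM (d.C_le (e.WQ w hw k (e.DQ hk)))))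
      have eK : q K' ^ p = 1 := by
        rw [← map_pow]
        exact (QuotientGroup.eq_one_iff _).2 (mem_subgroupOf.2 (mem_sup_right (mem_phi_pow hk)))
      have eA : q A' ^ p = 1 := by
        rw [← map_pow, show A' ^ p = 1 from Subtype.ext (e.A2pow a ha), map_one]
      have eW : q W' ^ p = 1 := by
        rw [← map_pow, show W' ^ p = 1 from Subtype.ext (d.WB_pow e hp2 hw), map_one]
      have h : q ((A' * (W' * K')) ^ p) = 1 := by
        rw [map_pow, map_mul, map_mul, (d1.mul_right d2).mul_pow, d3.mul_pow, eA, eW, eK, one_mul, one_mul]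
      exact mem_subgroupOf.1 ((QuotientGroup.eq_one_iff _).1 h)
  have hphiS : phi p d.S ≤ N₀ := by
    refine sup_le (commutator_le.2 fun s hs t ht => (hquot s hs t ht).1) ((closure_le _).2 ?_)
    rintro _ ⟨s, hs, rfl⟩
    exact (hquot s hs s hs).2
  -- modulo the radical
  have hN₀π : N₀.map π = e.ZM.map π := by
    rw [hN₀, Subgroup.map_sup, QuotientGroup.map_mk'_self, sup_bot_eq]
  rw [← QuotientGroup.ker_mk' (phi p e.D), ← Subgroup.map_eq_bot_iff]
  show (s0 p d.S).map π = ⊥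
  unfold s0
  rw [if_neg hp2, if_pos hp3, Subgroup.map_sup]
  have h1 : (phi p d.S).map π ≤ e.ZM.map π := hN₀π ▸ map_mono hphiS
  refine sup_eq_bot_iff.2 ⟨?_, ?_⟩
  · rw [map_commutator, map_commutator, eq_bot_iff]
    have h2 : ⁅e.ZM.map π, d.S.map π⁆ ≤ d.Z.map π := by
      rw [← map_commutator]; exact map_mono (commutator_le.2 fun z hz s hs => e.fixZ z hz s hs)
    refine (commutator_mono ((commutator_mono h1 le_rfl).trans h2) le_rfl).trans ?_
    rw [← map_commutator, ← eq_bot_iff, Subgroup.map_eq_bot_iff]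
    exact commutator_le.2 fun z hz s hs => by
      rw [commutatorElement_eq_one_iff_mul_comm.2 (mem_centralizer_iff.1 hz.2 s hs).symm]; exact one_mem _
  · rw [map_phi]
    refine Cfsg.Lib.PushUp.Char.phi_bot (fun x hx y hy => ?_) fun x hx => ?_
    · obtain ⟨a, ha, rfl⟩ := h1 hx
      obtain ⟨b, hb, rfl⟩ := h1 hy
      rw [← map_mul, ← map_mul, e.ZMab a ha b hb]
    · obtain ⟨a, ha, rfl⟩ := h1 hx
      rw [← map_pow, d.WB_pow e hp2 (e.ZMW ha), map_one]

end Sit

end Cfsg.Lib.BGN.P
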