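import Cfsg.Agent.PushUp.Char.Two
import Cfsg.Agent.PushUp.Char.Three

/-!
Two groups with isomorphic Sylow subgroups inside one permutation group.
-/

set_option autoImplicit false
set_option linter.unusedSectionVars false
set_option linter.style.haveILetI false

namespace Cfsg.Lib.PushUp.Char

open Subgroup Cfsg.Lib.BGN Cfsg.Lib.BGN.P
open Cfsg.Lib.Fusion (maxAb)
open scoped commutatorElement

universe u v w

/-- a representation on `S × Fin N` extending left multiplication of `S` on the first coordinate -/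
theorem exists_rep {H S : Type u} [Group H] [Finite H] [Group S] [Finite S] (τ : S →* H)
    (hτ : Function.Injective τ) {M N : ℕ} (hM : 0 < M) (hN : τ.range.index * M = N) :
    ∃ π : H →* Equiv.Perm (S × Fin N), Function.Injective π ∧
      ∀ (s s' : S) (x : Fin N), π (τ s) (s', x) = (s * s', x) := by
  set R := τ.range with hR
  have hmem : ∀ g : H, g * (QuotientGroup.mk g⁻¹ : H ⧸ R).out ∈ R := fun g => by
    obtain ⟨h, hh⟩ := QuotientGroup.mk_out_eq_mul R g⁻¹
    rw [hh, ← mul_assoc, mul_inv_cancel, one_mul]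
    exact h.2
  let σ : ↥R ≃* S := (MonoidHom.ofInjective hτ).symm
  have hσ : ∀ x : ↥R, τ (σ x) = x := fun x => MonoidHom.apply_ofInjective_symm hτ x
  let ε : (H ⧸ R) × Fin M ≃ Fin N :=
    ((Finite.equivFin (H ⧸ R)).prodCongr (Equiv.refl _)).trans (finProdFinEquiv.trans (finCongr hN))
  let E : H × Fin M ≃ S × Fin N :=
    { toFun := fun z => (σ ⟨z.1 * (QuotientGroup.mk z.1⁻¹ : H ⧸ R).out, hmem z.1⟩, ε (QuotientGroup.mk z.1⁻¹, z.2))
      invFun := fun z => (τ z.1 * (ε.symm z.2).1.out⁻¹, (ε.symm z.2).2)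
      left_inv := fun z => by
        rcases z with ⟨g, i⟩
        simp only [Equiv.symm_apply_apply, hσ]
        rw [mul_inv_cancel_right]
      right_inv := fun z => by
        rcases z with ⟨s, x⟩
        have hc : (QuotientGroup.mk (τ s * (ε.symm x).1.out⁻¹)⁻¹ : H ⧸ R) = (ε.symm x).1 := by
          rw [_root_.mul_inv_rev, inv_inv, QuotientGroup.mk_mul_of_mem _ (inv_mem ⟨s, rfl⟩ : (τ s)⁻¹ ∈ R),
            QuotientGroup.out_eq']
        refine Prod.ext (hτ ?_) ?_
        · simp only [hσ, hc]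
          rw [inv_mul_cancel_right]
        · simp only [hc]
          rw [Prod.mk.eta, Equiv.apply_symm_apply] }
  let π : H →* Equiv.Perm (S × Fin N) :=
    { toFun := fun g => E.symm.trans (((Equiv.mulLeft g).prodCongr (Equiv.refl _)).trans E)
      map_one' := Equiv.ext fun z => by simp
      map_mul' := fun g h => Equiv.ext fun z => by simp [Prod.map, mul_assoc] }
  refine ⟨π, fun g h e => ?_, fun s s' x => ?_⟩
  · have h1 := congrArg (fun f : Equiv.Perm (S × Fin N) => (E.symm (f (E (1, ⟨0, hM⟩)))).1) e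
    simpa [π] using h1
  · show E (τ s * (τ s' * (ε.symm x).1.out⁻¹), (ε.symm x).2) = (s * s', x)
    rw [← E.apply_symm_apply (s * s', x)]
    refine congrArg E (Prod.ext ?_ rfl)
    show _ = τ (s * s') * _
    rw [map_mul, mul_assoc]

/-- the data of one group over the common Sylow subgroup -/
structure Side (P : Type u) [Group P] (p : ℕ) (S : Subgroup P) where
  X : Subgroup P
  Q : Subgroup P
  V : Subgroup P
  q : ℕ
  hQS : Q ≤ S
  hSX : S ≤ X
  hVQ : V ≤ Q
  nQ : X ≤ normalizer (Q : Set P)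
  nV : X ≤ normalizer (V : Set P)
  hQV : Q ≤ centralizer (V : Set P)
  hC : ∀ x ∈ X, cj x S ⊓ centralizer (V : Set P) ≤ Q
  fix_le : ∀ a ∈ S, a ∉ Q → V ⊓ centralizer ({a} : Set P) ≤ centralizer (S : Set P)
  cS : Nat.card S = q * Nat.card Q
  cV : Nat.card V = q * Nat.card ↥(V ⊓ centralizer (S : Set P))
  sep : ∀ y ∈ X, S ⊔ cj y S = X → ∀ v ∈ cj y S, v ∉ Q → S ⊔ cj v⁻¹ S = X
  move : ∃ y ∈ X, S ⊔ cj y S = X
  hR : ¬ ⁅V, S⁆ ≤ centralizer (X : Set P)
  hab : ∀ a ∈ S, ∀ b ∈ S, ⁅a, b⁆ ∈ Q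
  hRS : ⁅V, S⁆ ≤ centralizer (S : Set P)
  hp : ∀ v ∈ V, v ^ p = 1
  hOm : ∀ z, z ∈ V ⊓ centralizer (S : Set P) ↔ z ∈ S ⊓ centralizer (S : Set P) ∧ z ^ p = 1
  hZC : Nat.card ↥(V ⊓ centralizer (S : Set P)) = q * Nat.card ↥(V ⊓ centralizer (X : Set P))
  reg : ∀ a ∈ S, a ∉ Q → ∃ v ∈ V, ⁅v, a⁆ ∉ centralizer (X : Set P)
  gen : ∀ N : Subgroup P, N ≤ X → X ≤ normalizer (N : Set P) → ¬ N ⊓ S ≤ Q →
    X ≤ N ⊔ S ∧ ∀ g ∈ X, (orderOf g).Coprime p → g ∈ N
  hcase : ∃ A ∈ maxAb S, ¬ A ≤ Q
  hexch : ∀ A ∈ maxAb S, ¬ A ≤ Q → (A ⊓ Q) ⊔ V ∈ maxAb S ∧ S ≤ A ⊔ Q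

/-- the pair made of two sides -/
def Side.pair {P : Type u} [Group P] {p : ℕ} {S : Subgroup P} (a b : Side P p S) : Pair P p where
  X t := cond t b.X a.X
  S := S
  Q t := cond t b.Q a.Q
  V t := cond t b.V a.V
  q t := cond t b.q a.q
  hQS t := by cases t; exacts [a.hQS, b.hQS]
  hSX t := by cases t; exacts [a.hSX, b.hSX]
  hVQ t := by cases t; exacts [a.hVQ, b.hVQ]
  nQ t := by cases t; exacts [a.nQ, b.nQ]
  nV t := by cases t; exacts [a.nV, b.nV]
  hQV t := by cases t; exacts [a.hQV, b.hQV]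
  hC t := by cases t; exacts [a.hC, b.hC]
  fix_le t := by cases t; exacts [a.fix_le, b.fix_le]
  cS t := by cases t; exacts [a.cS, b.cS]
  cV t := by cases t; exacts [a.cV, b.cV]
  sep t := by cases t; exacts [a.sep, b.sep]
  move t := by cases t; exacts [a.move, b.move]
  hR t := by cases t; exacts [a.hR, b.hR]
  hab t := by cases t; exacts [a.hab, b.hab]
  hRS t := by cases t; exacts [a.hRS, b.hRS]
  hp t := by cases t; exacts [a.hp, b.hp]
  hZ t := by
    cases t
    · exact SetLike.ext fun z => (a.hOm z).trans (b.hOm z).symm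
    · exact SetLike.ext fun z => (b.hOm z).trans (a.hOm z).symm
  hZC t := by cases t; exacts [a.hZC, b.hZC]
  reg t := by cases t; exacts [a.reg, b.reg]
  gen t := by cases t; exacts [a.gen, b.gen]
  hcase t := by cases t; exacts [a.hcase, b.hcase]
  hexch t := by cases t; exacts [a.hexch, b.hexch]

section Transport

variable {H P : Type u} [Group H] [Group P] {π : H →* P} (hπ : Function.Injective π)

include hπ

theorem map_cj (x : H) (K : Subgroup H) : cj (π x) (K.map π) = (cj x K).map π := by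
  ext w
  constructor
  · rintro ⟨_, ⟨k, hk, rfl⟩, rfl⟩
    exact ⟨x * k * x⁻¹, conj_mem_cj hk, by rw [map_mul, map_mul, map_inv]; rfl⟩
  · rintro ⟨_, ⟨k, hk, rfl⟩, rfl⟩
    exact ⟨π k, mem_map_of_mem π hk, by
      show π x * π k * (π x)⁻¹ = π (x * k * x⁻¹)
      rw [map_mul, map_mul, map_inv]⟩

theorem map_inf_centralizer (A B : Subgroup H) :
    A.map π ⊓ centralizer (B.map π : Set P) = (A ⊓ centralizer (B : Set H)).map π := by
  refine le_antisymm ?_ (le_inf (map_mono inf_le_left) ?_)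
  · rintro _ ⟨⟨a, ha, rfl⟩, hc⟩
    exact ⟨a, ⟨ha, mem_centralizer_iff.2 fun s hs => hπ (by
      rw [map_mul, map_mul]; exact mem_centralizer_iff.1 hc _ (mem_map_of_mem π hs))⟩, rfl⟩
  · rintro _ ⟨a, ha, rfl⟩
    refine mem_centralizer_iff.2 ?_
    rintro _ ⟨s, hs, rfl⟩
    rw [← map_mul, ← map_mul, mem_centralizer_iff.1 ha.2 s hs]

theorem mem_map_inf_centralizer {A B : Subgroup H} {a : H}
    (h : π a ∈ A.map π ⊓ centralizer (B.map π : Set P)) : a ∈ A ⊓ centralizer (B : Set H) := by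
  rw [map_inf_centralizer hπ] at h
  exact (mem_map_iff_mem hπ).1 h

theorem map_top_normalizes {K : Subgroup H} [K.Normal] :
    (⊤ : Subgroup H).map π ≤ normalizer (K.map π : Set P) :=
  (map_mono (normalizer_eq_top (H := K)).ge).trans (le_normalizer_map _)

theorem comap_normal {K : Subgroup P} (h : (⊤ : Subgroup H).map π ≤ normalizer (K : Set P)) :
    (K.comap π).Normal :=
  ⟨fun x hx g => by
    show π (g * x * g⁻¹) ∈ K
    rw [map_mul, map_mul, map_inv]
    exact (mem_normalizer_iff.1 (h (mem_map_of_mem π (mem_top g))) _).1 hx⟩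

theorem map_comap_self {K : Subgroup P} (h : K ≤ (⊤ : Subgroup H).map π) : (K.comap π).map π = K :=
  Subgroup.map_comap_eq_self (h.trans (MonoidHom.range_eq_map π).ge)

theorem isMulCommutative_map_iff {A : Subgroup H} : IsMulCommutative (A.map π) ↔ IsMulCommutative A := by
  constructor <;> intro h
  · exact ⟨⟨fun a b => Subtype.ext (hπ (by
      simpa using congrArg Subtype.val (h.is_comm.comm ⟨π a, mem_map_of_mem π a.2⟩ ⟨π b, mem_map_of_mem π b.2⟩)))⟩⟩
  · refine ⟨⟨?_⟩⟩
    rintro ⟨_, a, ha, rfl⟩ ⟨_, b, hb, rfl⟩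
    exact Subtype.ext (by simp only [Subgroup.coe_mul, ← map_mul, congrArg Subtype.val (h.is_comm.comm ⟨a, ha⟩ ⟨b, hb⟩) |> (show _ → a * b = b * a from fun e => e)])

theorem map_mem_maxAb {T A : Subgroup H} [Finite H] : A.map π ∈ maxAb (T.map π) ↔ A ∈ maxAb T := by
  constructor
  · rintro ⟨h1, h2, h3⟩
    refine ⟨(map_le_map_iff_of_injective hπ).1 h1, (isMulCommutative_map_iff hπ).1 h2, fun B hB hBc => ?_⟩
    have := h3 (B.map π) (map_mono hB) ((isMulCommutative_map_iff hπ).2 hBc)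
    rwa [card_map_of_injective hπ, card_map_of_injective hπ] at this
  · rintro ⟨h1, h2, h3⟩
    refine ⟨map_mono h1, (isMulCommutative_map_iff hπ).2 h2, fun B hB hBc => ?_⟩
    have e : (B.comap π).map π = B := map_comap_self hπ (hB.trans (map_mono le_top))
    rw [← e] at hB hBc ⊢
    rw [card_map_of_injective hπ, card_map_of_injective hπ]
    exact h3 _ ((map_le_map_iff_of_injective hπ).1 hB) ((isMulCommutative_map_iff hπ).1 hBc)

end Transport

section

variable {p : ℕ} [hp : Fact p.Prime] {H P : Type u} [Group H] [Finite H] [Group P] {F : Type v} [Field F] [Fintype F]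
  (d : Sit p H F) {π : H →* P} (hπ : Function.Injective π) {S : Subgroup P} (hS : d.S.map π = S)

include d hπ hS

theorem exists_side : ∃ a : Side P p S, a.X = (⊤ : Subgroup H).map π ∧ a.Q = (Cfsg.pCore p H).map π ∧
    a.V = d.W.map π := by
  subst hS
  haveI := d.c.core_normal
  haveI := d.W_normal
  have hcent := map_inf_centralizer hπ d.W d.S
  obtain ⟨A₀, hA₀⟩ := d.exists_case
  refine ⟨{ X := (⊤ : Subgroup H).map π
            Q := (Cfsg.pCore p H).map π
            V := d.W.map π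
            q := p ^ d.c.n
            hQS := map_mono d.c.core_le
            hSX := map_mono le_top
            hVQ := map_mono d.W_le_core
            nQ := map_top_normalizes hπ
            nV := map_top_normalizes hπ
            hQV := ?_, hC := ?_, fix_le := ?_, cS := ?_, cV := ?_, sep := ?_, move := ?_, hR := ?_
            hab := ?_, hRS := ?_, hp := ?_, hOm := ?_, hZC := ?_, reg := ?_, gen := ?_, hcase := ?_
            hexch := ?_ }, rfl, rfl, rfl⟩
  · rintro _ ⟨q, hq, rfl⟩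
    refine mem_centralizer_iff.2 ?_
    rintro _ ⟨w, hw, rfl⟩
    rw [← map_mul, ← map_mul, mem_centralizer_iff.1 (d.core_le_centralizer hq) w hw]
  · rintro _ ⟨x, -, rfl⟩
    rw [map_cj hπ, map_inf_centralizer hπ]
    exact map_mono (d.cj_inf_centralizer x)
  · rintro _ ⟨a, ha, rfl⟩ hna _ ⟨⟨v, hv, rfl⟩, hvc⟩
    have h1 := d.fix_le ha (fun h => hna (mem_map_of_mem π h)) ⟨hv, mem_centralizer_singleton_iff.2
      (hπ (by rw [map_mul, map_mul]; exact mem_centralizer_singleton_iff.1 hvc))⟩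
    exact (hcent.ge (mem_map_of_mem π ⟨hv, h1⟩)).2
  · rw [card_map_of_injective hπ, card_map_of_injective hπ, d.card_S]
  · rw [hcent, card_map_of_injective hπ, card_map_of_injective hπ, d.card_W]
  · rintro _ ⟨y, -, rfl⟩ hy _ hv hvQ
    rw [map_cj hπ] at hv
    obtain ⟨v, hv, rfl⟩ := hv
    rw [map_cj hπ, ← Subgroup.map_sup] at hy
    rw [← map_inv, map_cj hπ, ← Subgroup.map_sup,
      d.sep (map_injective hπ hy) hv fun h => hvQ (mem_map_of_mem π h)]
  · obtain ⟨y, hy⟩ := d.exists_far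
    exact ⟨π y, mem_map_of_mem π (mem_top y), by rw [map_cj hπ, ← Subgroup.map_sup, hy]⟩
  · intro h
    refine d.not_comm_central fun g hg => mem_center_iff.2 fun x => hπ ?_
    rw [map_mul, map_mul]
    have : π g ∈ ⁅d.W.map π, d.S.map π⁆ := by rw [← map_commutator]; exact mem_map_of_mem π hg
    exact mem_centralizer_iff.1 (h this) _ (mem_map_of_mem π (mem_top x))
  · rintro _ ⟨a, ha, rfl⟩ _ ⟨b, hb, rfl⟩
    rw [← map_commutatorElement]
    exact mem_map_of_mem π (d.comm_mem ha hb)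
  · rw [← map_commutator]
    rintro _ ⟨g, hg, rfl⟩
    refine mem_centralizer_iff.2 ?_
    rintro _ ⟨s, hs, rfl⟩
    rw [← map_mul, ← map_mul, mem_centralizer_iff.1 (d.comm_le hg) s hs]
  · rintro _ ⟨v, hv, rfl⟩
    rw [← map_pow, d.W_pow hv, map_one]
  · intro z
    rw [hcent, map_inf_centralizer hπ]
    constructor
    · rintro ⟨v, hv, rfl⟩
      exact ⟨mem_map_of_mem π ⟨d.W_le_S hv.1, hv.2⟩, by rw [← map_pow, d.W_pow hv.1, map_one]⟩
    · rintro ⟨⟨v, hv, rfl⟩, h1⟩
      refine mem_map_of_mem π ⟨⟨Subgroup.le_normalClosure hv, hπ ?_⟩, hv.2⟩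
      rw [map_pow, h1, map_one]
  · rw [hcent, map_inf_centralizer hπ, card_map_of_injective hπ, card_map_of_injective hπ, d.card_Z]
    congr 3
    rw [coe_top, centralizer_univ]
  · rintro _ ⟨a, ha, rfl⟩ hna
    by_contra hcon
    push Not at hcon
    obtain ⟨u, hu, huZ⟩ : ∃ u ∈ d.W, u ∉ centralizer (d.S : Set H) := by
      by_contra hne
      push Not at hne
      have h1 := card_le_of_le (show d.W ≤ d.Z from fun w hw => ⟨hw, hne w hw⟩)
      rw [d.card_W] at h1
      exact absurd h1 (not_le.2 (lt_mul_of_one_lt_left Nat.card_pos d.one_lt_q))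
    refine hna (mem_map_of_mem π (d.mem_core_of_central hu huZ ha (mem_center_iff.2 fun x => hπ ?_)))
    rw [map_mul, map_mul, map_commutatorElement]
    exact mem_centralizer_iff.1 (hcon _ (mem_map_of_mem π hu)) _ (mem_map_of_mem π (mem_top x))
  · intro N hNX hXN hne
    haveI := comap_normal hπ hXN
    have e := map_comap_self hπ hNX
    have hnot : ¬ N.comap π ≤ d.c.M := fun h => hne (by
      rintro z ⟨hzN, ⟨s, hs, rfl⟩⟩
      exact mem_map_of_mem π (d.c.inf_le_core _ h ⟨hs, hzN⟩))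
    refine ⟨?_, ?_⟩
    · rw [← d.c.sup_eq_top hnot, Subgroup.map_sup, e]
    · rintro _ ⟨g, -, rfl⟩ hg
      rw [orderOf_injective π hπ] at hg
      exact d.c.mem_of_coprime hnot hg
  · exact ⟨A₀.map π, (map_mem_maxAb hπ).2 hA₀.hA, fun h => hA₀.hAQ ((map_le_map_iff_of_injective hπ).1 h)⟩
  · intro A hA hAQ
    have e := map_comap_self hπ (hA.1.trans (map_mono le_top))
    rw [← e] at hA hAQ ⊢
    set B := A.comap π
    have hB : d.c.Case B := ⟨(map_mem_maxAb hπ).1 hA, fun h => hAQ (map_mono h), hA₀.hCV⟩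
    obtain ⟨-, -, hWV, hBV, hSB, hmax⟩ := hB.main
    rw [← Subgroup.map_inf _ _ _ hπ, ← Subgroup.map_sup, ← Subgroup.map_sup]
    refine ⟨(map_mem_maxAb hπ).2 ?_, map_mono hSB⟩
    have hz : d.c.Zs ≤ B ⊓ Cfsg.pCore p H := le_inf (hBV.ge.trans inf_le_left) d.c.Zs_le_core
    rwa [show d.W = hB.W from rfl, show (B ⊓ Cfsg.pCore p H) ⊔ hB.W = (B ⊓ Cfsg.pCore p H) ⊔ d.c.Vc by
      rw [← hWV, sup_comm hB.W, ← sup_assoc, sup_eq_left.2 hz]]

end

section

variable {p : ℕ} [hp : Fact p.Prime] {H P : Type u} [Group H] [Finite H] [Group P] [Finite P] {F : Type v} [Field F]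
  [Fintype F] (d : Sit p H F) {π : H →* P} (hπ : Function.Injective π) (D : Pair P p) {t : Bool}
  (hS : d.S.map π = D.S) (hX : D.X t = (⊤ : Subgroup H).map π) (hQ : D.Q t = (Cfsg.pCore p H).map π)
  (hV : D.V t = d.W.map π)

include d hπ hS hX hQ hV

theorem central_of_one (h : D.One t) : s0 p d.S ⊓ centralizer (d.S : Set H) ≤ center H := by
  obtain ⟨A, M, hAQ, hab, hAp, hVM, hMQ, hXM, h1, h2⟩ := h
  rw [hQ] at hAQ hMQ h2
  rw [hX] at hXM h1 h2
  rw [hV] at hVM h1
  haveI := comap_normal hπ hXM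
  haveI := d.c.core_normal
  haveI := d.W_normal
  have eA := map_comap_self hπ ((le_sup_left.trans hAQ.le).trans (hS.ge.trans (map_mono le_top)))
  refine d.one_central (A := A.comap π) ?_ (fun a ha b hb => hπ ?_) (fun a ha => hπ ?_) ?_
  · refine map_injective hπ ?_
    rw [Subgroup.map_sup, eA, hAQ, hS]
  · rw [map_mul, map_mul, hab _ ha _ hb]
  · rw [map_pow, hAp _ ha, map_one]
  · refine Triv.trans (N₂ := M.comap π) ((Cfsg.Lib.Components.pCore_normal_and_isPGroup p).2.to_le fun x hx =>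
      (mem_map_iff_mem hπ).1 (hMQ hx)) (fun g hg x hx => (mem_map_iff_mem hπ).1 ?_) fun g hg x hx => ?_
    · rw [map_commutatorElement]
      exact h1 _ (mem_map_of_mem π (mem_top g)) (by rwa [orderOf_injective π hπ]) _ hx
    · show π ⁅x, g⁆ ∈ M
      rw [map_commutatorElement]
      exact h2 _ (mem_map_of_mem π (mem_top g)) (by rwa [orderOf_injective π hπ]) _ (mem_map_of_mem π hx)

theorem central_of_two (h : D.DistTwo) (hq : D.q t = p ^ d.c.n) :
    s0 p d.S ⊓ centralizer (d.S : Set H) ≤ center H := by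
  obtain ⟨y, x, hy, hx, f, cW, cZ, a₀, ha₀, b₀, hb₀, hc1, hc2⟩ := D.dist_two h t
  rw [hq] at cW cZ
  set W₂ := D.fW t y with hW₂
  set ZM₂ := D.fZM t y with hZM₂
  set K₂ := D.fK t y with hK₂
  set D₂ := D.fD t y with hD₂
  have hSr : D.S ≤ (⊤ : Subgroup H).map π := hS.ge.trans (map_mono le_top)
  have hQr : D.Q t ≤ (⊤ : Subgroup H).map π := (D.hQS t).trans hSr
  have hWr : W₂ ≤ (⊤ : Subgroup H).map π := f.WQ.trans hQr
  have eW := map_comap_self hπ hWr
  have eZ : (ZM₂.comap π).map π = ZM₂ := map_comap_self hπ ((inf_le_left : ZM₂ ≤ W₂).trans hWr)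
  have eK : (K₂.comap π).map π = K₂ := map_comap_self hπ (((inf_le_left : K₂ ≤ ZM₂).trans inf_le_left).trans hWr)
  have hA2S : cj x (D.V t) ≤ D.S := le_sup_left.trans f.A2S.le
  have eA := map_comap_self hπ (hA2S.trans hSr)
  have hC : ∀ {u : H}, π u ∈ D.C t → u ∈ d.C := fun {u} hu => by
    rw [Pair.C, hV, hX] at hu
    have := mem_map_inf_centralizer hπ hu
    rwa [coe_top, centralizer_univ] at this
  have hZ : ∀ {u : H}, π u ∈ D.Z → u ∈ d.Z := fun {u} hu => by
    rw [← D.Z_eq t, hV, ← hS] at hu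
    exact mem_map_inf_centralizer hπ hu
  have hW : ∀ {u : H}, π u ∈ D.V t → u ∈ d.W := fun {u} hu => by
    rw [hV] at hu
    exact (mem_map_iff_mem hπ).1 hu
  have hcore : ∀ {u : H}, π u ∈ D.Q t ↔ u ∈ Cfsg.pCore p H := fun {u} => by rw [hQ]; exact mem_map_iff_mem hπ
  let e : d.Dist2 :=
    { WB := W₂.comap π
      ZM := ZM₂.comap π
      K := K₂.comap π
      D := D₂.comap π
      A2 := (cj x (D.V t)).comap π
      U0 := ⊥
      y₀ := 1
      nWB := comap_normal hπ (hX ▸ f.WX)
      nK := comap_normal hπ (hX ▸ f.KX)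
      nD := comap_normal hπ (hX ▸ f.DX)
      WK := fun w hw => f.VK (hV.ge (mem_map_of_mem π hw))
      KZM := comap_mono inf_le_left
      ZMW := comap_mono inf_le_left
      WBQ := fun w hw => hcore.1 (f.WQ hw)
      DQ := fun k hk => hcore.1 ((inf_le_left.trans inf_le_left : D₂ ≤ D.Q t) hk)
      KD := comap_mono f.kD
      WQ := fun w hw z hz => hC (by rw [map_commutatorElement]; exact f.WQcomm _ hw _ (hcore.2 hz))
      fixK := fun k hk g => hW (by
        rw [map_commutatorElement]; exact f.fixK _ hk _ (hX.ge (mem_map_of_mem π (mem_top g))))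
      fixZ := fun k hk s hs => hZ (by
        rw [map_commutatorElement]; exact f.fixZ _ hk _ (hS.le (mem_map_of_mem π hs)))
      move := fun w hw s hs => by
        show π ⁅w, s⁆ ∈ ZM₂
        rw [map_commutatorElement]
        exact f.move _ hw _ (hS.le (mem_map_of_mem π hs))
      inter := fun z hz u hu => f.inter (π z) (hX.ge (mem_map_of_mem π (mem_top z)))
        (by rw [← hS, hX, map_cj hπ, ← Subgroup.map_sup, hz]) ⟨hu.1, by
          show π u ∈ cj (π z) ZM₂
          rw [← eZ, map_cj hπ]; exact mem_map_of_mem π hu.2⟩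
      card_WB := by
        rw [← card_map_of_injective hπ (K := W₂.comap π), ← card_map_of_injective hπ (K := ZM₂.comap π), eW, eZ]
        exact cW
      card_ZM := by
        rw [← card_map_of_injective hπ (K := K₂.comap π), ← card_map_of_injective hπ (K := ZM₂.comap π), eK, eZ]
        exact cZ
      A2S := map_injective hπ (by rw [Subgroup.map_sup, eA, ← hQ, f.A2S, hS])
      A2ab := fun a ha b hb => hπ (by
        rw [map_mul, map_mul]
        obtain ⟨v, hv, hv'⟩ := (ha : π a ∈ cj x (D.V t))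
        obtain ⟨w, hw, hw'⟩ := (hb : π b ∈ cj x (D.V t))
        rw [← hv', ← hw']
        exact (map_mul _ v w).symm.trans ((congrArg (MulAut.conj x).toMonoidHom
          (D.V_comm (D.hVQ t hv) hw)).trans (map_mul _ w v)))
      A2pow := fun a ha => hπ (by
        obtain ⟨v, hv, hv'⟩ := (ha : π a ∈ cj x (D.V t))
        rw [map_pow, ← hv', ← map_pow, D.hp t v hv, map_one, map_one])
      DA2 := fun k hk a ha => hZ (D.R_le_Z t (by
        rw [map_commutatorElement]
        exact f.DA2 _ ((inf_le_left.trans inf_le_right : D₂ ≤ D.Q (!t)) hk) _ ha))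
      DW := fun k hk w hw => hπ (by rw [map_mul, map_mul]; exact f.DW _ hk _ hw)
      ZMab := fun a ha b hb => hπ (by rw [map_mul, map_mul]; exact f.ZMab _ ha _ hb)
      decQ := fun z hz => by
        obtain ⟨w, hw, k, hk, he⟩ := f.decQ _ (hcore.2 hz)
        obtain ⟨w', -, rfl⟩ := hWr hw
        obtain ⟨k', -, rfl⟩ := hQr ((inf_le_left.trans inf_le_left : D₂ ≤ D.Q t) hk)
        exact ⟨w', hw, k', hk, hπ (by rw [map_mul, he])⟩
      genW := fun T hT => by
        have h1 : ∀ u ∈ W₂, u ^ p = 1 → u ∈ T.map π := fun u hu hup => by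
          obtain ⟨u', -, rfl⟩ := hWr hu
          exact mem_map_of_mem π (hT u' hu (hπ (by rw [map_pow, hup, map_one])))
        have h2 : W₂ ≤ T.map π := by
          rw [hW₂]
          refine iSup_le fun z => ?_
          have hle : cj (z : P) (D.V (!t) ⊔ cj y (D.V (!t))) ≤ W₂ :=
            le_iSup (fun z : ↥(D.X t) => cj (z : P) (D.V (!t) ⊔ cj y (D.V (!t)))) z
          rw [cj_sup] at hle ⊢
          refine sup_le ?_ ?_
          · rintro _ ⟨v, hv, rfl⟩
            exact h1 _ (hle (mem_sup_left ⟨v, hv, rfl⟩)) (by rw [← map_pow, D.hp _ v hv, map_one])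
          · rintro _ ⟨_, ⟨v, hv, rfl⟩, rfl⟩
            exact h1 _ (hle (mem_sup_right ⟨_, ⟨v, hv, rfl⟩, rfl⟩))
              (by rw [← map_pow, ← map_pow, D.hp _ v hv, map_one, map_one])
        intro w hw
        exact (mem_map_iff_mem hπ).1 (h2 hw)
      crit := by
        obtain ⟨a, -, rfl⟩ := (hA2S.trans hSr) ha₀
        have hbW : b₀ ∈ W₂ := f.ABW (mem_sup_right hb₀)
        obtain ⟨b, -, rfl⟩ := hWr hbW
        refine ⟨a, ha₀, b, hbW, hZ (D.R_le_Z t ?_), fun hcC => hc2 ?_⟩
        · rw [map_commutatorElement, map_commutatorElement]; exact hc1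
        · rw [hX, ← map_commutatorElement, ← map_commutatorElement]
          refine mem_centralizer_iff.2 ?_
          rintro _ ⟨g, -, rfl⟩
          rw [← map_mul, ← map_mul, mem_center_iff.1 hcC.2 g] }
  exact d.two_central e

end

/-- two groups over one Sylow subgroup -/
theorem main_pair {p : ℕ} [hp : Fact p.Prime] {S : Type u} [Group S] [Finite S] {Ga Gb : Type u} [Group Ga]
    [Finite Ga] [Group Gb] [Finite Gb] {Fa : Type v} [Field Fa] [Fintype Fa] {Fb : Type w} [Field Fb] [Fintype Fb]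
    {τa : S →* Ga} {τb : S →* Gb} (hτa : Function.Injective τa) (hτb : Function.Injective τb)
    (da : Sit p Ga Fa) (db : Sit p Gb Fb) (hSa : da.S = τa.range) (hSb : db.S = τb.range) :
    (((da.W.comap τa ⊔ db.W.comap τb).map τa).Normal ∧ ((da.W.comap τa ⊔ db.W.comap τb).map τb).Normal) ∨
      (s0 p (⊤ : Subgroup S) ⊓ center S).map τa ≤ center Ga ∨
      (s0 p (⊤ : Subgroup S) ⊓ center S).map τb ≤ center Gb := by
  obtain ⟨N, hN⟩ : ∃ N, N = τa.range.index * τb.range.index := ⟨_, rfl⟩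
  obtain ⟨πa, hπa, ha⟩ := exists_rep τa hτa (Nat.pos_of_ne_zero (index_ne_zero_of_finite (H := τb.range))) hN.symm
  obtain ⟨πb, hπb, hb⟩ := exists_rep τb hτb (Nat.pos_of_ne_zero (index_ne_zero_of_finite (H := τa.range)))
    ((mul_comm _ _).trans hN.symm)
  have hl : πa.comp τa = πb.comp τb := MonoidHom.ext fun s => Equiv.ext fun ⟨s', x⟩ => (ha s s' x).trans (hb s s' x).symm
  have eb : db.S.map πb = da.S.map πa := by
    rw [hSa, hSb, MonoidHom.map_range, MonoidHom.map_range, hl]
  obtain ⟨A, hAX, hAQ, hAV⟩ := exists_side da hπa (S := da.S.map πa) rfl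
  obtain ⟨B, hBX, hBQ, hBV⟩ := exists_side db hπb eb
  set D := A.pair B
  have hcen : ∀ {G : Type u} [Group G] (τ : S →* G), (s0 p (⊤ : Subgroup S) ⊓ center S).map τ ≤
      s0 p τ.range ⊓ centralizer (τ.range : Set G) := fun {G} _ τ => by
    refine le_inf ((map_mono inf_le_left).trans (by rw [map_s0, MonoidHom.range_eq_map])) ?_
    rintro _ ⟨z, hz, rfl⟩
    refine mem_centralizer_iff.2 ?_
    rintro _ ⟨s, rfl⟩
    rw [← map_mul, ← map_mul, mem_center_iff.1 hz.2 s]
  have hca : s0 p da.S ⊓ centralizer (da.S : Set Ga) ≤ center Ga →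
      (s0 p (⊤ : Subgroup S) ⊓ center S).map τa ≤ center Ga := fun h => (hcen τa).trans (hSa ▸ h)
  have hcb : s0 p db.S ⊓ centralizer (db.S : Set Gb) ≤ center Gb →
      (s0 p (⊤ : Subgroup S) ⊓ center S).map τb ≤ center Gb := fun h => (hcen τb).trans (hSb ▸ h)
  by_cases hgood : ∃ t, ¬ D.Good t
  · rcases D.main hgood with ⟨t, ht⟩ | h2
    · cases t
      · exact Or.inr (Or.inl (hca (central_of_one da hπa D (t := false) rfl hAX hAQ hAV ht)))
      · exact Or.inr (Or.inr (hcb (central_of_one db hπb D (t := true) eb hBX hBQ hBV ht)))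
    · refine Or.inr (Or.inl (hca (central_of_two da hπa D (t := false) rfl hAX hAQ hAV h2 ?_)))
      have h1 := D.cS false
      rw [show D.S = da.S.map πa from rfl, show D.Q false = A.Q from rfl, hAQ, card_map_of_injective hπa,
        card_map_of_injective hπa, da.card_S] at h1
      exact (Nat.eq_of_mul_eq_mul_right Nat.card_pos h1).symm
  · push Not at hgood
    left
    have hL : D.L = (da.W.comap τa ⊔ db.W.comap τb).map (πa.comp τa) := by
      rw [Subgroup.map_sup, ← Subgroup.map_map, hl, ← Subgroup.map_map,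
        Subgroup.map_comap_eq_self (da.W_le_S.trans hSa.le), Subgroup.map_comap_eq_self (db.W_le_S.trans hSb.le),
        ← hAV, ← hBV]
      rfl
    constructor
    · have h1 := hgood false
      rw [Pair.Good, show D.X false = A.X from rfl, hAX, hL, ← Subgroup.map_map] at h1
      have := comap_normal hπa h1
      rwa [comap_map_eq_self_of_injective hπa] at this
    · have h1 := hgood true
      rw [Pair.Good, show D.X true = B.X from rfl, hBX, hL, hl, ← Subgroup.map_map] at h1
      have := comap_normal hπb h1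
      rwa [comap_map_eq_self_of_injective hπb] at this

end Cfsg.Lib.PushUp.Char
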