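import Cfsg.Agent.PushUp.Char.Graph

/-!
Two groups with a common Sylow subgroup: either both preserve the join of the two modules, or one of them has
an elementary supplement with a trivial core, or both are at critical distance two.
-/

set_option autoImplicit false
set_option linter.unusedSectionVars false
set_option linter.style.haveILetI false

namespace Cfsg.Lib.PushUp.Char

open Subgroup Cfsg.Lib.BGN Cfsg.Lib.BGN.P
open Cfsg.Lib.Fusion (maxAb)
open scoped commutatorElement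

universe u

variable {G : Type u} [Group G]

/-- the elements of `X` fixing `K` modulo `T` -/
def fixRel (X K T : Subgroup G) (hT : X ≤ normalizer (T : Set G)) : Subgroup G where
  carrier := {g | g ∈ X ∧ ∀ w ∈ K, ⁅w, g⁆ ∈ T}
  one_mem' := ⟨one_mem _, fun w _ => by rw [commutatorElement_one_right]; exact one_mem _⟩
  mul_mem' := fun {a b} ha hb => ⟨mul_mem ha.1 hb.1, fun w hw => by
    rw [show ⁅w, a * b⁆ = ⁅w, a⁆ * (a * ⁅w, b⁆ * a⁻¹) by simp only [commutatorElement_def]; group]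
    exact mul_mem (ha.2 w hw) ((mem_normalizer_iff.1 (hT ha.1) _).1 (hb.2 w hw))⟩
  inv_mem' := fun {a} ha => ⟨inv_mem ha.1, fun w hw => by
    rw [show ⁅w, a⁻¹⁆ = a⁻¹ * ⁅w, a⁆⁻¹ * a⁻¹⁻¹ by simp only [commutatorElement_def]; group]
    exact (mem_normalizer_iff.1 (inv_mem (hT ha.1)) _).1 (inv_mem (ha.2 w hw))⟩

theorem fixRel_normal [Finite G] {X K T : Subgroup G} (hT : X ≤ normalizer (T : Set G))
    (hK : X ≤ normalizer (K : Set G)) : X ≤ normalizer (fixRel X K T hT : Set G) := by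
  refine le_normalizer_of_forall fun x hx => ?_
  rintro _ ⟨g, hg, rfl⟩
  refine ⟨mul_mem (mul_mem hx hg.1) (inv_mem hx), fun w hw => ?_⟩
  show ⁅w, x * g * x⁻¹⁆ ∈ T
  have hw' : x⁻¹ * w * x ∈ K := by simpa using (mem_normalizer_iff.1 (hK (inv_mem hx)) w).1 hw
  rw [show ⁅w, x * g * x⁻¹⁆ = x * ⁅x⁻¹ * w * x, g⁆ * x⁻¹ by simp only [commutatorElement_def]; group]
  exact (mem_normalizer_iff.1 (hT hx) _).1 (hg.2 _ hw')

theorem fixRel_normalizes [Finite G] {X K T M : Subgroup G} (hT : X ≤ normalizer (T : Set G)) (hTM : T ≤ M)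
    (hMK : M ≤ K) : fixRel X K T hT ≤ normalizer (M : Set G) := by
  refine le_normalizer_of_forall fun g hg => ?_
  rintro _ ⟨m, hm, rfl⟩
  show g * m * g⁻¹ ∈ M
  have hg' : ⁅m, g⁻¹⁆ ∈ T := (fixRel X K T hT).inv_mem hg |>.2 m (hMK hm)
  have h2 : g * ⁅m, g⁻¹⁆ * g⁻¹ ∈ T := (mem_normalizer_iff.1 (hT hg.1) _).1 hg'
  rw [show g * m * g⁻¹ = g * ⁅m, g⁻¹⁆ * g⁻¹ * m by simp only [commutatorElement_def]; group]
  exact mul_mem (hTM h2) hm

theorem bool_eq_not {a b : Bool} (h : a ≠ b) : a = !b := by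
  revert h; cases a <;> cases b <;> decide

theorem maxAb_absorb {S B K : Subgroup G} [Finite G] (hB : B ∈ maxAb S) (hK : K ≤ S)
    (hc : K ≤ centralizer (B : Set G)) : K ≤ B := by
  intro x hx
  haveI := hB.2.1
  have hcomm : IsMulCommutative ↥(B ⊔ zpowers x) := comm_sup (by
    have hxB : ∀ b ∈ B, Commute b x := fun b hb => mem_centralizer_iff.1 (hc hx) b hb
    refine sup_le (fun a ha => mem_inf.2 ⟨mem_centralizer_iff.2 fun b hb => comm_of hB.2.1 hb ha,
      mem_centralizer_iff.2 fun b hb => ?_⟩) (zpowers_le.2 (mem_inf.2 ⟨hc hx, mem_centralizer_iff.2 fun b hb => ?_⟩))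
    · obtain ⟨k, rfl⟩ := mem_zpowers_iff.1 hb
      exact ((hxB a ha).zpow_right k).symm.eq
    · obtain ⟨k, rfl⟩ := mem_zpowers_iff.1 hb
      exact ((Commute.refl x).zpow_left k).eq)
  exact (Subgroup.eq_of_le_of_card_ge (le_sup_left : B ≤ B ⊔ zpowers x)
    (hB.2.2 _ (sup_le hB.1 (zpowers_le.2 (hK hx))) hcomm)).ge (mem_sup_right (mem_zpowers x))

namespace Pair

variable {p : ℕ} [Finite G] (d : Pair G p)

include d

/-- an elementary supplement of the core with trivial sections -/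
def One (t : Bool) : Prop := ∃ A D : Subgroup G, A ⊔ d.Q t = d.S ∧ (∀ a ∈ A, ∀ b ∈ A, a * b = b * a) ∧
  (∀ a ∈ A, a ^ p = 1) ∧ d.V t ≤ D ∧ D ≤ d.Q t ∧ d.X t ≤ normalizer (D : Set G) ∧
  (∀ g ∈ d.X t, (orderOf g).Coprime p → ∀ x ∈ D, ⁅x, g⁆ ∈ d.V t) ∧
  (∀ g ∈ d.X t, (orderOf g).Coprime p → ∀ x ∈ d.Q t, ⁅x, g⁆ ∈ D)

/-- both ends at critical distance two -/
def DistTwo : Prop := d.Low 2 ∧ (∀ t, ¬ d.Good t) ∧ (∀ t, d.R (!t) ≤ centralizer (d.X t : Set G)) ∧
  ∀ t y, d.Far t y → ¬ cj y (d.V (!t)) ≤ d.Q (!t)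

theorem hC_conj {g : G} {t : Bool} {K : Subgroup G} (h1 : K ≤ cj g d.S)
    (h2 : K ≤ centralizer (cj g (d.V t) : Set G)) : K ≤ cj g (d.Q t) := fun z hz => by
  refine mem_cj.2 (d.hC t 1 (one_mem _) ⟨by rw [cj_one]; exact mem_cj.1 (h1 hz), ?_⟩)
  have h3 := h2 hz
  rw [← cj_centralizer] at h3
  exact mem_cj.1 h3

/-- a subgroup of `S` fixing a chain makes the group normalise the middle -/
theorem normalizes_between {t : Bool} {K T M B : Subgroup G} (hT : d.X t ≤ normalizer (T : Set G))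
    (hK : d.X t ≤ normalizer (K : Set G)) (hB : B ≤ d.S) (hBQ : ¬ B ≤ d.Q t) (hKB : ⁅K, B⁆ ≤ T) (hTM : T ≤ M)
    (hMK : M ≤ K) (hSM : d.S ≤ normalizer (M : Set G)) : d.X t ≤ normalizer (M : Set G) := by
  refine (d.gen t (fixRel (d.X t) K T hT) (fun g hg => hg.1) (fixRel_normal hT hK) fun h => hBQ fun b hb =>
    h ⟨⟨d.hSX t (hB hb), fun w hw => hKB (commutator_mem_commutator hw hb)⟩, hB hb⟩).1.trans ?_
  exact sup_le (fixRel_normalizes hT hTM hMK) hSM

theorem coprime_between {t : Bool} {K T B : Subgroup G} (hT : d.X t ≤ normalizer (T : Set G))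
    (hK : d.X t ≤ normalizer (K : Set G)) (hB : B ≤ d.S) (hBQ : ¬ B ≤ d.Q t) (hKB : ⁅K, B⁆ ≤ T) {g : G}
    (hg : g ∈ d.X t) (hcop : (orderOf g).Coprime p) : ∀ x ∈ K, ⁅x, g⁆ ∈ T :=
  ((d.gen t (fixRel (d.X t) K T hT) (fun g hg => hg.1) (fixRel_normal hT hK) fun h => hBQ fun b hb =>
    h ⟨⟨d.hSX t (hB hb), fun w hw => hKB (commutator_mem_commutator hw hb)⟩, hB hb⟩).2 g hg hcop).2

/-- the commutator of an exchanged subgroup with the outside element lies in the commutator of the module -/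
theorem exch_comm {t : Bool} {A : Subgroup G} (hA : A ∈ maxAb d.S) :
    ⁅(A ⊓ d.Q t) ⊔ d.V t, A⁆ ≤ d.R t := by
  have hsub : (A ⊓ d.Q t) ⊔ d.V t ≤ d.S := sup_le (inf_le_left.trans hA.1) (d.VS t)
  let T : Subgroup G :=
    { carrier := {z | z ∈ d.S ∧ ∀ a ∈ A, ⁅z, a⁆ ∈ d.R t}
      one_mem' := ⟨one_mem _, fun a _ => by simp⟩
      mul_mem' := fun {x y} hx hy => ⟨mul_mem hx.1 hy.1, fun a ha => by
        rw [show ⁅x * y, a⁆ = x * ⁅y, a⁆ * x⁻¹ * ⁅x, a⁆ by simp only [commutatorElement_def]; group,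
          d.Z_fix (d.R_le_Z t (hy.2 a ha)) hx.1]
        exact mul_mem (hy.2 a ha) (hx.2 a ha)⟩
      inv_mem' := fun {x} hx => ⟨inv_mem hx.1, fun a ha => by
        rw [show ⁅x⁻¹, a⁆ = x⁻¹ * ⁅x, a⁆⁻¹ * x⁻¹⁻¹ by simp only [commutatorElement_def]; group,
          d.Z_fix (inv_mem (d.R_le_Z t (hx.2 a ha))) (inv_mem hx.1)]
        exact inv_mem (hx.2 a ha)⟩ }
  have hle : (A ⊓ d.Q t) ⊔ d.V t ≤ T := by
    refine sup_le (fun z hz => ⟨hA.1 hz.1, fun a ha => ?_⟩)
      (fun z hz => ⟨d.VS t hz, fun a ha => commutator_mem_commutator hz (hA.1 ha)⟩)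
    rw [commutatorElement_eq_one_iff_mul_comm.2 (comm_of hA.2.1 hz.1 ha)]
    exact one_mem _
  exact commutator_le.2 fun z hz a ha => (hle hz).2 a ha

/-- if the second vertex is bad, the commutators of the first are fixed by its group -/
theorem bad_fixed (hb : d.Low 3) {l : Bool} (hl : ¬ d.Good l) : d.R (!l) ≤ centralizer (d.X l : Set G) := by
  obtain ⟨i, rfl⟩ : ∃ i, l = !i := ⟨!l, (Bool.not_not l).symm⟩
  rw [Bool.not_not]
  obtain ⟨x0, hx0⟩ := d.exists_far (!i)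
  set U := cj x0 (d.V i) with hUdef
  have hVQl : d.V i ≤ d.Q (!i) := by
    have := d.low_adj hb (by norm_num) (!i)
    rwa [Bool.not_not] at this
  have hxQ : ∀ x ∈ d.X (!i), cj x (d.V i) ≤ d.Q (!i) := fun x hx =>
    (cj_mono x hVQl).trans (d.cj_Q hx).le
  have hcommX : ∀ x ∈ d.X (!i), ∀ x' ∈ d.X (!i), cj x (d.V i) ≤ centralizer (cj x' (d.V i) : Set G) := by
    intro x hx x' hx'
    refine le_trans ?_ (d.cjQ_cent x' i)
    rw [← cj_le_iff x'⁻¹, cj_inv_left, ← cj_mul]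
    exact d.low_two hb le_rfl i (mul_mem (inv_mem hx') hx)
  set W0 := (⨆ s : ↥d.S, cj ((s : G) * x0) (d.V i)) ⊔ d.V (!i) with hW0def
  have hsX : ∀ s : ↥d.S, (s : G) * x0 ∈ d.X (!i) := fun s => mul_mem (d.hSX _ s.2) hx0.1
  have hW0Q : W0 ≤ d.Q (!i) := sup_le (iSup_le fun s => hxQ _ (hsX s)) (d.hVQ _)
  have hUW0 : U ≤ W0 := by
    refine le_trans ?_ le_sup_left
    refine le_trans (le_of_eq ?_) (le_iSup (fun s : ↥d.S => cj ((s : G) * x0) (d.V i)) 1)
    simp [hUdef]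
  have hW0S : d.S ≤ normalizer (W0 : Set G) := le_normalizer_of_forall fun s hs => by
    rw [hW0def, cj_sup, d.cj_V (d.hSX _ hs)]
    refine sup_le_sup ?_ le_rfl
    rw [cj, Subgroup.map_iSup]
    refine iSup_le fun s' => le_trans (le_of_eq ?_)
      (le_iSup (fun s : ↥d.S => cj ((s : G) * x0) (d.V i)) (⟨s, hs⟩ * s'))
    show cj s (cj ((s' : G) * x0) (d.V i)) = _
    rw [← cj_mul, ← mul_assoc]; rfl
  have hW0c : W0 ≤ centralizer (W0 : Set G) := by
    have h1 : ∀ s : ↥d.S, cj ((s : G) * x0) (d.V i) ≤ centralizer (W0 : Set G) := fun s => by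
      rw [le_centralizer_iff]
      exact sup_le (iSup_le fun s' => hcommX _ (hsX s') _ (hsX s))
        (le_centralizer_iff.1 ((hxQ _ (hsX s)).trans (d.hQV _)))
    exact sup_le (iSup_le h1) (le_centralizer_iff.1 (hW0Q.trans (d.hQV _)))
  obtain ⟨A, hA, hAQ⟩ := d.hcase (!i)
  obtain ⟨hB1, hSA⟩ := d.hexch (!i) A hA hAQ
  set E := A ⊓ d.Q (!i) with hEdef
  set B1 := E ⊔ d.V (!i) with hB1def
  have hQn : A ≤ normalizer (d.Q (!i) : Set G) := (hA.1.trans (d.hSX _)).trans (d.nQ _)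
  by_cases hcase : E ≤ centralizer (W0 : Set G)
  · -- the module of the second vertex is preserved
    exfalso
    have hW0B : W0 ≤ B1 := maxAb_absorb hB1 (hW0Q.trans (d.hQS _)) (by
      rw [le_centralizer_iff]
      exact sup_le hcase (le_centralizer_iff.1 (hW0Q.trans (d.hQV _))))
    have hA1 : A ≤ normalizer (cj x0 d.L : Set G) := le_normalizer_of_forall fun a ha => by
      rw [← d.L_eq (!i), Bool.not_not, cj_sup x0, d.cj_V hx0.1, cj_sup, d.cj_V (d.hSX _ (hA.1 ha))]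
      refine sup_le le_sup_left ?_
      rintro _ ⟨v, hv, rfl⟩
      show a * v * a⁻¹ ∈ _
      have h1 : ⁅v, a⁆ ∈ d.V (!i) :=
        d.R_le_V _ (d.exch_comm hA (commutator_mem_commutator (hW0B (hUW0 hv)) ha))
      rw [show a * v * a⁻¹ = ⁅v, a⁆⁻¹ * v by simp only [commutatorElement_def]; group]
      exact mul_mem (mem_sup_left (inv_mem h1)) (mem_sup_right hv)
    have h1 : cj x0 d.S ≤ normalizer (cj x0 d.L : Set G) := cj_le_normalizer d.S_normalizes_L x0
    have h2 : d.X (!i) ≤ normalizer (cj x0 d.L : Set G) := by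
      rw [← hx0.2]
      exact sup_le (hSA.trans (sup_le hA1 ((d.Q_le_cjS hx0.1).trans h1))) h1
    refine hl (show d.X (!i) ≤ _ from ?_)
    have h3 := cj_le_normalizer h2 x0⁻¹
    rwa [cj_inv_left, d.cj_X (inv_mem hx0.1)] at h3
  set E0 := E ⊓ cj x0 (d.Q i)
  have hEcj : E ≤ cj x0 d.S := inf_le_right.trans (d.Q_le_cjS hx0.1)
  have hE0 : E0 ≤ centralizer (W0 : Set G) := by
    rw [le_centralizer_iff]
    refine sup_le (iSup_le fun s => ?_) (le_centralizer_iff.1 ((inf_le_left.trans inf_le_right).trans (d.hQV _)))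
    obtain ⟨a, ha, q, hq, he⟩ := mem_product hQn (hSA s.2)
    have hqU : cj q U = U := by
      refine cj_eq_of_mem (cj_le_normalizer ((d.hSX i).trans (d.nV i)) x0 ?_)
      exact d.Q_le_cjS hx0.1 hq
    have hE0a : cj a E0 = E0 := by
      refine cj_eq_of_mem (mem_normalizer_iff.2 fun z => ?_)
      constructor
      · intro hz
        rwa [comm_of hA.2.1 ha hz.1.1, mul_inv_cancel_right]
      · intro hz
        have : z = a * z * a⁻¹ := by
          have e := comm_of hA.2.1 ha hz.1.1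
          calc z = a⁻¹ * (a * z * a⁻¹ * a) := by group
            _ = a⁻¹ * (a * (a * z * a⁻¹)) := by rw [← e]
            _ = _ := by group
        rwa [← this] at hz
    rw [← he, mul_assoc, cj_mul, cj_mul, hqU, ← hE0a, ← cj_centralizer]
    refine cj_mono a ?_
    rw [le_centralizer_iff]
    exact inf_le_right.trans (d.cjQ_cent x0 i)
  set C0 := E ⊓ centralizer (W0 : Set G)
  have hidx : Nat.card E ≤ d.q i * Nat.card C0 := by
    have h1 := card_mul_le_sup E (cj x0 (d.Q i))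
    have h2 : Nat.card ↥(E ⊔ cj x0 (d.Q i)) ≤ d.q i * Nat.card (d.Q i) := by
      rw [← d.cS i, ← card_cj x0 d.S]
      exact card_le_of_le (sup_le hEcj (cj_mono x0 (d.hQS i)))
    rw [card_cj] at h1
    refine Nat.le_of_mul_le_mul_right (c := Nat.card (d.Q i)) ?_ Nat.card_pos
    calc Nat.card E * Nat.card (d.Q i) ≤ _ := h1
      _ ≤ d.q i * Nat.card (d.Q i) * Nat.card C0 := Nat.mul_le_mul h2 (card_le_of_le (le_inf inf_le_left hE0))
      _ = _ := by ring
  -- the fixed part of the join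
  have hW0B1 : Nat.card W0 * Nat.card C0 ≤ Nat.card ↥(W0 ⊓ B1) * Nat.card E := by
    set CB := B1 ⊓ centralizer (W0 : Set G)
    have hCBc : IsMulCommutative ↥(CB ⊔ W0) := comm_sup (by
      have hBB : B1 ≤ centralizer (B1 : Set G) := fun x hx =>
        mem_centralizer_iff.2 fun y hy => comm_of hB1.2.1 hy hx
      refine sup_le (le_inf ((inf_le_left : CB ≤ B1).trans (hBB.trans (centralizer_le inf_le_left))) inf_le_right)
        (le_inf (le_centralizer_iff.1 inf_le_right) hW0c))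
    have h2 := hB1.2.2 _ (sup_le (inf_le_left.trans hB1.1) (hW0Q.trans (d.hQS _))) hCBc
    have h3 := card_mul_le_sup CB W0
    have h4 : Nat.card ↥(CB ⊓ W0) ≤ Nat.card ↥(W0 ⊓ B1) :=
      card_le_of_le (le_inf inf_le_right (inf_le_left.trans inf_le_left))
    have h5 : Nat.card B1 * Nat.card ↥(E ⊓ d.V (!i)) = Nat.card E * Nat.card (d.V (!i)) := by
      rw [← card_mul_eq le_sup_left (hB1.1.trans ((d.hSX _).trans (d.nV _))) le_sup_right rfl]
    have h7 : Nat.card C0 * Nat.card (d.V (!i)) ≤ Nat.card CB * Nat.card ↥(E ⊓ d.V (!i)) := by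
      refine (card_mul_le_sup C0 (d.V (!i))).trans (Nat.mul_le_mul (card_le_of_le (sup_le ?_ ?_))
        (card_le_of_le (inf_le_inf_right _ inf_le_left)))
      · exact inf_le_inf_right _ le_sup_left
      · exact le_inf le_sup_right (le_centralizer_iff.1 (hW0Q.trans (d.hQV _)))
    refine Nat.le_of_mul_le_mul_right (c := Nat.card (d.V (!i)) * Nat.card CB) ?_
      (Nat.mul_pos Nat.card_pos Nat.card_pos)
    calc Nat.card W0 * Nat.card C0 * (Nat.card (d.V (!i)) * Nat.card CB)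
        = (Nat.card CB * Nat.card W0) * (Nat.card C0 * Nat.card (d.V (!i))) := by ring
      _ ≤ (Nat.card B1 * Nat.card ↥(W0 ⊓ B1)) * (Nat.card CB * Nat.card ↥(E ⊓ d.V (!i))) :=
          Nat.mul_le_mul (h3.trans (Nat.mul_le_mul h2 h4)) h7
      _ = (Nat.card B1 * Nat.card ↥(E ⊓ d.V (!i))) * (Nat.card ↥(W0 ⊓ B1) * Nat.card CB) := by ring
      _ = _ := by rw [h5]; ring
  -- the image of commutation with an element of `E`
  have himg : ∀ e ∈ E, ∀ v ∈ U, ⁅v, e⁆ ∈ centralizer (d.X (!i) : Set G) ∧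
      (¬ e ∈ C0 → d.q i * Nat.card C0 ≤ Nat.card E) := by
    intro e he v hv
    by_cases heC : e ∈ C0
    · refine ⟨?_, fun h => absurd heC h⟩
      rw [commutatorElement_eq_one_iff_mul_comm.2 (mem_centralizer_iff.1 heC.2 v (hUW0 hv))]
      exact one_mem _
    have he' : e ∉ E0 := fun h => heC ⟨he, hE0 h⟩
    have he1 : x0⁻¹ * e * x0 ∈ d.S := mem_cj.1 (hEcj he)
    have he2 : x0⁻¹ * e * x0 ∉ d.Q i := fun h => he' ⟨he, mem_cj.2 h⟩
    have hmem : ∀ w ∈ W0, ⁅w, e⁆ ∈ W0 := fun w hw => by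
      rw [commutatorElement_def, mul_assoc, mul_assoc]
      exact mul_mem hw (by
        simpa [mul_assoc] using (mem_normalizer_iff.1 (hW0S (hA.1 he.1)) w⁻¹).1 (inv_mem hw))
    let f : ↥W0 →* ↥W0 :=
      { toFun := fun w => ⟨⁅(w : G), e⁆, hmem w w.2⟩
        map_one' := Subtype.ext (by simp)
        map_mul' := fun a b => Subtype.ext (by
          show ⁅(a : G) * b, e⁆ = ⁅(a : G), e⁆ * ⁅(b : G), e⁆
          have e1 := mem_centralizer_iff.1 (hW0c a.2) _ (hmem b b.2)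
          have e2 := mem_centralizer_iff.1 (hW0c (hmem b b.2)) _ (hmem a a.2)
          rw [show ⁅(a : G) * b, e⁆ = (a : G) * ⁅(b : G), e⁆ * (a : G)⁻¹ * ⁅(a : G), e⁆ by
            simp only [commutatorElement_def]; group, ← e1, mul_inv_cancel_right, ← e2]) }
    set I := (U.subgroupOf W0).map f with hIdef
    have hIU : ∀ z ∈ I, (z : G) ∈ cj x0 d.Z := by
      rintro _ ⟨w, hw, rfl⟩
      have hw' : x0⁻¹ * (w : G) * x0 ∈ d.V i := mem_cj.1 (mem_subgroupOf.1 hw)
      refine mem_cj.2 (d.R_le_Z i ?_)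
      show x0⁻¹ * ⁅(w : G), e⁆ * x0 ∈ d.R i
      rw [show x0⁻¹ * ⁅(w : G), e⁆ * x0 = ⁅x0⁻¹ * w * x0, x0⁻¹ * e * x0⁆ by
        simp only [commutatorElement_def]; group]
      exact commutator_mem_commutator hw' he1
    have hkerU : (f.ker ⊓ U.subgroupOf W0).map W0.subtype ≤ cj x0 d.Z := by
      rintro _ ⟨w, ⟨hw1, hw2⟩, rfl⟩
      have e0 : (⁅(w : G), e⁆ : G) = 1 := congrArg Subtype.val (MonoidHom.mem_ker.1 hw1)
      have e1 := commutatorElement_eq_one_iff_mul_comm.1 e0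
      have hw' : x0⁻¹ * (w : G) * x0 ∈ d.V i := mem_cj.1 (mem_subgroupOf.1 hw2)
      refine mem_cj.2 ?_
      rw [← d.Z_eq i]
      refine ⟨hw', d.fix_le i _ he1 he2 ⟨hw', mem_centralizer_singleton_iff.2 ?_⟩⟩
      calc x0⁻¹ * w * x0 * (x0⁻¹ * e * x0) = x0⁻¹ * (w * e) * x0 := by group
        _ = x0⁻¹ * (e * w) * x0 := by rw [e1]
        _ = x0⁻¹ * e * x0 * (x0⁻¹ * w * x0) := by group
    have hIq : d.q i ≤ Nat.card I := by
      have h1 := Cfsg.Lib.FF.card_eq_map_mul f (U.subgroupOf W0)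
      rw [Nat.card_congr (subgroupOfEquivOfLe hUW0).toEquiv, ← hIdef, inf_comm] at h1
      have h2 : Nat.card ↥(f.ker ⊓ U.subgroupOf W0) ≤ Nat.card d.Z := by
        rw [← card_map_of_injective W0.subtype_injective]
        exact (card_le_of_le hkerU).trans (card_cj _ _).le
      rw [card_cj, d.cV i, d.Z_eq i] at h1
      exact Nat.le_of_mul_le_mul_right (h1.le.trans (Nat.mul_le_mul_left _ h2)) Nat.card_pos
    have hkerB : (W0 ⊓ B1).subgroupOf W0 ≤ f.ker := fun w hw => MonoidHom.mem_ker.2 (Subtype.ext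
      (commutatorElement_eq_one_iff_mul_comm.2 (comm_of hB1.2.1 (mem_subgroupOf.1 hw).2 (mem_sup_left he))))
    have hr : Nat.card f.range * Nat.card ↥(W0 ⊓ B1) ≤ Nat.card W0 := by
      have h1 : Nat.card f.range * Nat.card f.ker = Nat.card W0 := by rw [← index_ker, index_mul_card]
      rw [← h1, ← Nat.card_congr (subgroupOfEquivOfLe (inf_le_left : W0 ⊓ B1 ≤ W0)).toEquiv]
      exact Nat.mul_le_mul_left _ (card_le_of_le hkerB)
    have hrange : Nat.card f.range ≤ d.q i := by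
      refine Nat.le_of_mul_le_mul_right (c := Nat.card ↥(W0 ⊓ B1) * Nat.card C0) ?_
        (Nat.mul_pos Nat.card_pos Nat.card_pos)
      calc Nat.card f.range * (Nat.card ↥(W0 ⊓ B1) * Nat.card C0)
          = Nat.card f.range * Nat.card ↥(W0 ⊓ B1) * Nat.card C0 := by ring
        _ ≤ Nat.card W0 * Nat.card C0 := Nat.mul_le_mul_right _ hr
        _ ≤ Nat.card ↥(W0 ⊓ B1) * Nat.card E := hW0B1
        _ ≤ Nat.card ↥(W0 ⊓ B1) * (d.q i * Nat.card C0) := Nat.mul_le_mul_left _ hidx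
        _ = _ := by ring
    have hIr : I = f.range := Subgroup.eq_of_le_of_card_ge (fun z ⟨w, _, hw⟩ => ⟨w, hw⟩) (hrange.trans hIq)
    refine ⟨?_, fun _ => ?_⟩
    · -- a second conjugate carries the same image
      obtain ⟨a, ha, haQ⟩ := SetLike.not_le_iff_exists.1 hAQ
      set z := ⁅v, e⁆
      have hz : (⟨z, hmem v (hUW0 hv)⟩ : ↥W0) ∈ I := ⟨⟨v, hUW0 hv⟩, mem_subgroupOf.2 hv, rfl⟩
      have h1 : z ∈ centralizer (cj x0 d.S : Set G) := by
        have := cj_mono x0 (inf_le_right : d.Z ≤ centralizer (d.S : Set G)) (hIU _ hz)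
        rwa [cj_centralizer] at this
      have ha' := inv_mem ha
      have e1 : a⁻¹ * z * a = ⁅a⁻¹ * v * a, e⁆ := by
        have := comm_of hA.2.1 ha' he.1
        calc a⁻¹ * z * a = ⁅a⁻¹ * v * a, a⁻¹ * e * a⁆ := by simp only [z, commutatorElement_def]; group
          _ = _ := by rw [this, inv_mul_cancel_right]
      have hvaW : a⁻¹ * v * a ∈ W0 := by
        simpa using (mem_normalizer_iff.1 (hW0S (inv_mem (hA.1 ha))) v).1 (hUW0 hv)
      have hz2 : z ∈ cj (a * x0) d.Z := by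
        have h2 : (⟨⁅a⁻¹ * v * a, e⁆, hmem _ hvaW⟩ : ↥W0) ∈ I := hIr ▸ ⟨⟨_, hvaW⟩, rfl⟩
        have h3 := hIU _ h2
        rw [cj_mul, mem_cj, e1]
        exact h3
      have h2 : z ∈ centralizer (cj (a * x0) d.S : Set G) := by
        have := cj_mono (a * x0) (inf_le_right : d.Z ≤ centralizer (d.S : Set G)) hz2
        rwa [cj_centralizer] at this
      have hle : d.X (!i) ≤ centralizer ({z} : Set G) := by
        rw [← d.far_pair hx0 (hA.1 ha) haQ]
        exact sup_le (fun s hs => mem_centralizer_singleton_iff.2 (mem_centralizer_iff.1 h1 s hs))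
          (fun s hs => mem_centralizer_singleton_iff.2 (mem_centralizer_iff.1 h2 s hs))
      exact mem_centralizer_iff.2 fun x hx => mem_centralizer_singleton_iff.1 (hle hx)
    · refine Nat.le_of_mul_le_mul_right (c := Nat.card ↥(W0 ⊓ B1)) ?_ Nat.card_pos
      calc d.q i * Nat.card C0 * Nat.card ↥(W0 ⊓ B1) ≤ Nat.card f.range * Nat.card C0 * Nat.card ↥(W0 ⊓ B1) :=
            Nat.mul_le_mul_right _ (Nat.mul_le_mul_right _ (hIq.trans (hIr ▸ le_rfl)))
        _ = Nat.card f.range * Nat.card ↥(W0 ⊓ B1) * Nat.card C0 := by ring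
        _ ≤ Nat.card W0 * Nat.card C0 := Nat.mul_le_mul_right _ hr
        _ ≤ _ := hW0B1
        _ = _ := mul_comm _ _
  -- all of `S` moves the module into the fixed points
  obtain ⟨e, he, heW⟩ := SetLike.not_le_iff_exists.1 hcase
  have hqE : d.q i * Nat.card C0 ≤ Nat.card E := (himg e he 1 (one_mem _)).2 fun h => heW h.2
  let H : Subgroup G :=
    { carrier := {s | s ∈ d.S ∧ ∀ v ∈ d.V i, ⁅v, s⁆ ∈ centralizer (d.X (!i) : Set G)}
      one_mem' := ⟨one_mem _, fun v _ => by simp⟩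
      mul_mem' := fun {a b} ha hb => ⟨mul_mem ha.1 hb.1, fun v hv => by
        rw [show ⁅v, a * b⁆ = ⁅v, a⁆ * (a * ⁅v, b⁆ * a⁻¹) by simp only [commutatorElement_def]; group,
          mem_centralizer_iff.1 (hb.2 v hv) a (d.hSX _ ha.1), mul_inv_cancel_right]
        exact mul_mem (ha.2 v hv) (hb.2 v hv)⟩
      inv_mem' := fun {a} ha => ⟨inv_mem ha.1, fun v hv => by
        rw [show ⁅v, a⁻¹⁆ = a⁻¹ * ⁅v, a⁆⁻¹ * a⁻¹⁻¹ by simp only [commutatorElement_def]; group,
          mem_centralizer_iff.1 (inv_mem (ha.2 v hv)) a⁻¹ (inv_mem (d.hSX _ ha.1)), mul_inv_cancel_right]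
        exact inv_mem (ha.2 v hv)⟩ }
  set E' := cj x0⁻¹ E
  have hE'S : E' ≤ d.S := by rw [← cj_inv_left x0 d.S]; exact cj_mono _ hEcj
  have hE'H : E' ≤ H := by
    rintro _ ⟨z, hz, rfl⟩
    refine ⟨hE'S (conj_mem_cj hz), fun v hv => ?_⟩
    have h1 := (himg z hz (x0 * v * x0⁻¹) (conj_mem_cj hv)).1
    show ⁅v, x0⁻¹ * z * x0⁻¹⁻¹⁆ ∈ _
    have e2 := mem_centralizer_iff.1 h1 x0 hx0.1
    rw [show ⁅v, x0⁻¹ * z * x0⁻¹⁻¹⁆ = x0⁻¹ * (⁅x0 * v * x0⁻¹, z⁆ * x0) by simp only [commutatorElement_def]; group,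
      ← e2, inv_mul_cancel_left]
    exact h1
  have hQH : d.Q i ≤ H := fun z hz => ⟨d.hQS i hz, fun v hv => by
    rw [commutatorElement_eq_one_iff_mul_comm.2 (d.V_comm hz hv).symm]; exact one_mem _⟩
  have hSH : d.S ≤ H := by
    refine le_trans (le_of_eq (Subgroup.eq_of_le_of_card_ge (sup_le hE'S (d.hQS i)) ?_).symm) (sup_le hE'H hQH)
    have h1 := card_mul_le_sup E' (d.Q i)
    rw [card_cj] at h1
    have h2 : Nat.card ↥(E' ⊓ d.Q i) ≤ Nat.card C0 := by
      rw [← card_cj x0 (E' ⊓ d.Q i)]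
      refine card_le_of_le ?_
      rw [cj, Subgroup.map_inf _ _ _ (MulAut.conj x0).injective]
      refine le_inf (inf_le_left.trans (cj_inv_right x0 E).le) ?_
      refine le_trans ?_ hE0
      exact inf_le_inf (cj_inv_right x0 E).le le_rfl
    rw [d.cS i]
    refine Nat.le_of_mul_le_mul_right (c := Nat.card C0) ?_ Nat.card_pos
    calc d.q i * Nat.card (d.Q i) * Nat.card C0 = (d.q i * Nat.card C0) * Nat.card (d.Q i) := by ring
      _ ≤ Nat.card E * Nat.card (d.Q i) := Nat.mul_le_mul_right _ hqE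
      _ ≤ _ := h1.trans (Nat.mul_le_mul_left _ h2)
  exact commutator_le.2 fun v hv s hs => (hSH hs).2 v hv

/-- a largest abelian subgroup inside the first core and outside the second -/
theorem exists_inside (hb : d.Low 2) {l : Bool} (hR : d.R (!l) ≤ centralizer (d.X l : Set G)) :
    ∃ B ∈ maxAb d.S, B ≤ d.Q (!l) ∧ ¬ B ≤ d.Q l := by
  by_contra hne
  push Not at hne
  obtain ⟨A, hA, hAQ⟩ := d.hcase l
  have hAi : ¬ A ≤ d.Q (!l) := fun h => hAQ (hne A hA h)
  obtain ⟨hB, -⟩ := d.hexch (!l) A hA hAi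
  set Bi := (A ⊓ d.Q (!l)) ⊔ d.V (!l)
  have hBl : Bi ≤ d.Q l := hne Bi hB (sup_le inf_le_right (d.hVQ _))
  have hVB : d.V l ≤ Bi := maxAb_absorb hB (d.VS l) (le_centralizer_iff.1 (hBl.trans (d.hQV l)))
  obtain ⟨-, hSA⟩ := d.hexch l A hA hAQ
  refine d.hR l ((commutator_le.2 fun v hv s hs => ?_ : ⁅d.V l, d.S⁆ ≤ d.R (!l)).trans hR)
  obtain ⟨a, ha, q, hq, rfl⟩ := mem_product ((hA.1.trans (d.hSX l)).trans (d.nQ l)) (hSA hs)
  rw [show ⁅v, a * q⁆ = ⁅v, a⁆ * (a * ⁅v, q⁆ * a⁻¹) by simp only [commutatorElement_def]; group,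
    commutatorElement_eq_one_iff_mul_comm.2 (d.V_comm hq hv).symm, mul_one, mul_inv_cancel, mul_one]
  exact d.exch_comm hA (commutator_mem_commutator (hVB hv) ha)

/-- the module closure of the first vertex under the second group -/
abbrev Wl (l : Bool) : Subgroup G := ⨆ x : ↥(d.X l), cj (x : G) (d.V (!l))

theorem Wl_normal (l : Bool) : d.X l ≤ normalizer (d.Wl l : Set G) := le_normalizer_of_forall fun x hx => by
  rw [cj, Subgroup.map_iSup]
  refine iSup_le fun z => le_trans (le_of_eq (cj_mul x (z : G) (d.V (!l))).symm) ?_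
  exact le_iSup (fun z : ↥(d.X l) => cj (z : G) (d.V (!l))) ⟨x * z, mul_mem hx z.2⟩

theorem le_Wl (l : Bool) : d.V (!l) ≤ d.Wl l := by
  refine le_trans ?_ (le_iSup _ (1 : ↥(d.X l)))
  exact (cj_one _).ge

/-- a good group does not normalise the closure of its module under a bad one -/
theorem good_not_normalizes (hb : d.Low 3) {l : Bool} (hl : ¬ d.Good l) (hi : d.Good (!l)) :
    ¬ d.X (!l) ≤ normalizer (d.Wl l : Set G) := by
  intro hW
  have hR := d.bad_fixed hb hl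
  have hadj : ∀ t, d.V (!t) ≤ d.Q t := fun t => d.low_adj hb (by norm_num) t
  have hWQ : d.Wl l ≤ d.Q l := iSup_le fun x => (cj_mono _ (hadj l)).trans (d.cj_Q x.2).le
  set D := d.Q (!l) ⊓ d.Q l with hDdef
  have hDX : d.X (!l) ≤ normalizer (D : Set G) := by
    have hDL : D = d.Q (!l) ⊓ centralizer (d.L : Set G) := by
      refine le_antisymm (le_inf inf_le_left ?_) (le_inf inf_le_left fun z hz => ?_)
      · rw [← d.L_eq l, le_centralizer_iff]
        exact sup_le (le_centralizer_iff.1 (inf_le_right.trans (d.hQV l)))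
          (le_centralizer_iff.1 (inf_le_left.trans (d.hQV _)))
      · exact d.hC l 1 (one_mem _) ⟨by rw [cj_one]; exact d.hQS _ hz.1, centralizer_le (d.V_le_L l) hz.2⟩
    rw [hDL]
    exact Cfsg.Lib.Coprime.le_normalizer_inf (d.nQ _)
      (hi.trans (Cfsg.Lib.Thompson.normalizer_le_normalizer_centralizer _))
  have hWD : ∀ x ∈ d.X l, ∀ z ∈ D, ∀ v ∈ d.V (!l),
      ⁅x * v * x⁻¹, z⁆ = ⁅v, x⁻¹ * z * x⁆ ∧ ⁅v, x⁻¹ * z * x⁆ ∈ d.R (!l) := by
    intro x hx z hz v hv
    have hz' : x⁻¹ * z * x ∈ d.Q l := by simpa using (mem_normalizer_iff.1 (d.nQ l (inv_mem hx)) z).1 hz.2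
    have hm : ⁅v, x⁻¹ * z * x⁆ ∈ d.R (!l) := commutator_mem_commutator hv (d.hQS l hz')
    refine ⟨?_, hm⟩
    calc ⁅x * v * x⁻¹, z⁆ = x * ⁅v, x⁻¹ * z * x⁆ * x⁻¹ := by simp only [commutatorElement_def]; group
      _ = _ := by rw [mem_centralizer_iff.1 (hR hm) x hx, mul_inv_cancel_right]
  have hK : ⁅d.Wl l, D⁆ ≤ centralizer (d.X (!l) : Set G) := by
    refine d.central_of_norm (le_trans (commutator_le.2 fun w hw z hz => ?_)
      ((d.R_le_Z (!l)).trans inf_le_right)) (Cfsg.Lib.PushUp.le_normalizer_comm hW hDX)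
    let T : Subgroup G :=
      { carrier := {w | w ∈ d.S ∧ ⁅w, z⁆ ∈ d.R (!l)}
        one_mem' := ⟨one_mem _, by simp⟩
        mul_mem' := fun {a b} ha hb' => ⟨mul_mem ha.1 hb'.1, by
          rw [show ⁅a * b, z⁆ = a * ⁅b, z⁆ * a⁻¹ * ⁅a, z⁆ by simp only [commutatorElement_def]; group,
            d.Z_fix (d.R_le_Z _ hb'.2) ha.1]
          exact mul_mem hb'.2 ha.2⟩
        inv_mem' := fun {a} ha => ⟨inv_mem ha.1, by
          rw [show ⁅a⁻¹, z⁆ = a⁻¹ * ⁅a, z⁆⁻¹ * a⁻¹⁻¹ by simp only [commutatorElement_def]; group,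
            d.Z_fix (inv_mem (d.R_le_Z _ ha.2)) (inv_mem ha.1)]
          exact inv_mem ha.2⟩ }
    refine ((iSup_le fun x => ?_ : d.Wl l ≤ T) hw).2
    rintro _ ⟨v, hv, rfl⟩
    refine ⟨d.hQS l (hWQ ((le_iSup (fun x : ↥(d.X l) => cj (x : G) (d.V (!l))) x) (conj_mem_cj hv))), ?_⟩
    show ⁅(x : G) * v * (x : G)⁻¹, z⁆ ∈ d.R (!l)
    rw [(hWD x x.2 z hz v hv).1]
    exact (hWD x x.2 z hz v hv).2
  have hDc : d.Wl l ≤ centralizer (D : Set G) := by
    refine iSup_le fun x => ?_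
    rw [le_centralizer_iff]
    refine le_trans (fun z hz => ?_) (d.cjQ_cent (x : G) (!l))
    rw [mem_cj]
    by_contra hne
    obtain ⟨v, hv, hvn⟩ := d.reg (!l) _ (d.hQS l (by
      simpa using (mem_normalizer_iff.1 (d.nQ l (inv_mem x.2)) z).1 hz.2)) hne
    refine hvn ?_
    rw [← (hWD x x.2 z hz v hv).1]
    exact hK (commutator_mem_commutator
      ((le_iSup (fun x : ↥(d.X l) => cj (x : G) (d.V (!l))) x) (conj_mem_cj hv)) hz)
  obtain ⟨B, hB, hBi, hBl⟩ := d.exists_inside (d.low_mono (by norm_num) hb) hR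
  obtain ⟨hB1, -⟩ := d.hexch l B hB hBl
  have hle : d.Wl l ≤ (B ⊓ d.Q l) ⊔ d.V l := maxAb_absorb hB1 (hWQ.trans (d.hQS l)) (by
    rw [le_centralizer_iff]
    exact sup_le ((inf_le_inf hBi le_rfl).trans (le_centralizer_iff.1 hDc))
      (le_centralizer_iff.1 (hWQ.trans (d.hQV l))))
  refine hl (d.normalizes_between (B := B) (T := d.V l) (K := d.V l ⊔ d.Wl l) (d.nV l) ?_ hB.1 hBl ?_
    (d.V_le_L l) ?_ d.S_normalizes_L)
  · exact le_normalizer_of_forall fun x hx => by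
      rw [cj_sup, d.cj_V hx, cj_eq_of_mem (d.Wl_normal l hx)]
  · exact (commutator_mono (sup_le le_sup_right hle) le_rfl).trans ((d.exch_comm hB).trans (d.R_le_V l))
  · rw [← d.L_eq l]
    exact sup_le_sup le_rfl (d.le_Wl l)

/-- some group is bad and there is a critical window -/
theorem exists_window (hbad : ∃ t, ¬ d.Good t) : ∃ k i h, d.Low (k + 1) ∧ d.Crit k i h := by
  classical
  by_cases hex : ∃ b, ¬ d.Low b
  · obtain ⟨b, hb⟩ : ∃ b, b = Nat.find hex := ⟨_, rfl⟩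
    have hne : ¬ d.Low b := hb ▸ Nat.find_spec hex
    have hmin : ∀ c < b, d.Low c := fun c hc => by_contra fun h => Nat.find_min hex (hb ▸ hc) h
    obtain ⟨b', rfl⟩ : ∃ b', b = b' + 1 := Nat.exists_eq_succ_of_ne_zero fun h => by
      subst h; exact hne (fun k hk => absurd hk (Nat.not_lt_zero k))
    obtain ⟨k, rfl, i, h, hc⟩ := d.exists_crit (hmin b' (Nat.lt_succ_self _)) hne
    exact ⟨k, i, h, hmin _ (Nat.lt_succ_self _), hc⟩
  push Not at hex
  exfalso
  have hall : ∀ k t, ∀ g ∈ d.Wd k t, cj g (d.V (ty k t)) ≤ d.Q t := fun k => hex (k + 1) k (Nat.lt_succ_self k)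
  set ι := {w : G × Bool // ∃ k t, w.1 ∈ d.Wd k t ∧ w.2 = ty k t}
  let M : ι → Subgroup G := fun w => cj w.1.1 (d.V w.1.2)
  set K := ⨆ w : ι, M w with hKdef
  have hVK : ∀ t, d.V t ≤ K := fun t => by
    refine le_trans (le_of_eq ?_) (le_iSup M ⟨(1, t), 0, t, rfl, rfl⟩)
    exact (cj_one _).symm
  have hKX : ∀ t, d.X t ≤ normalizer (K : Set G) := fun t => le_normalizer_of_forall fun x hx => by
    rw [hKdef, cj, Subgroup.map_iSup]
    refine iSup_le ?_
    rintro ⟨⟨g, e⟩, k, t', hg, he⟩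
    dsimp only at he hg
    subst he
    refine le_trans (le_of_eq (cj_mul x g _).symm) ?_
    by_cases ht : t' = t
    · subst ht
      cases k with
      | zero =>
        obtain rfl : g = 1 := hg
        show cj (x * 1) (d.V t') ≤ _
        rw [mul_one, d.cj_V hx]; exact hVK t'
      | succ k => exact le_iSup M ⟨(x * g, ty (k + 1) t'), k + 1, t', d.wd_head hx hg, rfl⟩
    · obtain rfl : t' = !t := bool_eq_not ht
      exact le_iSup M ⟨(x * g, ty k (!t)), k + 1, t, d.wd_cons hx hg, rfl⟩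
  have hKQ : ∀ t, K ≤ d.Q t := fun t => iSup_le fun ⟨⟨g, e⟩, k, t', hg, he⟩ => by
    dsimp only at he hg
    subst he
    by_cases ht : t' = t
    · subst ht; exact hall k t' g hg
    · obtain rfl : t' = !t := bool_eq_not ht
      exact hall (k + 1) t g (d.wd_pre hg)
  have hKc : K ≤ centralizer (K : Set G) := by
    refine iSup_le fun ⟨⟨g, e⟩, k, t, hg, he⟩ => ?_
    rw [le_centralizer_iff]
    refine iSup_le fun ⟨⟨h, e'⟩, l, t', hh, he'⟩ => ?_
    dsimp only at he hg he' hh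
    subst he he'
    refine le_trans ?_ (d.cjQ_cent g (ty k t))
    show cj h (d.V (ty l t')) ≤ cj g (d.Q (ty k t))
    rw [← cj_le_iff g⁻¹, cj_inv_left, ← cj_mul]
    obtain ⟨g', hg', x, hx, e⟩ := d.wd_inv hg
    rw [e, mul_assoc]
    by_cases ht : t' = t
    · subst ht
      cases l with
      | zero =>
        obtain rfl : h = 1 := hh
        rw [mul_one, cj_mul, ty_zero, d.cj_V hx]
        have := hall k _ g' hg'
        rwa [ty_ty] at this
      | succ l =>
        have := hall (k + (l + 1)) (ty k t') (g' * (x * h)) (d.wd_add hg' (by rw [ty_ty]; exact d.wd_head hx hh))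
        rwa [ty_add, ty_ty] at this
    · obtain rfl : t' = !t := bool_eq_not ht
      have := hall (k + (l + 1)) (ty k t) (g' * (x * h)) (d.wd_add hg' (by rw [ty_ty]; exact d.wd_cons hx hh))
      rwa [ty_add, ty_ty, ty_succ] at this
  -- a largest abelian subgroup moving `K`, meeting its centraliser as much as possible
  set 𝒜 := {B : Subgroup G | B ∈ maxAb d.S ∧ ¬ B ≤ centralizer (K : Set G)}
  have hne : 𝒜.Nonempty := by
    obtain ⟨A, hA, hAQ⟩ := d.hcase false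
    exact ⟨A, hA, fun h => hAQ fun a ha => d.hC false 1 (one_mem _)
      ⟨by rw [cj_one]; exact hA.1 ha, centralizer_le (hVK false) (h ha)⟩⟩
  obtain ⟨B, ⟨hB, hBK⟩, hmax⟩ := Set.exists_max_image 𝒜
    (fun B => Nat.card ↥(B ⊓ centralizer (K : Set G))) (Set.toFinite _) hne
  have key : ∃ k t, ∃ g ∈ d.Wd k t, ¬ B ≤ cj g (d.Q (ty k t)) := by
    by_contra hcon
    push Not at hcon
    refine hBK (le_centralizer_iff.1 (iSup_le fun ⟨⟨g, e⟩, k, t, hg, he⟩ => ?_))
    dsimp only at he hg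
    subst he
    exact le_centralizer_iff.1 ((hcon k t g hg).trans (d.cjQ_cent g _))
  classical
  obtain ⟨k, hk⟩ : ∃ k, k = Nat.find key := ⟨_, rfl⟩
  obtain ⟨t, g, hg, hgB⟩ := hk ▸ Nat.find_spec key
  have hkmin : ∀ m < k, ∀ t, ∀ g ∈ d.Wd m t, B ≤ cj g (d.Q (ty m t)) := fun m hm t g hg =>
    by_contra fun h => Nat.find_min key (hk ▸ hm) ⟨t, g, hg, h⟩
  have hBg : B ≤ cj g d.S := by
    cases k with
    | zero => obtain rfl : g = 1 := hg; rw [cj_one]; exact hB.1
    | succ k =>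
      obtain ⟨g', hg', x, hx, rfl⟩ := d.wd_last hg
      rw [cj_mul]
      exact (hkmin k (Nat.lt_succ_self k) t g' hg').trans (cj_mono g' (d.Q_le_cjS hx))
  have hgK : cj g K = K := by
    suffices h : ∀ (k : ℕ) t, ∀ g ∈ d.Wd k t, cj g K = K from h k t g hg
    intro k
    induction k with
    | zero => intro t g hg; obtain rfl : g = 1 := hg; exact cj_one K
    | succ k ih =>
      rintro t _ ⟨x, hx, h, hh, rfl⟩
      rw [cj_mul, ih _ h hh, cj_eq_of_mem (hKX t hx)]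
  set e := ty k t
  set B' := cj g⁻¹ B with hB'def
  have hB'S : B' ≤ d.S := by rw [← cj_inv_left g d.S]; exact cj_mono _ hBg
  have hB' : B' ∈ maxAb d.S := by
    haveI := hB.2.1
    exact ⟨hB'S, inferInstance, fun A' h1 h2 => (hB.2.2 A' h1 h2).trans (card_cj _ _).ge⟩
  have hB'Q : ¬ B' ≤ d.Q e := fun h => hgB (by
    have := cj_mono g h
    rwa [hB'def, cj_inv_right] at this)
  have hgC : cj g⁻¹ (centralizer (K : Set G)) = centralizer (K : Set G) := by
    rw [cj_centralizer]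
    congr 2
    conv_lhs => rw [← hgK, cj_inv_left]
  have hmeas : Nat.card ↥(B' ⊓ centralizer (K : Set G)) = Nat.card ↥(B ⊓ centralizer (K : Set G)) := by
    rw [hB'def, ← hgC, ← Subgroup.map_inf _ _ _ (MulAut.conj g⁻¹).injective, hgC]
    exact card_cj _ _
  obtain ⟨hB2, -⟩ := d.hexch e B' hB' hB'Q
  set B2 := (B' ⊓ d.Q e) ⊔ d.V e
  have hB'cQ : B' ⊓ centralizer (K : Set G) ≤ B' ⊓ d.Q e := fun z hz => ⟨hz.1,
    d.hC e 1 (one_mem _) ⟨by rw [cj_one]; exact hB'S hz.1, centralizer_le (hVK e) hz.2⟩⟩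
  have hVe : ¬ d.V e ≤ B' := fun h => hB'Q fun b hb => d.hC e 1 (one_mem _)
    ⟨by rw [cj_one]; exact hB'S hb, mem_centralizer_iff.2 fun v hv => comm_of hB'.2.1 (h hv) hb⟩
  have hKV : d.V e ≤ centralizer (K : Set G) := (hVK e).trans hKc
  have hlt : Nat.card ↥(B' ⊓ centralizer (K : Set G)) < Nat.card ↥(B2 ⊓ centralizer (K : Set G)) := by
    have hle : (B' ⊓ centralizer (K : Set G)) ⊔ d.V e ≤ B2 ⊓ centralizer (K : Set G) :=
      sup_le (le_inf (hB'cQ.trans le_sup_left) inf_le_right) (le_inf le_sup_right hKV)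
    refine lt_of_lt_of_le ?_ (card_le_of_le hle)
    refine lt_of_le_of_ne (card_le_of_le le_sup_left) fun h => hVe ?_
    exact (le_sup_right.trans (Subgroup.eq_of_le_of_card_ge le_sup_left h.ge).ge).trans inf_le_left
  have hB2K : B2 ≤ centralizer (K : Set G) := by_contra fun h =>
    not_lt.2 ((hmax B2 ⟨hB2, h⟩).trans hmeas.ge) hlt
  have hKB2 : K ≤ B2 := maxAb_absorb hB2 ((hKQ e).trans (d.hQS e)) (le_centralizer_iff.1 hB2K)
  have hnorm : ∀ M, d.V e ≤ M → M ≤ K → d.S ≤ normalizer (M : Set G) → d.X e ≤ normalizer (M : Set G) :=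
    fun M h1 h2 h3 => d.normalizes_between (d.nV e) (hKX e) hB'S hB'Q
      ((commutator_mono hKB2 le_rfl).trans ((d.exch_comm hB').trans (d.R_le_V e))) h1 h2 h3
  have hgood : d.Good e := hnorm _ (d.V_le_L e) (sup_le (hVK _) (hVK _)) d.S_normalizes_L
  obtain ⟨t0, ht0⟩ := hbad
  have hbe : ¬ d.Good (!e) := by
    rwa [← bool_eq_not (show t0 ≠ e from fun h => ht0 (h ▸ hgood))]
  refine d.good_not_normalizes (hex 3) hbe (by rwa [Bool.not_not]) ?_
  rw [Bool.not_not]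
  refine hnorm _ ((d.le_Wl (!e)).trans' (by rw [Bool.not_not])) (iSup_le fun x => ?_)
    ((d.hSX _).trans (d.Wl_normal _))
  rw [Bool.not_not]
  exact (cj_mono _ (hVK e)).trans (cj_eq_of_mem (hKX _ x.2)).le

theorem wd_back {k : ℕ} (hb : d.Low (k + 1)) {i : Bool} {h : G} (hh : h ∈ d.Wd k (!i)) : d.V i ≤ cj h d.S := by
  obtain ⟨g, hg, x, hx, e⟩ := d.wd_last (d.wd_pre hh)
  rw [e, cj_mul]
  exact (d.low_left hb (Nat.lt_succ_self k) hg).trans (cj_mono g (d.Q_le_cjS hx))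

section Window

variable {k : ℕ} {i : Bool} {h : G} (hk : 1 ≤ k) (hb : d.Low (k + 1)) (hc : d.Crit k i h)

include hk hb hc

theorem second_bad : ¬ d.Good (!i) := by
  obtain ⟨k', rfl⟩ : ∃ k', k = k' + 1 := ⟨k - 1, by omega⟩
  obtain ⟨hh, hne⟩ := hc
  obtain ⟨x, hx, h', hh', rfl⟩ := hh
  intro hgood
  set j := ty (k' + 1) (!i)
  rw [Bool.not_not] at hh'
  have hle := hb k' (by omega) i h' hh'
  have hj : ty k' i = j := by simp [j]
  rw [hj] at hle
  set U := cj (x * h') (d.V j) with hU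
  have hUx : U ≤ centralizer (cj x (d.V i) : Set G) := by
    rw [hU, cj_mul]; exact (cj_mono x hle).trans (d.cjQ_cent x i)
  have hUl : U ≤ d.Q (!i) := hb (k' + 1) (by omega) (!i) _ ⟨x, hx, h', by rwa [Bool.not_not], rfl⟩
  have hLx : cj x (d.V i) ⊔ d.V (!i) = d.L := by
    conv_rhs => rw [← cj_eq_of_mem (hgood hx), ← d.L_eq i, cj_sup, d.cj_V hx]
  have hUL : U ≤ centralizer (d.L : Set G) := by
    rw [← hLx, le_centralizer_iff]
    exact sup_le (le_centralizer_iff.1 hUx) (le_centralizer_iff.1 (hUl.trans (d.hQV _)))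
  exact hne fun z hz => d.hC i 1 (one_mem _)
    ⟨by rw [cj_one]; exact d.hQS _ (hUl hz), centralizer_le (d.V_le_L i) (hUL hz)⟩

/-- the far end and a far conjugate of `S` generate -/
theorem gen_far {y : G} (hy : d.Far i y) : d.X i ≤ cj h (d.V (ty k (!i))) ⊔ cj y d.S := by
  conv_lhs => rw [← hy.2]
  refine sup_le ?_ le_sup_right
  conv_lhs => rw [← (d.crit_full hb hc).1]
  exact sup_le le_sup_left ((d.Q_le_cjS hy.1).trans le_sup_right)

/-- the window moves to the left of a bad vertex -/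
theorem move_left (hi : ¬ d.Good i) {y : G} (hy : d.Far i y) : ∃ g ∈ d.Wd k i, ∃ x ∈ d.X (ty k i), g * x = h ∧
    d.Crit k (!i) (y⁻¹ * g) ∧ d.R (!i) ≤ centralizer (d.X i : Set G) ∧ d.R (!i) ≤ cj g (d.V (ty k i)) := by
  obtain ⟨g, hg, x, hx, e⟩ := d.wd_last (d.wd_pre (t := i) hc.1)
  obtain ⟨-, -, -, hRfull⟩ := d.crit_full hb hc
  set j := ty k (!i) with hj
  have hji : ty k i = !j := by rw [hj, ty_not, Bool.not_not]
  have hUS := d.crit_front hb hc
  have hQg : cj h (d.Q (!j)) = cj g (d.Q (!j)) := by rw [e, cj_mul, d.cj_Q (hji ▸ hx)]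
  have hclaim : ¬ cj y (d.V (!i)) ≤ cj g (d.Q (!j)) := by
    intro hle
    refine hi (show d.X i ≤ _ from ?_)
    set L' := cj y d.L
    have h1 : cj y d.S ≤ normalizer (L' : Set G) := cj_le_normalizer d.S_normalizes_L y
    have h2 : cj h (d.V j) ≤ normalizer (L' : Set G) := le_normalizer_of_forall fun u hu => by
      have hL' : L' = d.V i ⊔ cj y (d.V (!i)) := by
        show cj y d.L = _
        rw [← d.L_eq i, cj_sup, d.cj_V hy.1]
      rw [hL', cj_sup, d.cj_V (d.hSX i (hUS hu))]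
      refine sup_le le_sup_left ?_
      rintro _ ⟨z, hz, rfl⟩
      show u * z * u⁻¹ ∈ _
      have hz' : z ∈ cj h d.S := cj_mono h (d.hQS _) (hQg.ge (hle hz))
      have h3 : ⁅u, z⁆ ∈ d.R i := by
        rw [hRfull]
        show ⁅u, z⁆ ∈ cj h (d.R j)
        rw [cj_comm]
        exact commutator_mem_commutator hu hz'
      rw [show u * z * u⁻¹ = ⁅u, z⁆ * z by rw [commutatorElement_def]; group]
      exact mul_mem (mem_sup_left (d.R_le_V i h3)) (mem_sup_right hz)
    have h4 : d.X i ≤ normalizer (L' : Set G) := (d.gen_far hk hb hc hy).trans (sup_le h2 h1)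
    have h5 := cj_le_normalizer h4 y⁻¹
    rwa [cj_inv_left, d.cj_X (inv_mem hy.1)] at h5
  have hmem : y⁻¹ * g ∈ d.Wd k i := by
    obtain ⟨k', rfl⟩ : ∃ k', k = k' + 1 := ⟨k - 1, by omega⟩
    exact d.wd_head (inv_mem hy.1) hg
  have hc' : d.Crit k (!i) (y⁻¹ * g) := by
    refine ⟨by rwa [Bool.not_not], fun hle => hclaim ?_⟩
    rw [Bool.not_not, hji] at hle
    rw [← cj_le_iff y⁻¹, cj_inv_left, ← cj_mul]
    refine d.hC_conj (d.wd_back hb (by rwa [Bool.not_not])) (le_centralizer_iff.1 (hle.trans ?_))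
    exact d.hQV _
  obtain ⟨-, -, -, hR'⟩ := d.crit_full hb hc'
  rw [Bool.not_not, hji] at hR'
  have hyR : cj y (d.R (!i)) = cj g (d.R (!j)) := by rw [hR', ← cj_mul, mul_inv_cancel_left]
  have hle : cj y (d.R (!i)) ≤ cj g (d.V (!j)) := hyR.le.trans (cj_mono g (d.R_le_V _))
  have hUc : cj h (d.V j) ≤ centralizer (cj g (d.V (!j)) : Set G) := by
    refine le_trans ?_ (d.cjQ_cent g (!j))
    rw [e, cj_mul]
    refine cj_mono g ?_
    have := d.low_adj hb (by omega) (!j)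
    rw [Bool.not_not] at this
    exact (cj_mono x this).trans (d.cj_Q (hji ▸ hx)).le
  have hcen : cj y (d.R (!i)) ≤ centralizer (d.X i : Set G) := by
    rw [le_centralizer_iff]
    refine (d.gen_far hk hb hc hy).trans (sup_le (hUc.trans (centralizer_le hle)) ?_)
    refine le_centralizer_iff.1 ?_
    rw [← cj_centralizer]
    exact cj_mono y (d.hRS _)
  have hfix : d.R (!i) = cj y (d.R (!i)) := by
    conv_lhs => rw [← cj_inv_left y (d.R (!i)), d.fix_central (inv_mem hy.1) hcen]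
  exact ⟨g, hg, x, hx, e.symm, hc', hfix ▸ hcen, hji ▸ hfix ▸ hle⟩

end Window

/-- no bad window of length at least three starts at a bad vertex -/
theorem not_start_bad {k : ℕ} (hk : 2 ≤ k) (hb : d.Low (k + 1)) {i : Bool} {h : G} (hc : d.Crit k i h) :
    d.Good i := by
  by_contra hi
  obtain ⟨y, hy⟩ := d.exists_far i
  obtain ⟨g, hg, x, hx, e, hc', hR, -⟩ := d.move_left (by omega) hb hc hi hy
  have hl := d.second_bad (by omega) hb hc
  obtain ⟨z, hz⟩ := d.exists_far (!i)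
  obtain ⟨g₂, hg₂, x₂, hx₂, e₂, -, hR₂, hR₂V⟩ := d.move_left (by omega) hb hc' hl hz
  rw [Bool.not_not] at hR₂ hR₂V
  refine d.hR i ?_
  set j := ty k (!i) with hj
  have hyV : cj y (d.R i) ≤ cj g (d.V j) := by
    rw [← cj_le_iff y⁻¹, cj_inv_left, ← cj_mul, ← e₂, cj_mul g₂, d.cj_V hx₂]
    exact hR₂V
  have hUc : cj h (d.V j) ≤ centralizer (cj g (d.V j) : Set G) := by
    refine le_trans ?_ (d.cjQ_cent g j)
    rw [← e, cj_mul]
    refine cj_mono g (d.low_two hb (by omega) j ?_)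
    rwa [hj, ty_not, Bool.not_not]
  have hcen : cj y (d.R i) ≤ centralizer (d.X i : Set G) := by
    rw [le_centralizer_iff]
    refine (d.gen_far (by omega) hb hc hy).trans (sup_le (hUc.trans (centralizer_le hyV)) ?_)
    refine le_centralizer_iff.1 ?_
    rw [← cj_centralizer]
    exact cj_mono y (d.hRS i)
  show d.R i ≤ _
  rw [← cj_inv_left y (d.R i), d.fix_central (inv_mem hy.1) hcen]
  exact hcen

/-- no window of length at least three starts at a good vertex -/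
theorem not_start_good {k : ℕ} (hk : 2 ≤ k) (hb : d.Low (k + 1)) {i : Bool} {h : G} (hc : d.Crit k i h)
    (hi : d.Good i) : False := by
  set j := ty k (!i) with hj
  have hl := d.second_bad (by omega) hb hc
  obtain ⟨h', hc'⟩ := d.crit_rev hb hc
  have hji : j = i := by
    by_contra hne
    have hj' : j = !i := by cases hj'' : j <;> cases hi' : i <;> simp_all
    exact hl (hj' ▸ d.not_start_bad hk hb hc')
  have hfix := d.bad_fixed (d.low_mono (by omega) hb) hl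
  rw [Bool.not_not] at hfix
  obtain ⟨y, hy⟩ := d.exists_far i
  obtain ⟨g, hg, xl, hxl, e⟩ := d.wd_last (d.wd_pre (t := i) hc.1)
  obtain ⟨k', rfl⟩ : ∃ k', k = k' + 1 := ⟨k - 1, by omega⟩
  obtain ⟨g₂, hg₂, x', hx', e'⟩ := d.wd_last hg
  have hek : ty k' i = i := by
    have h0 := hji
    rw [hj, ty_succ, Bool.not_not] at h0
    exact h0
  rw [hek] at hx'
  have hty : ty (k' + 1) i = !i := by rw [ty_succ, ty_not, hek]
  rw [hty] at hxl
  obtain ⟨-, -, -, hRfull⟩ := d.crit_full hb hc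
  rw [← hj, hji] at hRfull
  have hcen : ∀ K : Subgroup G, K ≤ centralizer (d.S : Set G) → cj y K ≤ cj g₂ (d.V i) →
      K ≤ centralizer (d.X i : Set G) := by
    intro K hK hle
    have hUc : cj h (d.V i) ≤ centralizer (cj g₂ (d.V i) : Set G) := by
      refine le_trans ?_ (d.cjQ_cent g₂ i)
      rw [e, e', cj_mul, cj_mul]
      refine cj_mono g₂ ((cj_mono x' (d.low_two hb (by omega) i hxl)).trans (d.cj_Q hx').le)
    have h1 : cj y K ≤ centralizer (d.X i : Set G) := by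
      rw [le_centralizer_iff]
      have hgen := d.gen_far (by omega) hb hc hy
      rw [← hj, hji] at hgen
      refine hgen.trans (sup_le (hUc.trans (centralizer_le hle)) ?_)
      refine le_centralizer_iff.1 ?_
      rw [← cj_centralizer]
      exact cj_mono y hK
    rw [← cj_inv_left y K, d.fix_central (inv_mem hy.1) h1]
    exact h1
  by_cases hex : ∃ x ∈ d.X (!i), ¬ cj (y * x) (d.V i) ≤ cj g₂ (d.Q i)
  · obtain ⟨x, hx, hne⟩ := hex
    obtain ⟨k'', rfl⟩ : ∃ k'', k' = k'' + 1 := ⟨k' - 1, by omega⟩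
    have hmem : x⁻¹ * (y⁻¹ * g₂) ∈ d.Wd (k'' + 2) (!i) :=
      d.wd_cons (inv_mem hx) (by rw [Bool.not_not]; exact d.wd_head (inv_mem hy.1) hg₂)
    have hend : ty (k'' + 2) (!i) = i := hj ▸ hji
    have hc3 : d.Crit (k'' + 2) i (x⁻¹ * (y⁻¹ * g₂)) := by
      refine ⟨hmem, fun hle => hne ?_⟩
      rw [hend] at hle
      rw [← cj_le_iff (y * x)⁻¹, cj_inv_left, ← cj_mul, show (y * x)⁻¹ * g₂ = x⁻¹ * (y⁻¹ * g₂) by group]
      exact d.hC_conj (d.wd_back hb hmem) (le_centralizer_iff.1 (hle.trans (d.hQV _)))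
    obtain ⟨-, -, -, hR3⟩ := d.crit_full hb hc3
    rw [hend] at hR3
    refine d.hR i (hcen (d.R i) (d.hRS i) ?_)
    rw [← cj_le_iff y⁻¹, cj_inv_left]
    calc d.R i = cj x (d.R i) := (d.fix_central hx hfix).symm
      _ = cj (y⁻¹ * g₂) (d.R i) := by
        conv_lhs => rw [hR3, ← cj_mul, mul_inv_cancel_left]
      _ ≤ cj (y⁻¹ * g₂) (d.V i) := cj_mono _ (d.R_le_V i)
      _ = _ := cj_mul _ _ _
  push Not at hex
  set W := d.Wl (!i) with hWdef
  refine d.good_not_normalizes (d.low_mono (by omega) hb) hl (by rwa [Bool.not_not]) ?_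
  rw [Bool.not_not]
  have hWg : cj y W ≤ cj h d.S := by
    obtain ⟨k'', rfl⟩ : ∃ k'', k' = k'' + 1 := ⟨k' - 1, by omega⟩
    obtain ⟨g₃, hg₃, x'', hx'', e''⟩ := d.wd_last hg₂
    have hek'' : ty k'' i = !i := by
      have h1 : (!ty k'' i) = i := by rw [← ty_not, ← ty_succ]; exact hek
      cases hi' : i <;> cases hh' : ty k'' i <;> simp_all
    rw [hek''] at hx''
    rw [hWdef, cj, Subgroup.map_iSup]
    refine iSup_le fun x => ?_
    show cj y (cj (x : G) (d.V (!!i))) ≤ _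
    rw [Bool.not_not, ← cj_mul]
    have h1 := hex x x.2
    have h2 : cj (y * (x : G)) (d.V i) ≤ cj g₃ (d.Q (!i)) := by
      rw [← cj_le_iff g₃⁻¹, cj_inv_left, ← cj_mul]
      obtain ⟨g₃', hg₃', xi, hxi, e3⟩ := d.wd_inv hg₃
      rw [hek''] at hg₃'
      rw [e3, mul_assoc, ← mul_assoc xi]
      have hm : xi * y * (x : G) ∈ d.Wd 2 i := by
        have := d.wd_cons (k := 1) (mul_mem hxi hy.1) (d.wd_one x.2)
        exact this
      have hk2 : ty k'' (!i) = i := by rw [ty_not, hek'', Bool.not_not]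
      have := hb (k'' + 2) (by omega) (!i) (g₃' * (xi * y * (x : G))) (d.wd_add hg₃' (by rwa [hk2]))
      rwa [ty_add, hk2, show ty 2 i = i by simp] at this
    have hD : d.Q i ⊓ cj x'⁻¹ (d.Q (!i)) ≤ d.Q (!i) := by
      intro z hz
      have hz2 : x' * z * x'⁻¹ ∈ d.Q i ⊓ d.Q (!i) :=
        ⟨(mem_normalizer_iff.1 (d.nQ i hx') z).1 hz.1, by simpa [mul_assoc] using mem_cj.1 hz.2⟩
      have hcl : z ∈ centralizer (d.L : Set G) := by
        have hzc : x' * z * x'⁻¹ ∈ centralizer (d.L : Set G) := by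
          rw [← d.L_eq i]
          exact (le_centralizer_iff.1 (sup_le (le_centralizer_iff.1 (inf_le_left.trans (d.hQV i)))
            (le_centralizer_iff.1 (inf_le_right.trans (d.hQV _))))) hz2
        simpa [mul_assoc] using (mem_normalizer_iff.1
          (Cfsg.Lib.Thompson.normalizer_le_normalizer_centralizer _ (hi (inv_mem hx'))) _).1 hzc
      exact d.hC (!i) 1 (one_mem _) ⟨by rw [cj_one]; exact d.hQS _ hz.1, centralizer_le (d.V_le_L _) hcl⟩
    rw [e]
    intro z hz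
    refine mem_cj.2 ?_
    have hz1 := mem_cj.1 (h1 hz)
    have hz2 := mem_cj.1 (h2 hz)
    have hz3 : x'⁻¹ * (g₂⁻¹ * z * g₂) * x' ∈ d.Q i ⊓ cj x'⁻¹ (d.Q (!i)) := by
      refine ⟨by simpa [mul_assoc] using (mem_normalizer_iff.1 (d.nQ i (inv_mem hx')) _).1 hz1, mem_cj.2 ?_⟩
      have hz4 := (mem_normalizer_iff.1 (d.nQ _ (inv_mem hx'')) _).1 hz2
      rw [e'']
      simpa [mul_assoc] using hz4
    refine d.hQS (!i) ?_
    have hz5 := (mem_normalizer_iff.1 (d.nQ _ (inv_mem hxl)) _).1 (hD hz3)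
    rw [e']
    simpa [mul_assoc] using hz5
  have hUS := d.crit_front hb hc
  have hgen := d.gen_far (by omega) hb hc hy
  rw [← hj, hji] at hUS hgen
  have h1 : cj h (d.V i) ≤ normalizer (cj y W : Set G) := le_normalizer_of_forall fun u hu => by
    rintro _ ⟨z, hz, rfl⟩
    show u * z * u⁻¹ ∈ _
    have h3 : ⁅u, z⁆ ∈ d.R i := by
      rw [hRfull]
      show ⁅u, z⁆ ∈ cj h (d.R i)
      rw [cj_comm]
      exact commutator_mem_commutator hu (hWg hz)
    rw [show u * z * u⁻¹ = ⁅u, z⁆ * z by rw [commutatorElement_def]; group]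
    refine mul_mem ?_ hz
    have hle : d.V i ≤ cj y W := by
      rw [← d.cj_V hy.1]
      refine cj_mono y ?_
      have := d.le_Wl (!i)
      rwa [Bool.not_not] at this
    exact hle (d.R_le_V i h3)
  have h2 : d.X i ≤ normalizer (cj y W : Set G) :=
    hgen.trans (sup_le h1 (cj_le_normalizer ((d.hSX _).trans (d.Wl_normal _)) y))
  have h3 := cj_le_normalizer h2 y⁻¹
  rwa [cj_inv_left, d.cj_X (inv_mem hy.1)] at h3

/-- at distance two from a good vertex -/
theorem one_of_good (hb : d.Low 2) {i : Bool} {x : G} (hc : d.Crit 1 i x) (hi : d.Good i) : d.One i := by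
  obtain ⟨hmem, hne⟩ := hc
  obtain ⟨x', hx', h1, hh1, rfl⟩ := hmem
  obtain rfl : h1 = 1 := hh1
  rw [mul_one] at *
  have hc : d.Crit 1 i x' := ⟨d.wd_one hx', hne⟩
  have hty : ty 1 (!i) = i := by simp
  obtain ⟨f1, -, -, fR⟩ := d.crit_full hb hc
  rw [hty] at f1 fR hne
  set A := cj x' (d.V i) with hA
  set D := d.Q i ⊓ d.Q (!i) with hDdef
  have hDX : d.X i ≤ normalizer (D : Set G) := by
    have hDL : D = d.Q i ⊓ centralizer (d.L : Set G) := by
      refine le_antisymm (le_inf inf_le_left ?_) (le_inf inf_le_left fun z hz => ?_)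
      · rw [← d.L_eq i, le_centralizer_iff]
        exact sup_le (le_centralizer_iff.1 (inf_le_left.trans (d.hQV _)))
          (le_centralizer_iff.1 (inf_le_right.trans (d.hQV _)))
      · exact d.hC _ 1 (one_mem _) ⟨by rw [cj_one]; exact d.hQS _ hz.1, centralizer_le (d.V_le_L _) hz.2⟩
    rw [hDL]
    exact Cfsg.Lib.Coprime.le_normalizer_inf (d.nQ _)
      (hi.trans (Cfsg.Lib.Thompson.normalizer_le_normalizer_centralizer _))
  have hAS : A ≤ d.S := f1 ▸ le_sup_left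
  have hVi : d.V i ≤ d.Q (!i) := by
    have := d.low_adj hb le_rfl (!i)
    rwa [Bool.not_not] at this
  have hAQ' : A ≤ d.Q (!i) := (cj_mono x' hVi).trans (d.cj_Q hx').le
  have hT1 : ∀ g ∈ d.X i, (orderOf g).Coprime p → ∀ z ∈ D, ⁅z, g⁆ ∈ d.V i := fun g hg hcop =>
    d.coprime_between (d.nV i) hDX hAS hne (commutator_le.2 fun z hz a ha => d.R_le_V i (by
      rw [fR]
      show ⁅z, a⁆ ∈ cj x' ⁅d.V i, d.S⁆
      rw [commutator_comm, cj_comm]
      exact commutator_mem_commutator (d.Q_le_cjS hx' hz.2) ha)) hg hcop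
  have hT2 : ∀ g ∈ d.X i, (orderOf g).Coprime p → ∀ w ∈ d.L, ⁅w, g⁆ ∈ d.V i := fun g hg hcop =>
    d.coprime_between (d.nV i) hi hAS hne (by
      refine commutator_le.2 fun w hw a ha => ?_
      let T : Subgroup G :=
        { carrier := {w | w ∈ d.X i ∧ ⁅w, a⁆ ∈ d.V i}
          one_mem' := ⟨one_mem _, by simp⟩
          mul_mem' := fun {u v} hu hv => ⟨mul_mem hu.1 hv.1, by
            rw [show ⁅u * v, a⁆ = u * ⁅v, a⁆ * u⁻¹ * ⁅u, a⁆ by simp only [commutatorElement_def]; group]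
            exact mul_mem ((mem_normalizer_iff.1 (d.nV i hu.1) _).1 hv.2) hu.2⟩
          inv_mem' := fun {u} hu => ⟨inv_mem hu.1, by
            rw [show ⁅u⁻¹, a⁆ = u⁻¹ * ⁅u, a⁆⁻¹ * u⁻¹⁻¹ by simp only [commutatorElement_def]; group]
            exact (mem_normalizer_iff.1 (inv_mem (d.nV i hu.1)) _).1 (inv_mem hu.2)⟩ }
      refine ((?_ : d.L ≤ T) hw).2
      rw [← d.L_eq i]
      refine sup_le (fun v hv => ⟨d.hSX i (d.VS i hv), d.R_le_V i (commutator_mem_commutator hv (hAS ha))⟩)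
        (fun v hv => ⟨d.hSX i (d.VS _ hv), ?_⟩)
      rw [commutatorElement_eq_one_iff_mul_comm.2 (d.V_comm (hAQ' ha) hv).symm]
      exact one_mem _) hg hcop
  have hK : ⁅d.L, d.Q i⁆ ≤ centralizer (d.X i : Set G) := by
    refine d.central_of_norm ?_ (Cfsg.Lib.PushUp.le_normalizer_comm hi (d.nQ i))
    refine le_trans (commutator_le.2 fun w hw z hz => ?_) (inf_le_right : d.Z ≤ _)
    let T : Subgroup G :=
      { carrier := {w | w ∈ d.S ∧ ⁅w, z⁆ ∈ d.Z}
        one_mem' := ⟨one_mem _, by simp⟩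
        mul_mem' := fun {u v} hu hv => ⟨mul_mem hu.1 hv.1, by
          rw [show ⁅u * v, z⁆ = u * ⁅v, z⁆ * u⁻¹ * ⁅u, z⁆ by simp only [commutatorElement_def]; group,
            d.Z_fix hv.2 hu.1]
          exact mul_mem hv.2 hu.2⟩
        inv_mem' := fun {u} hu => ⟨inv_mem hu.1, by
          rw [show ⁅u⁻¹, z⁆ = u⁻¹ * ⁅u, z⁆⁻¹ * u⁻¹⁻¹ by simp only [commutatorElement_def]; group,
            d.Z_fix (inv_mem hu.2) (inv_mem hu.1)]
          exact inv_mem hu.2⟩ }
    exact ((sup_le (fun v hv => ⟨d.VS _ hv, d.R_le_Z _ (commutator_mem_commutator hv (d.hQS i hz))⟩)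
      (fun v hv => ⟨d.VS _ hv, d.R_le_Z _ (commutator_mem_commutator hv (d.hQS i hz))⟩) : d.L ≤ T) hw).2
  refine ⟨A, D, f1, fun a ha b hb' => ?_, fun a ha => ?_, le_inf (d.hVQ i) hVi, inf_le_left, hDX, hT1,
    fun g hg hcop q hq => ?_⟩
  · obtain ⟨u, hu, rfl⟩ := ha
    obtain ⟨v, hv, rfl⟩ := hb'
    rw [← map_mul, ← map_mul, d.V_comm (d.hVQ i hu) hv]
  · obtain ⟨v, hv, rfl⟩ := ha
    rw [← map_pow, d.hp i v hv, map_one]
  set q' := g * q * g⁻¹
  have hq' : q' ∈ d.Q i := (mem_normalizer_iff.1 (d.nQ i hg) q).1 hq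
  have hc' : ⁅q, g⁆ ∈ d.Q i := by
    rw [show ⁅q, g⁆ = q * (g * q⁻¹ * g⁻¹) by simp only [commutatorElement_def]; group]
    exact mul_mem hq ((mem_normalizer_iff.1 (d.nQ i hg) _).1 (inv_mem hq))
  refine ⟨hc', d.hC _ 1 (one_mem _) ⟨by rw [cj_one]; exact d.hQS i hc', mem_centralizer_iff.2 fun w hw => ?_⟩⟩
  have hwL : w ∈ d.L := d.V_le_L _ hw
  have hQX := d.QX i
  have hmain : ⁅w, q'⁆ = ⁅w, q⁆ := by
    set v := w⁻¹ * (g⁻¹ * w * g)
    have hwg : g⁻¹ * w * g ∈ d.L := by simpa using (mem_normalizer_iff.1 (hi (inv_mem hg)) w).1 hwL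
    have hv : v ∈ d.V i := by
      have := hT2 g⁻¹ (inv_mem hg) (by rwa [orderOf_inv]) w⁻¹ (inv_mem hwL)
      simpa [v, commutatorElement_def, mul_assoc] using this
    have hKm : ⁅g⁻¹ * w * g, q⁆ ∈ ⁅d.L, d.Q i⁆ := commutator_mem_commutator hwg hq
    calc ⁅w, q'⁆ = g * ⁅g⁻¹ * w * g, q⁆ * g⁻¹ := by simp only [q', commutatorElement_def]; group
      _ = ⁅g⁻¹ * w * g, q⁆ := by rw [mem_centralizer_iff.1 (hK hKm) g hg, mul_inv_cancel_right]
      _ = ⁅w * v, q⁆ := by simp [v]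
      _ = w * ⁅v, q⁆ * w⁻¹ * ⁅w, q⁆ := by simp only [commutatorElement_def]; group
      _ = ⁅w, q⁆ := by
          rw [commutatorElement_eq_one_iff_mul_comm.2 (d.V_comm hq hv).symm, mul_one, mul_inv_cancel, one_mul]
  have hcz := mem_centralizer_iff.1 (hK (commutator_mem_commutator hwL hq)) (q * q'⁻¹)
    (hQX (mul_mem hq (inv_mem hq')))
  have e1 : w * q * w⁻¹ = ⁅w, q⁆ * q := by rw [commutatorElement_def]; group
  have e2 : w * q' * w⁻¹ = ⁅w, q'⁆ * q' := by rw [commutatorElement_def]; group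
  rw [show ⁅q, g⁆ = q * q'⁻¹ by simp only [q', commutatorElement_def]; group]
  calc w * (q * q'⁻¹) = (w * q * w⁻¹) * (w * q' * w⁻¹)⁻¹ * w := by group
    _ = ⁅w, q⁆ * (q * q'⁻¹) * ⁅w, q⁆⁻¹ * w := by rw [e1, e2, hmain]; group
    _ = q * q'⁻¹ * w := by rw [← hcz, mul_inv_cancel_right]

/-- the conclusion for two groups -/
theorem main (h : ∃ t, ¬ d.Good t) : (∃ t, d.One t) ∨ d.DistTwo := by
  obtain ⟨k, i, h, hb, hc⟩ := d.exists_window h
  rcases Nat.lt_or_ge k 2 with hk | hk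
  · interval_cases k
    · -- distance one
      left
      obtain ⟨hh, hne⟩ := hc
      obtain rfl : h = 1 := hh
      obtain ⟨f1, f2, -, -⟩ := d.crit_full hb ⟨rfl, hne⟩
      rw [ty_zero, cj_one] at f1
      rw [ty_zero, cj_one, cj_one] at f2
      refine ⟨i, d.V (!i), d.Q i, f1, fun a ha b hb' => d.V_comm (d.hVQ _ ha) hb', fun a ha => d.hp _ a ha,
        d.hVQ i, le_rfl, d.nQ i, fun g hg hcop => ?_, fun g hg hcop x hx => ?_⟩
      · have hVS : d.V (!i) ≤ d.S := d.VS _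
        refine d.coprime_between (d.nV i) (d.nQ i) hVS (fun hle => hne (by rwa [ty_zero, cj_one])) ?_ hg hcop
        refine commutator_le.2 fun z hz a ha => d.Z_le_V i (f2 ⟨?_, ?_⟩)
        · show ⁅z, a⁆ ∈ d.V (!i)
          rw [commutatorElement_def]
          exact mul_mem ((mem_normalizer_iff.1 (d.nV _ (d.hSX _ (d.hQS i hz))) a).1 ha) (inv_mem ha)
        · show ⁅z, a⁆ ∈ d.Q i
          rw [commutatorElement_def, mul_assoc, mul_assoc]
          exact mul_mem hz (by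
            simpa [mul_assoc] using (mem_normalizer_iff.1 (d.nQ i (d.hSX i (hVS ha))) z⁻¹).1 (inv_mem hz))
      · rw [show ⁅x, g⁆ = x * (g * x⁻¹ * g⁻¹) by simp only [commutatorElement_def]; group]
        exact mul_mem hx ((mem_normalizer_iff.1 (d.nQ i hg) _).1 (inv_mem hx))
    · by_cases hi : d.Good i
      · exact Or.inl ⟨i, d.one_of_good hb hc hi⟩
      right
      have hl := d.second_bad le_rfl hb hc
      have key : ∀ t (h : G), d.Crit 1 t h → ¬ d.Good t → d.R (!t) ≤ centralizer (d.X t : Set G) ∧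
          ∀ y, d.Far t y → ¬ cj y (d.V (!t)) ≤ d.Q (!t) := by
        intro t h hc ht
        have hy' : ∀ y, d.Far t y → ¬ cj y (d.V (!t)) ≤ d.Q (!t) ∧ d.R (!t) ≤ centralizer (d.X t : Set G) := by
          intro y hy
          obtain ⟨g, hg, x, hx, e, hcr, hR, -⟩ := d.move_left le_rfl hb hc ht (d.far_inv hy)
          refine ⟨fun hle => hcr.2 ?_, hR⟩
          rw [inv_inv, Bool.not_not, show ty 1 t = !t by simp, cj_mul]
          obtain ⟨z, hz, w, hw, hzw⟩ := hc.1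
          obtain rfl : w = 1 := hw
          rw [mul_one] at hzw
          have hg' : g ∈ d.X (!t) := by
            rw [eq_mul_inv_of_mul_eq e, hzw]
            exact mul_mem hz (inv_mem (by simpa using hx))
          rwa [d.cj_V hg']
        obtain ⟨y, hy⟩ := d.exists_far t
        exact ⟨(hy' y hy).2, fun y hy => (hy' y hy).1⟩
      obtain ⟨y, hy⟩ := d.exists_far i
      obtain ⟨hR1, hy1⟩ := key i h hc hi
      have hc2 : d.Crit 1 (!i) y := ⟨by rw [Bool.not_not]; exact d.wd_one hy.1, by simpa using hy1 y hy⟩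
      obtain ⟨hR2, hy2⟩ := key (!i) y hc2 hl
      refine ⟨hb, fun t => ?_, fun t => ?_, fun t => ?_⟩ <;>
        obtain rfl | rfl : t = i ∨ t = !i := by cases t <;> cases i <;> simp
      · exact hi
      · exact hl
      · exact hR1
      · exact hR2
      · exact hy1
      · exact hy2
  · exact (d.not_start_good hk hb hc (d.not_start_bad hk hb hc)).elim

end Pair

end Cfsg.Lib.PushUp.Char
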