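import Cfsg.Agent.PushUp.Char.Basic

/-!
Two groups with a common Sylow subgroup inside a finite ambient group: walks, critical windows.
-/

set_option autoImplicit false
set_option linter.unusedSectionVars false
set_option linter.style.haveILetI false

namespace Cfsg.Lib.PushUp.Char

open Subgroup Cfsg.Lib.BGN Cfsg.Lib.BGN.P
open Cfsg.Lib.Fusion (maxAb)
open scoped commutatorElement

universe u

variable {G : Type u} [Group G]

/-- two groups of rank-one shape over a common Sylow subgroup `S`, with the same fixed points -/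
structure Pair (G : Type u) [Group G] (p : ℕ) where
  X : Bool → Subgroup G
  S : Subgroup G
  Q : Bool → Subgroup G
  V : Bool → Subgroup G
  q : Bool → ℕ
  hQS : ∀ t, Q t ≤ S
  hSX : ∀ t, S ≤ X t
  hVQ : ∀ t, V t ≤ Q t
  nQ : ∀ t, X t ≤ normalizer (Q t : Set G)
  nV : ∀ t, X t ≤ normalizer (V t : Set G)
  hQV : ∀ t, Q t ≤ centralizer (V t : Set G)
  hC : ∀ t, ∀ x ∈ X t, cj x S ⊓ centralizer (V t : Set G) ≤ Q t
  fix_le : ∀ t, ∀ a ∈ S, a ∉ Q t → V t ⊓ centralizer ({a} : Set G) ≤ centralizer (S : Set G)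
  cS : ∀ t, Nat.card S = q t * Nat.card (Q t)
  cV : ∀ t, Nat.card (V t) = q t * Nat.card ↥(V t ⊓ centralizer (S : Set G))
  sep : ∀ t, ∀ y ∈ X t, S ⊔ cj y S = X t → ∀ v ∈ cj y S, v ∉ Q t → S ⊔ cj v⁻¹ S = X t
  move : ∀ t, ∃ y ∈ X t, S ⊔ cj y S = X t
  hR : ∀ t, ¬ ⁅V t, S⁆ ≤ centralizer (X t : Set G)
  hab : ∀ t, ∀ a ∈ S, ∀ b ∈ S, ⁅a, b⁆ ∈ Q t
  hRS : ∀ t, ⁅V t, S⁆ ≤ centralizer (S : Set G)
  hp : ∀ t, ∀ v ∈ V t, v ^ p = 1
  hZ : ∀ t, V t ⊓ centralizer (S : Set G) = V (!t) ⊓ centralizer (S : Set G)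
  hZC : ∀ t, Nat.card ↥(V t ⊓ centralizer (S : Set G)) = q t * Nat.card ↥(V t ⊓ centralizer (X t : Set G))
  reg : ∀ t, ∀ a ∈ S, a ∉ Q t → ∃ v ∈ V t, ⁅v, a⁆ ∉ centralizer (X t : Set G)
  gen : ∀ t, ∀ N : Subgroup G, N ≤ X t → X t ≤ normalizer (N : Set G) → ¬ N ⊓ S ≤ Q t →
    X t ≤ N ⊔ S ∧ ∀ g ∈ X t, (orderOf g).Coprime p → g ∈ N
  hcase : ∀ t, ∃ A ∈ maxAb S, ¬ A ≤ Q t
  hexch : ∀ t, ∀ A ∈ maxAb S, ¬ A ≤ Q t → (A ⊓ Q t) ⊔ V t ∈ maxAb S ∧ S ≤ A ⊔ Q t

/-- the type reached after `k` steps -/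
def ty : ℕ → Bool → Bool
  | 0, t => t
  | k + 1, t => ty k (!t)

@[simp] theorem ty_zero (t : Bool) : ty 0 t = t := rfl
@[simp] theorem ty_succ (k : ℕ) (t : Bool) : ty (k + 1) t = ty k (!t) := rfl

theorem ty_not (k : ℕ) (t : Bool) : ty k (!t) = !ty k t := by
  induction k generalizing t with
  | zero => rfl
  | succ k ih => exact ih (!t)

theorem ty_ty (k : ℕ) (t : Bool) : ty k (ty k t) = t := by
  induction k generalizing t with
  | zero => rfl
  | succ k ih => rw [ty_succ, ty_succ, ty_not k t, Bool.not_not]; exact ih t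

theorem ty_add (k l : ℕ) (t : Bool) : ty (k + l) t = ty l (ty k t) := by
  induction k generalizing t with
  | zero => rw [Nat.zero_add]; rfl
  | succ k ih => rw [Nat.succ_add]; exact ih (!t)

theorem cj_comm_le {g : G} {A B M : Subgroup G} (h : ⁅A, B⁆ ≤ M) : ⁅cj g A, cj g B⁆ ≤ cj g M := by
  rw [← cj_comm]; exact cj_mono g h

namespace Pair

variable {p : ℕ} [Finite G] (d : Pair G p)

include d

/-- the common fixed points -/
abbrev Z : Subgroup G := d.V false ⊓ centralizer (d.S : Set G)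

theorem Z_eq (t : Bool) : d.V t ⊓ centralizer (d.S : Set G) = d.Z := by
  cases t with
  | false => rfl
  | true => exact d.hZ true

/-- the fixed points of one of the groups -/
abbrev C (t : Bool) : Subgroup G := d.V t ⊓ centralizer (d.X t : Set G)

/-- the commutators of the module with `S` -/
abbrev R (t : Bool) : Subgroup G := ⁅d.V t, d.S⁆

/-- walks starting at the vertex of type `t` -/
def Wd : ℕ → Bool → Set G
  | 0, _ => {1}
  | k + 1, t => {g | ∃ x ∈ d.X t, ∃ h ∈ Wd k (!t), g = x * h}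

/-- below distance `b` every module lies in every core -/
def Low (b : ℕ) : Prop := ∀ k < b, ∀ t, ∀ g ∈ d.Wd k t, cj g (d.V (ty k t)) ≤ d.Q t

/-- a window of `k + 1` steps starting with the edge `S` -/
def Crit (k : ℕ) (i : Bool) (h : G) : Prop := h ∈ d.Wd k (!i) ∧ ¬ cj h (d.V (ty k (!i))) ≤ d.Q i

/-- the module generated by both -/
abbrev L : Subgroup G := d.V false ⊔ d.V true

/-- `X t` preserves the join of the two modules -/
def Good (t : Bool) : Prop := d.X t ≤ normalizer (d.L : Set G)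

/-- conjugators moving `S` as far as possible -/
def Far (t : Bool) (y : G) : Prop := y ∈ d.X t ∧ d.S ⊔ cj y d.S = d.X t

theorem cj_X {t : Bool} {x : G} (hx : x ∈ d.X t) : cj x (d.X t) = d.X t := cj_eq_of_mem (le_normalizer hx)
theorem cj_Q {t : Bool} {x : G} (hx : x ∈ d.X t) : cj x (d.Q t) = d.Q t := cj_eq_of_mem (d.nQ t hx)
theorem cj_V {t : Bool} {x : G} (hx : x ∈ d.X t) : cj x (d.V t) = d.V t := cj_eq_of_mem (d.nV t hx)
theorem cj_S {s : G} (hs : s ∈ d.S) : cj s d.S = d.S := cj_eq_of_mem (le_normalizer hs)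

theorem QX (t : Bool) : d.Q t ≤ d.X t := (d.hQS t).trans (d.hSX t)
theorem VS (t : Bool) : d.V t ≤ d.S := (d.hVQ t).trans (d.hQS t)
theorem cjS_le {t : Bool} {x : G} (hx : x ∈ d.X t) : cj x d.S ≤ d.X t := (cj_mono x (d.hSX t)).trans (d.cj_X hx).le
theorem Q_le_cjS {t : Bool} {x : G} (hx : x ∈ d.X t) : d.Q t ≤ cj x d.S :=
  (d.cj_Q hx).ge.trans (cj_mono x (d.hQS t))

theorem q_pos (t : Bool) : 0 < d.q t := Nat.pos_of_ne_zero fun h => by
  have := d.cS t; rw [h, zero_mul] at this; exact Nat.card_pos.ne' this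

theorem R_le_V (t : Bool) : d.R t ≤ d.V t :=
  Subgroup.le_normalizer_iff_commutator_le_left.1 ((d.hSX t).trans (d.nV t))

theorem R_le_Z (t : Bool) : d.R t ≤ d.Z := d.Z_eq t ▸ le_inf (d.R_le_V t) (d.hRS t)

theorem Z_le_V (t : Bool) : d.Z ≤ d.V t := d.Z_eq t ▸ inf_le_left

theorem Z_fix {z s : G} (hz : z ∈ d.Z) (hs : s ∈ d.S) : s * z * s⁻¹ = z := by
  rw [mem_centralizer_iff.1 hz.2 s hs, mul_inv_cancel_right]

theorem L_eq (t : Bool) : d.V t ⊔ d.V (!t) = d.L := by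
  cases t
  · rfl
  · exact sup_comm _ _

theorem V_le_L (t : Bool) : d.V t ≤ d.L := d.L_eq t ▸ le_sup_left

theorem V_comm {t : Bool} {u v : G} (hu : u ∈ d.Q t) (hv : v ∈ d.V t) : u * v = v * u :=
  (mem_centralizer_iff.1 (d.hQV t hu) v hv).symm

theorem cjQ_cent (g : G) (t : Bool) : cj g (d.Q t) ≤ centralizer (cj g (d.V t) : Set G) := by
  rw [← cj_centralizer]; exact cj_mono g (d.hQV t)

theorem S_normalizes_L : d.S ≤ normalizer (d.L : Set G) := le_normalizer_of_forall fun s hs => by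
  rw [cj_sup, d.cj_V (d.hSX false hs), d.cj_V (d.hSX true hs)]

theorem fix_central {t : Bool} {x : G} (hx : x ∈ d.X t) {K : Subgroup G} (hK : K ≤ centralizer (d.X t : Set G)) :
    cj x K = K :=
  cj_eq_of_mem (mem_normalizer_iff.2 fun z => by
    constructor
    · intro hz
      rwa [show x * z * x⁻¹ = z by rw [mem_centralizer_iff.1 (hK hz) x hx]; group]
    · intro hz
      have e := mem_centralizer_iff.1 (hK hz) x hx
      have : z = x * z * x⁻¹ := by
        calc z = x⁻¹ * (x * z * x⁻¹ * x) := by group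
          _ = x⁻¹ * (x * (x * z * x⁻¹)) := by rw [e]
          _ = x * z * x⁻¹ := by group
      rwa [← this] at hz)

theorem exists_far (t : Bool) : ∃ y, d.Far t y := d.move t

theorem far_inv {t : Bool} {y : G} (hy : d.Far t y) : d.Far t y⁻¹ := by
  refine ⟨inv_mem hy.1, ?_⟩
  have := congrArg (cj y⁻¹) hy.2
  rwa [cj_sup, cj_inv_left, d.cj_X (inv_mem hy.1), sup_comm] at this

/-- two far conjugates differing by an element outside the core generate -/
theorem far_pair {t : Bool} {y a : G} (hy : d.Far t y) (ha : a ∈ d.S) (haQ : a ∉ d.Q t) :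
    cj y d.S ⊔ cj (a * y) d.S = d.X t := by
  have hy' := d.far_inv hy
  set v := y⁻¹ * a⁻¹ * y
  have hv : v ∈ cj y⁻¹ d.S := by
    simpa [v] using conj_mem_cj (g := y⁻¹) (inv_mem ha)
  have hvQ : v ∉ d.Q t := fun h => haQ (by
    have := inv_mem ((mem_normalizer_iff.1 (d.nQ t hy.1) v).1 h)
    simpa [v, mul_assoc] using this)
  have := congrArg (cj y) (d.sep t _ hy'.1 hy'.2 v hv hvQ)
  rwa [cj_sup, d.cj_X hy.1, ← cj_mul, show y * v⁻¹ = a * y by simp [v, mul_assoc]] at this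

/-- a fixed subgroup centralised by a far conjugate of `S` -/
theorem central_of_far {t : Bool} {y : G} (hy : d.Far t y) {K : Subgroup G} (h1 : K ≤ centralizer (d.S : Set G))
    (h2 : K ≤ centralizer (cj y d.S : Set G)) : K ≤ centralizer (d.X t : Set G) := by
  rw [le_centralizer_iff, ← hy.2]
  exact sup_le (le_centralizer_iff.1 h1) (le_centralizer_iff.1 h2)

/-- a normalised subgroup of the fixed points is central -/
theorem central_of_norm {t : Bool} {K : Subgroup G} (h1 : K ≤ centralizer (d.S : Set G))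
    (h2 : d.X t ≤ normalizer (K : Set G)) : K ≤ centralizer (d.X t : Set G) := by
  obtain ⟨y, hy⟩ := d.exists_far t
  refine d.central_of_far hy h1 ?_
  rw [← cj_centralizer, ← cj_eq_of_mem (h2 hy.1)]
  exact cj_mono y h1

theorem wd_add {k l : ℕ} {t : Bool} {g h : G} (hg : g ∈ d.Wd k t) (hh : h ∈ d.Wd l (ty k t)) :
    g * h ∈ d.Wd (k + l) t := by
  induction k generalizing g t with
  | zero => obtain rfl : g = 1 := hg; simpa using hh
  | succ k ih =>
    obtain ⟨x, hx, g', hg', rfl⟩ := hg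
    rw [Nat.succ_add]
    exact ⟨x, hx, g' * h, ih hg' hh, mul_assoc _ _ _⟩

theorem wd_one {t : Bool} {x : G} (hx : x ∈ d.X t) : x ∈ d.Wd 1 t := ⟨x, hx, 1, rfl, (mul_one x).symm⟩

theorem wd_cons {k : ℕ} {t : Bool} {x h : G} (hx : x ∈ d.X t) (hh : h ∈ d.Wd k (!t)) : x * h ∈ d.Wd (k + 1) t :=
  ⟨x, hx, h, hh, rfl⟩

theorem wd_pre {k : ℕ} {t : Bool} {h : G} (hh : h ∈ d.Wd k (!t)) : h ∈ d.Wd (k + 1) t := by
  simpa using d.wd_cons (one_mem (d.X t)) hh

theorem wd_head {k : ℕ} {t : Bool} {x g : G} (hx : x ∈ d.X t) (hg : g ∈ d.Wd (k + 1) t) :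
    x * g ∈ d.Wd (k + 1) t := by
  obtain ⟨y, hy, h, hh, rfl⟩ := hg
  exact ⟨x * y, mul_mem hx hy, h, hh, (mul_assoc _ _ _).symm⟩

theorem wd_last {k : ℕ} {t : Bool} {g : G} (hg : g ∈ d.Wd (k + 1) t) :
    ∃ h ∈ d.Wd k t, ∃ x ∈ d.X (ty k t), g = h * x := by
  induction k generalizing g t with
  | zero =>
    obtain ⟨x, hx, h, hh, rfl⟩ := hg
    obtain rfl : h = 1 := hh
    exact ⟨1, rfl, x, hx, by group⟩
  | succ k ih =>
    obtain ⟨x, hx, h, hh, rfl⟩ := hg
    obtain ⟨h', hh', x', hx', rfl⟩ := ih hh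
    exact ⟨x * h', ⟨x, hx, h', hh', rfl⟩, x', hx', (mul_assoc _ _ _).symm⟩

theorem wd_inv {k : ℕ} {t : Bool} {g : G} (hg : g ∈ d.Wd k t) :
    ∃ h ∈ d.Wd k (ty k t), ∃ x ∈ d.X t, g⁻¹ = h * x := by
  induction k generalizing g t with
  | zero => obtain rfl : g = 1 := hg; exact ⟨1, rfl, 1, one_mem _, by simp⟩
  | succ k ih =>
    obtain ⟨x, hx, g', hg', rfl⟩ := hg
    obtain ⟨h, hh, x', hx', he⟩ := ih hg'
    refine ⟨h * x', d.wd_add hh ?_, x⁻¹, inv_mem hx, by rw [_root_.mul_inv_rev, he]⟩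
    rw [ty_succ, ty_ty]
    exact d.wd_one hx'

theorem low_mono {a b : ℕ} (h : a ≤ b) (hb : d.Low b) : d.Low a := fun k hk => hb k (lt_of_lt_of_le hk h)

theorem low_zero : d.Low 1 := fun k hk t g hg => by
  obtain rfl : k = 0 := by omega
  obtain rfl : g = 1 := hg
  rw [cj_one]; exact d.hVQ t

/-- adjacent modules -/
theorem low_adj {b : ℕ} (hb : d.Low b) (h2 : 2 ≤ b) (t : Bool) : d.V (!t) ≤ d.Q t := by
  have := hb 1 (by omega) t 1 (d.wd_one (one_mem _))
  rwa [cj_one] at this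

/-- modules at distance two -/
theorem low_two {b : ℕ} (hb : d.Low b) (h3 : 3 ≤ b) (t : Bool) {x : G} (hx : x ∈ d.X (!t)) :
    cj x (d.V t) ≤ d.Q t := by
  have := hb 2 (by omega) t x (d.wd_pre (d.wd_one hx))
  simpa using this

theorem low_left {b : ℕ} (hb : d.Low b) {k : ℕ} (hk : k < b) {t : Bool} {g : G} (hg : g ∈ d.Wd k t) :
    d.V t ≤ cj g (d.Q (ty k t)) := by
  obtain ⟨h, hh, x, hx, he⟩ := d.wd_inv hg
  have h1 := hb k hk _ h hh
  rw [ty_ty] at h1
  rw [← cj_inv_right g (d.V t), cj_le_iff, he, cj_mul, d.cj_V hx]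
  exact h1

theorem exists_crit {b : ℕ} (hb : d.Low b) (hne : ¬ d.Low (b + 1)) :
    ∃ k, b = k + 1 ∧ ∃ i h, d.Crit k i h := by
  simp only [Low] at hne
  push Not at hne
  obtain ⟨k, hk, t, g, hg, hne⟩ := hne
  have hkb : k = b := by
    by_contra h
    exact hne (hb k (by omega) t g hg)
  subst hkb
  obtain ⟨k', rfl⟩ : ∃ k', k = k' + 1 := Nat.exists_eq_succ_of_ne_zero fun h0 => by
    subst h0
    obtain rfl : g = 1 := hg
    exact hne (by rw [cj_one]; exact d.hVQ t)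
  obtain ⟨x, hx, h, hh, rfl⟩ := hg
  refine ⟨k', rfl, t, h, hh, fun hle => hne ?_⟩
  rw [cj_mul]
  exact (cj_mono x hle).trans (d.cj_Q hx).le

section Window

variable {k : ℕ} {i : Bool} {h : G} (hb : d.Low (k + 1)) (hc : d.Crit k i h)

include hb hc

theorem crit_front : cj h (d.V (ty k (!i))) ≤ d.S :=
  (hb k (Nat.lt_succ_self k) _ h hc.1).trans (d.hQS _)

theorem crit_back : d.V i ≤ cj h d.S := by
  obtain ⟨g, hg, x, hx, e⟩ := d.wd_last (d.wd_pre hc.1)
  rw [e, cj_mul]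
  exact (d.low_left hb (Nat.lt_succ_self k) hg).trans (cj_mono g (d.Q_le_cjS hx))

theorem crit_symm : ¬ d.V i ≤ cj h (d.Q (ty k (!i))) := fun hle => hc.2 fun u hu =>
  d.hC i 1 (one_mem _) ⟨by rw [cj_one]; exact d.crit_front hb hc hu, mem_centralizer_iff.2 fun v hv =>
    (mem_centralizer_iff.1 (d.cjQ_cent h _ (hle hv)) u hu).symm⟩

/-- both ends act on each other as a whole Sylow subgroup -/
theorem crit_full : cj h (d.V (ty k (!i))) ⊔ d.Q i = d.S ∧
    cj h (d.V (ty k (!i))) ⊓ d.Q i ≤ cj h d.Z ∧ d.q (ty k (!i)) = d.q i ∧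
    d.R i = cj h (d.R (ty k (!i))) := by
  set j := ty k (!i)
  set U := cj h (d.V j)
  set z := Nat.card d.Z
  have hU := d.crit_front hb hc
  have hV := d.crit_back hb hc
  obtain ⟨v, hv, hvQ⟩ := SetLike.not_le_iff_exists.1 (d.crit_symm hb hc)
  obtain ⟨u, hu, huQ⟩ := SetLike.not_le_iff_exists.1 hc.2
  have h3 : U ⊓ d.Q i ≤ cj h d.Z := fun w hw => by
    have hw' := mem_cj.1 hw.1
    have e := mem_centralizer_iff.1 (d.hQV i hw.2) v hv
    rw [mem_cj, ← d.Z_eq j]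
    refine ⟨hw', d.fix_le j _ (mem_cj.1 (hV hv)) (fun hh => hvQ (mem_cj.2 hh))
      ⟨hw', mem_centralizer_singleton_iff.2 ?_⟩⟩
    calc h⁻¹ * w * h * (h⁻¹ * v * h) = h⁻¹ * (w * v) * h := by group
      _ = h⁻¹ * (v * w) * h := by rw [e]
      _ = h⁻¹ * v * h * (h⁻¹ * w * h) := by group
  have h4 : d.V i ⊓ cj h (d.Q j) ≤ d.Z := fun w hw => by
    rw [← d.Z_eq i]
    refine ⟨hw.1, d.fix_le i u (hU hu) huQ ⟨hw.1, mem_centralizer_singleton_iff.2 ?_⟩⟩
    exact (mem_centralizer_iff.1 (d.cjQ_cent h j hw.2) u hu).symm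
  have hsup : U ⊔ d.Q i ≤ d.S := sup_le hU (d.hQS i)
  have hsup' : d.V i ⊔ cj h (d.Q j) ≤ cj h d.S := sup_le hV (cj_mono h (d.hQS j))
  have c1 : d.q j * z * Nat.card (d.Q i) ≤ Nat.card ↥(U ⊔ d.Q i) * z := by
    calc d.q j * z * Nat.card (d.Q i) = Nat.card U * Nat.card (d.Q i) := by rw [card_cj, d.cV j, d.Z_eq j]
      _ ≤ _ := card_mul_le_sup _ _
      _ ≤ _ := Nat.mul_le_mul_left _ ((card_le_of_le h3).trans (card_cj _ _).le)
  have hji : d.q j ≤ d.q i := by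
    refine Nat.le_of_mul_le_mul_right (c := z * Nat.card (d.Q i)) ?_ (Nat.mul_pos Nat.card_pos Nat.card_pos)
    calc d.q j * (z * Nat.card (d.Q i)) = d.q j * z * Nat.card (d.Q i) := by ring
      _ ≤ Nat.card d.S * z := c1.trans (Nat.mul_le_mul_right _ (card_le_of_le hsup))
      _ = _ := by rw [d.cS i]; ring
  have hij : d.q i ≤ d.q j := by
    refine Nat.le_of_mul_le_mul_right (c := z * Nat.card (d.Q j)) ?_ (Nat.mul_pos Nat.card_pos Nat.card_pos)
    calc d.q i * (z * Nat.card (d.Q j)) = Nat.card (d.V i) * Nat.card (cj h (d.Q j)) := by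
          rw [card_cj, d.cV i, d.Z_eq i]; ring
      _ ≤ _ := card_mul_le_sup _ _
      _ ≤ Nat.card d.S * z :=
          Nat.mul_le_mul ((card_le_of_le hsup').trans (card_cj _ _).le) (card_le_of_le h4)
      _ = _ := by rw [d.cS j]; ring
  have hq := le_antisymm hji hij
  have h1 : U ⊔ d.Q i = d.S := by
    refine Subgroup.eq_of_le_of_card_ge hsup ?_
    refine Nat.le_of_mul_le_mul_right (c := z) ?_ Nat.card_pos
    refine le_trans (le_of_eq ?_) c1
    rw [hq, d.cS i]; ring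
  have h2 : d.V i ⊔ cj h (d.Q j) = cj h d.S := by
    refine Subgroup.eq_of_le_of_card_ge hsup' ?_
    refine Nat.le_of_mul_le_mul_right (c := z) ?_ Nat.card_pos
    calc Nat.card (cj h d.S) * z = Nat.card (d.V i) * Nat.card (cj h (d.Q j)) := by
          rw [card_cj, card_cj, d.cS j, d.cV i, d.Z_eq i, hq]; ring
      _ ≤ _ := card_mul_le_sup _ _
      _ ≤ _ := Nat.mul_le_mul_left _ (card_le_of_le h4)
  have key : ∀ (A B K T : Subgroup G), A ≤ normalizer (B : Set G) → B ≤ centralizer (K : Set G) → A ⊔ B = T →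
      ⁅K, T⁆ = ⁅K, A⁆ := by
    intro A B K T hn hc' e
    subst e
    refine le_antisymm (commutator_le.2 fun v' hv' w hw => ?_) (commutator_mono le_rfl le_sup_left)
    rw [← SetLike.mem_coe, coe_mul_of_left_le_normalizer_right _ _ hn] at hw
    obtain ⟨a, ha, b, hb', rfl⟩ := hw
    have eb : ⁅v', b⁆ = 1 := commutatorElement_eq_one_iff_mul_comm.2 (mem_centralizer_iff.1 (hc' hb') v' hv')
    rw [show ⁅v', a * b⁆ = ⁅v', a⁆ * (a * ⁅v', b⁆ * a⁻¹) by simp only [commutatorElement_def]; group, eb]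
    simpa using commutator_mem_commutator hv' ha
  refine ⟨h1, h3, hq, ?_⟩
  have hn1 : U ≤ normalizer (d.Q i : Set G) := hU.trans ((d.hSX i).trans (d.nQ i))
  have hn2 : d.V i ≤ normalizer (cj h (d.Q j) : Set G) :=
    hV.trans (cj_le_normalizer ((d.hSX j).trans (d.nQ j)) h)
  calc d.R i = ⁅d.V i, U⁆ := key U (d.Q i) (d.V i) d.S hn1 (d.hQV i) h1
    _ = ⁅U, d.V i⁆ := commutator_comm _ _
    _ = ⁅U, cj h d.S⁆ := (key (d.V i) (cj h (d.Q j)) U _ hn2 (d.cjQ_cent h j) h2).symm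
    _ = cj h (d.R j) := (cj_comm h _ _).symm

theorem crit_rev : ∃ h', d.Crit k (ty k (!i)) h' := by
  set j := ty k (!i) with hj
  obtain ⟨h'', hh'', x, hx, he⟩ := d.wd_inv (d.wd_pre hc.1)
  rw [show ty (k + 1) i = j from rfl] at hh''
  obtain ⟨x', hx', h', hh', e'⟩ := hh''
  refine ⟨h', hh', fun hle => d.crit_symm hb hc ?_⟩
  have hji : ty k (!j) = i := by rw [hj, ← ty_succ k, ← ty_succ k i]; exact ty_ty (k + 1) i
  rw [hji] at hle
  rw [← cj_inv_right h (d.V i), cj_le_iff, he, e', cj_mul, d.cj_V hx, cj_mul]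
  exact (cj_mono x' hle).trans (d.cj_Q hx').le

end Window

end Pair

end Cfsg.Lib.PushUp.Char
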