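import Cfsg.Agent.PushUp.Char.Top
import Cfsg.Agent.PushUp.CentrallyLarge

/-!
Centrally large subgroups and their joins under isomorphisms.
-/

set_option autoImplicit false
set_option linter.unusedSectionVars false
set_option linter.style.haveILetI false

namespace Cfsg.Lib.PushUp.Char

open Subgroup
open Cfsg.Lib.BGN.P (phi map_phi)

universe u

variable {S T : Type u} [Group S] [Finite S] [Group T] [Finite T]

theorem card_map_iso (e : S ≃* T) (R : Subgroup S) : Nat.card ↥(R.map (e : S →* T)) = Nat.card R :=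
  card_map_of_injective e.injective

theorem card_center_map (e : S ≃* T) (R : Subgroup S) :
    Nat.card ↥(Subgroup.center ↥(R.map (e : S →* T))) = Nat.card ↥(Subgroup.center ↥R) :=
  (Nat.card_congr (Subgroup.centerCongr (e.subgroupMap R)).toEquiv).symm

theorem max_iso (e : S ≃* T) : Cfsg.maxCentralProduct S = Cfsg.maxCentralProduct T := by
  unfold Cfsg.maxCentralProduct
  congr 1
  ext k
  constructor
  · rintro ⟨R, rfl⟩
    exact ⟨R.map (e : S →* T), by rw [card_map_iso, card_center_map]⟩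
  · rintro ⟨R, rfl⟩
    exact ⟨R.map (e.symm : T →* S), by rw [card_map_iso, card_center_map]⟩

theorem cl_iso (e : S ≃* T) {Q : Subgroup S} (h : Cfsg.IsCentrallyLarge Q) :
    Cfsg.IsCentrallyLarge (Q.map (e : S →* T)) := by
  unfold Cfsg.IsCentrallyLarge at h ⊢
  rw [card_map_iso, card_center_map, h, max_iso e]

theorem map_symm_map (e : S ≃* T) (R : Subgroup T) : (R.map (e.symm : T →* S)).map (e : S →* T) = R := by
  rw [map_map]
  ext y
  simp

theorem mcl_iso (e : S ≃* T) {Q : Subgroup S} (h : Cfsg.IsMinimalCentrallyLarge Q) :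
    Cfsg.IsMinimalCentrallyLarge (Q.map (e : S →* T)) := by
  refine ⟨cl_iso e h.1, fun R hR hRc => ?_⟩
  have h1 := h.2 (R.map (e.symm : T →* S)) (by
    rintro _ ⟨r, hr, rfl⟩
    obtain ⟨q, hq, rfl⟩ := hR hr
    simpa using hq) (cl_iso e.symm hRc)
  rw [← h1, map_symm_map]

theorem mcl_join_iso (e : S ≃* T) :
    (Cfsg.minimalCentrallyLargeJoin S).map (e : S →* T) = Cfsg.minimalCentrallyLargeJoin T := by
  have h : ∀ {S T : Type u} [Group S] [Finite S] [Group T] [Finite T] (e : S ≃* T),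
      (Cfsg.minimalCentrallyLargeJoin S).map (e : S →* T) ≤ Cfsg.minimalCentrallyLargeJoin T := fun e => by
    rw [Cfsg.minimalCentrallyLargeJoin, (gc_map_comap _).l_sSup]
    exact iSup₂_le fun Q hQ => le_sSup (mcl_iso e hQ)
  refine le_antisymm (h e) ?_
  rw [← map_symm_map e (Cfsg.minimalCentrallyLargeJoin T)]
  exact map_mono (h e.symm)

variable {p : ℕ} [hp : Fact p.Prime]

theorem omega_iso (e : S ≃* T) (Q : Subgroup S) :
    (Cfsg.omegaOneCenter p Q).map (e : S →* T) = Cfsg.omegaOneCenter p (Q.map (e : S →* T)) := by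
  ext y
  constructor
  · rintro ⟨x, hx, rfl⟩
    obtain ⟨h1, h2, h3⟩ := Cfsg.Lib.PushUp.Ctx.mem_omega.1 hx
    refine Cfsg.Lib.PushUp.Ctx.mem_omega.2 ⟨mem_map_of_mem _ h1, mem_centralizer_iff.2 ?_, ?_⟩
    · rintro _ ⟨z, hz, rfl⟩
      rw [← map_mul, ← map_mul, mem_centralizer_iff.1 h2 z hz]
    · rw [← map_pow, h3, map_one]
  · intro hy
    obtain ⟨⟨x, hx, rfl⟩, h2, h3⟩ := Cfsg.Lib.PushUp.Ctx.mem_omega.1 hy
    refine mem_map_of_mem _ (Cfsg.Lib.PushUp.Ctx.mem_omega.2 ⟨hx, mem_centralizer_iff.2 fun z hz => e.injective ?_,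
      e.injective ?_⟩)
    · rw [map_mul, map_mul]
      exact mem_centralizer_iff.1 h2 _ (mem_map_of_mem (e : S →* T) hz)
    · rw [map_pow, map_one]; exact h3

theorem mz_iso (e : S ≃* T) : Cfsg.maxOmegaCenterOfMinimalCL p S = Cfsg.maxOmegaCenterOfMinimalCL p T := by
  have h : ∀ {S T : Type u} [Group S] [Finite S] [Group T] [Finite T] (e : S ≃* T) {k : ℕ},
      (∃ Q : Subgroup S, Cfsg.IsMinimalCentrallyLarge Q ∧ Nat.card ↥(Cfsg.omegaOneCenter p Q) = k) →
      ∃ Q : Subgroup T, Cfsg.IsMinimalCentrallyLarge Q ∧ Nat.card ↥(Cfsg.omegaOneCenter p Q) = k := by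
    rintro S T _ _ _ _ e k ⟨Q, hQ, rfl⟩
    exact ⟨Q.map (e : S →* T), mcl_iso e hQ, by rw [← omega_iso e, card_map_iso]⟩
  unfold Cfsg.maxOmegaCenterOfMinimalCL
  congr 1
  exact Set.ext fun k => ⟨h e, h e.symm⟩

/-- the join of the Frattini subgroups, written with `phi` -/
theorem frattini_join_eq (hS : IsPGroup p S) : Cfsg.frattiniOfMinimalCLJoin p S =
    ⨆ Q : {Q : Subgroup S // Cfsg.IsMinimalCentrallyLarge Q ∧
      Nat.card ↥(Cfsg.omegaOneCenter p Q) = Cfsg.maxOmegaCenterOfMinimalCL p S}, phi p (Q : Subgroup S) := by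
  refine iSup_congr fun Q => ?_
  rw [map_eq_map (hS.to_subgroup _), map_phi, ← MonoidHom.range_eq_map, Subgroup.range_subtype]

theorem frattini_join_iso (hS : IsPGroup p S) (e : S ≃* T) :
    (Cfsg.frattiniOfMinimalCLJoin p S).map (e : S →* T) = Cfsg.frattiniOfMinimalCLJoin p T := by
  have hT : IsPGroup p T := hS.of_equiv e
  have h : ∀ {S T : Type u} [Group S] [Finite S] [Group T] [Finite T] (e : S ≃* T), IsPGroup p S → IsPGroup p T →
      (Cfsg.frattiniOfMinimalCLJoin p S).map (e : S →* T) ≤ Cfsg.frattiniOfMinimalCLJoin p T := fun {S T} _ _ _ _ e hS hT => by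
    rw [frattini_join_eq hS, frattini_join_eq hT, Subgroup.map_iSup]
    refine iSup_le fun ⟨Q, hQ, hm⟩ => ?_
    rw [map_phi]
    exact le_iSup (fun Q : {Q : Subgroup T // Cfsg.IsMinimalCentrallyLarge Q ∧
      Nat.card ↥(Cfsg.omegaOneCenter p Q) = Cfsg.maxOmegaCenterOfMinimalCL p T} => phi p (Q : Subgroup T))
      ⟨Q.map (e : S →* T), mcl_iso e hQ, by rw [← omega_iso e, card_map_iso, ← mz_iso e, hm]⟩
  refine le_antisymm (h e hS hT) ?_
  rw [← map_symm_map e (Cfsg.frattiniOfMinimalCLJoin p T)]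
  exact map_mono (h e.symm hT hS)

end Cfsg.Lib.PushUp.Char
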