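import Cfsg.Agent.PushUp.Char.Iso

/-!
Two characteristic subgroups for pushing up, the second one containing a centrally large subgroup, outside the
exceptional class of Sylow subgroups.
-/

set_option autoImplicit false
set_option linter.unusedSectionVars false
set_option linter.style.haveILetI false

namespace Cfsg.Lib.PushUp.Char

open Subgroup Cfsg.Lib.BGN Cfsg.Lib.BGN.P
open scoped commutatorElement Pointwise
open Cfsg.Lib.Fusion (maxAb)

universe u

/-- the situations: an embedding of `S` as a Sylow subgroup -/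
structure Emb (p : ℕ) (S : Type u) [Group S] (G : Type u) [Group G] where
  τ : S →* G
  inj : Function.Injective τ
  syl : ∃ P : Sylow p G, (P : Subgroup G) = τ.range
  hc : centralizer (Cfsg.pCore p G : Set G) ≤ Cfsg.pCore p G
  hM : ∃! M : Subgroup G, IsCoatom M ∧ τ.range ≤ M
  hK : ∃ (K : Subgroup G) (_ : K.Normal) (F : Type) (_ : Field F) (_ : Fintype F) (n : ℕ),
    1 ≤ n ∧ Fintype.card F = p ^ n ∧ Nonempty (G ⧸ K ≃* Matrix.ProjectiveSpecialLinearGroup (Fin 2) F)

/-- the property asked of the two subgroups -/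
def Good2 (p : ℕ) {S : Type u} [Group S] (S₁ S₂ : Subgroup S) : Prop :=
  ∀ (G : Type u) [Group G] [Finite G] (E : Emb p S G), (S₁.map E.τ).Normal ∨ (S₂.map E.τ).Normal

variable {S : Type u} [Group S] [Finite S] {p : ℕ} [hp : Fact p.Prime]

section

variable {G : Type u} [Group G] [Finite G] (E : Emb p S G)

include E

theorem Emb.isPGroup : IsPGroup p S := by
  obtain ⟨P, hP⟩ := E.syl
  exact (P.2.to_le (hP.ge : E.τ.range ≤ (P : Subgroup G))).of_equiv (MonoidHom.ofInjective E.inj).symm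

/-- the context of an embedding, with the identification of the two Sylow subgroups -/
theorem Emb.exists_ctx (hJ : centralizer (Cfsg.centerThompsonAOf (⊤ : Subgroup S) : Set S) = ⊤) :
    ∃ (F : Type) (_ : Field F) (_ : Fintype F) (c : Cfsg.Lib.PushUp.Ctx p G F), (c.S : Subgroup G) = E.τ.range ∧
      c.Zs = (center S).map E.τ ∧ (c.S : Subgroup G) ≤ centralizer (c.Zj : Set G) ∧
      ∃ e : S ≃* ↥(c.S : Subgroup G), (c.S : Subgroup G).subtype.comp (e : S →* ↥(c.S : Subgroup G)) = E.τ := by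
  obtain ⟨P, hP⟩ := E.syl
  obtain ⟨K, hKn, F, iF, iF', n, hn1, hF, hiso⟩ := E.hK
  obtain ⟨c, hc'⟩ := Cfsg.Lib.PushUp.exists_ctx P E.hc (by simpa [hP] using E.hM) K n hn1 hF hiso
  have hS : (c.S : Subgroup G) = E.τ.range := by rw [hc', hP]
  refine ⟨F, iF, iF', c, hS, by rw [map_center E.inj, Cfsg.Lib.PushUp.Ctx.Zs, hS], ?_,
    (MonoidHom.ofInjective E.inj).trans (MulEquiv.subgroupCongr hS.symm), MonoidHom.ext fun s => rfl⟩
  have h1 : (c.S : Subgroup G) ⊓ centralizer (c.Zj : Set G) = E.τ.range := by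
    rw [Cfsg.Lib.PushUp.Ctx.Zj, hS, ← map_zj E.inj, MonoidHom.range_eq_map, map_inf_centralizer E.inj, hJ,
      inf_top_eq]
  exact hS.le.trans (h1.ge.trans inf_le_right)

end

theorem maxAb_top {A : Subgroup S} : A ∈ maxAb (⊤ : Subgroup S) ↔ A ∈ Cfsg.maxAbelianSubgroups S :=
  ⟨fun h => ⟨h.2.1, fun B hB => h.2.2 B le_top hB⟩, fun h => ⟨le_top, h.1, fun B _ hB => h.2 B hB⟩⟩

theorem exists_maxAb : ∃ A : Subgroup S, A ∈ Cfsg.maxAbelianSubgroups S := by
  obtain ⟨A, hA, hmax⟩ := Set.exists_max_image {A : Subgroup S | IsMulCommutative A} (fun A => Nat.card A)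
    (Set.toFinite _) ⟨⊥, ⟨⟨fun a b => Subsingleton.elim _ _⟩⟩⟩
  exact ⟨A, hA, hmax⟩

/-- a subgroup containing a centrally large one has the same maximum -/
theorem max_eq_of_cl {R H : Subgroup S} (hR : Cfsg.IsCentrallyLarge R) (hRH : R ≤ H) :
    Cfsg.maxCentralProduct ↥H = Cfsg.maxCentralProduct S := by
  refine le_antisymm ?_ ?_
  · refine csSup_le ⟨_, ⊥, rfl⟩ ?_
    rintro k ⟨X, rfl⟩
    rw [← card_map_of_injective H.subtype_injective (K := X),
      Nat.card_congr (Subgroup.centerCongr (X.equivMapOfInjective H.subtype H.subtype_injective)).toEquiv,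
      Cfsg.Lib.CD.card_center]
    exact Cfsg.Lib.CD.center_prod_le _
  · rw [← hR]
    refine le_csSup ((Set.finite_range fun X : Subgroup ↥H => Nat.card X * Nat.card (Subgroup.center X)).subset
      (by rintro k ⟨X, rfl⟩; exact ⟨X, rfl⟩)).bddAbove ⟨R.subgroupOf H, ?_⟩
    rw [Nat.card_congr (subgroupOfEquivOfLe hRH).toEquiv,
      Nat.card_congr (Subgroup.centerCongr (subgroupOfEquivOfLe hRH)).toEquiv]

theorem center_ne_bot [Nontrivial S] (hS : IsPGroup p S) : center S ≠ ⊥ :=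
  (nontrivial_iff_ne_bot _).1 hS.center_nontrivial

/-- the modules of two members generate a normal subgroup -/
theorem pair_normal {G : Type u} [Group G] [Finite G] {τ : S →* G} (hτ : Function.Injective τ) {F : Type} [Field F]
    [Fintype F] (d : Sit p G F) (hS : d.S = τ.range)
    (h0 : ¬ ((s0 p (⊤ : Subgroup S) ⊓ center S).map τ).Normal) {K : Subgroup S}
    (hK : K ∈ modules p S (s0 p (⊤ : Subgroup S) ⊓ center S)) : ((d.W.comap τ ⊔ K).map τ).Normal := by
  obtain ⟨H, iH, iH', τ', hτ', h0', F', iF, iF', d', hS', rfl⟩ := hK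
  rcases main_pair hτ hτ' d d' hS hS' with h | h | h
  · exact h.1
  · exact absurd (Cfsg.Lib.PushUp.normal_of_le_center h) h0
  · exact absurd (Cfsg.Lib.PushUp.normal_of_le_center h) h0'

/-- one largest abelian subgroup contains all the modules -/
theorem exists_common {s : Set (Subgroup S)} (hs : s.Finite)
    (hsub : s ⊆ modules p S (s0 p (⊤ : Subgroup S) ⊓ center S)) :
    ∃ A ∈ Cfsg.maxAbelianSubgroups S, ∀ K ∈ s, K ≤ A := by
  induction s, hs using Set.Finite.induction_on with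
  | empty => obtain ⟨A, hA⟩ := exists_maxAb (S := S); exact ⟨A, hA, fun K hK => absurd hK (by simp)⟩
  | @insert K s _ _ ih =>
    obtain ⟨A, hA, hle⟩ := ih fun X hX => hsub (Set.mem_insert_of_mem _ hX)
    obtain ⟨G, iG, iG', τ, hτ, h0, F, iF, iF', d, hS, rfl⟩ := hsub (Set.mem_insert K s)
    haveI := d.c.core_normal
    haveI := hA.1
    set Q := Cfsg.pCore p G
    have hWS : (d.W.comap τ).map τ = d.W := Subgroup.map_comap_eq_self (d.W_le_S.trans hS.le)
    by_cases hAQ : A.map τ ≤ Q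
    · refine ⟨A, hA, ?_⟩
      rintro X (rfl | hX)
      · refine le_trans ?_ (Cfsg.Lib.CD.maxAb_centralizer hA).le
        intro x hx
        refine mem_centralizer_iff.2 fun a ha => hτ ?_
        rw [map_mul, map_mul]
        exact (mem_centralizer_iff.1 (d.core_le_centralizer (hAQ (mem_map_of_mem τ ha))) _ hx).symm
      · exact hle X hX
    · have hA' : A.map τ ∈ maxAb (d.c.S : Subgroup G) := by
        rw [show (d.c.S : Subgroup G) = (⊤ : Subgroup S).map τ by rw [← MonoidHom.range_eq_map]; exact hS]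
        exact (map_mem_maxAb hτ).2 (maxAb_top.2 hA)
      obtain ⟨A₀, hA₀⟩ := d.exists_case
      have hcase : d.c.Case (A.map τ) := ⟨hA', hAQ, hA₀.hCV⟩
      obtain ⟨-, -, hWV, -, -, hB⟩ := hcase.main
      set B := (A.map τ ⊓ Q) ⊔ d.c.Vc with hBdef
      have eB : (B.comap τ).map τ = B := Subgroup.map_comap_eq_self (hB.1.trans hS.le)
      refine ⟨B.comap τ, maxAb_top.1 ((map_mem_maxAb hτ).1 ?_), ?_⟩
      · rw [eB, ← MonoidHom.range_eq_map, ← hS]; exact hB
      rintro X (rfl | hX)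
      · intro x hx
        show τ x ∈ B
        exact mem_sup_right ((show d.W ≤ d.c.Vc from fun w hw => hw.1) hx)
      · intro x hx
        show τ x ∈ B
        refine mem_sup_left ⟨mem_map_of_mem τ (hle X hX hx), ?_⟩
        haveI := pair_normal hτ d hS h0 (hsub (Set.mem_insert_of_mem _ hX))
        refine d.c.le_core (R := (d.W.comap τ ⊔ X).map τ) (d.c.S.2.to_le ?_) (mem_map_of_mem τ (mem_sup_right hx))
        exact hS.ge.trans' (map_le_range τ _)

/-- the consequence of the failure of all the pairs -/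
theorem exceptional_of (hS : IsPGroup p S) [Nontrivial S]
    (hcomm : ⁅Cfsg.centerThompsonAOf (⊤ : Subgroup S), (⊤ : Subgroup S)⁆ = ⊥)
    (hZ : Cfsg.IsElementaryAbelian p (center S)) (hs0 : s0 p (⊤ : Subgroup S) = ⊥)
    {Q₀ : Subgroup S} (hQ₀ : Cfsg.IsMinimalCentrallyLarge Q₀) (hab : IsMulCommutative Q₀) :
    Cfsg.thompsonSubgroupA S = ⊤ ∧ Cfsg.IsElementaryAbelian p (center S) ∧
      Cfsg.IsElementaryAbelian p (frattini S) ∧ (p = 2 → frattini S ≤ center S) ∧
      (p = 3 → frattini S ≤ Subgroup.upperCentralSeries S 2) ∧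
      (3 < p → frattini S ≤ center S ∧ Monoid.exponent S = p) ∧
      ∀ A ∈ Cfsg.maxAbelianSubgroups S, ∀ B ∈ Cfsg.maxAbelianSubgroups S, ∀ Q : Subgroup S,
        Nat.card ↥A ^ 2 = Nat.card S * Nat.card ↥(center S) ∧
        Nat.card ↥Q * Nat.card ↥(center ↥Q) ≤ Nat.card S * Nat.card ↥(center S) ∧
        ((A ⊔ B : Subgroup S) : Set S) = (A : Set S) * (B : Set S) ∧
        A ⊔ B = centralizer ((A ⊓ B : Subgroup S) : Set S) := by
  have hcl : ∀ A ∈ Cfsg.maxAbelianSubgroups S, Cfsg.IsCentrallyLarge A := fun A hA =>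
    ((Cfsg.Lib.CD.mcl_abelian hQ₀ hab A).2 hA).1
  set J := Cfsg.thompsonSubgroupA S with hJdef
  have hJcl : Cfsg.IsCentrallyLarge J := Cfsg.Lib.CD.cl_sSup exists_maxAb hcl
  obtain ⟨-, hCJ⟩ := Cfsg.Lib.CD.cl_iff.1 hJcl
  have hcen : ∀ x ∈ J ⊓ centralizer (J : Set S), x ∈ center S := fun x hx => by
    rw [thompson_top] at hx
    exact mem_center_iff.2 fun s => commutatorElement_eq_one_iff_mul_comm.1 (mem_bot.1 (hcomm.le (by
      rw [← commutatorElement_inv]; exact inv_mem (commutator_mem_commutator hx (mem_top s)))))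
  have hCJc : J ⊓ centralizer (J : Set S) = center S := by
    refine le_antisymm hcen fun z hz => ?_
    have : z ∈ centralizer (J : Set S) := mem_centralizer_iff.2 fun y _ => mem_center_iff.1 hz y
    exact ⟨hCJ this, this⟩
  have hf : Nat.card J * Nat.card ↥(center S) = Cfsg.maxCentralProduct S := by
    have h := hJcl
    rw [Cfsg.IsCentrallyLarge, Cfsg.Lib.CD.card_center, hCJc] at h
    exact h
  have htop : J = ⊤ := by
    refine Subgroup.eq_of_le_of_card_ge le_top (Nat.le_of_mul_le_mul_right (c := Nat.card ↥(center S)) ?_ Nat.card_pos)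
    refine le_trans (le_of_eq ?_) ((Cfsg.Lib.CD.center_prod_le (⊤ : Subgroup S)).trans hf.ge)
    rw [top_inf_eq, coe_top, centralizer_univ]
  have hmax : Cfsg.maxCentralProduct S = Nat.card S * Nat.card ↥(center S) := by
    rw [← hf, htop, card_top]
  have hphi : frattini S = Cfsg.Lib.BGN.P.phi p (⊤ : Subgroup S) := map_eq_map hS
  have hpw : ∀ x : S, x ^ p ∈ frattini S := fun x => Cfsg.Lib.PGroups.pow_mem_frattini hS x
  have hcomm' : ∀ {K : Subgroup S}, ⁅K, (⊤ : Subgroup S)⁆ = ⊥ → K ≤ center S := fun {K} h x hx =>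
    mem_center_iff.2 fun s => commutatorElement_eq_one_iff_mul_comm.1 (mem_bot.1 (h.le (by
      rw [← commutatorElement_inv]; exact inv_mem (commutator_mem_commutator hx (mem_top s)))))
  have hel : Cfsg.Lib.BGN.P.phi p (frattini S) = ⊥ → Cfsg.IsElementaryAbelian p (frattini S) := fun h =>
    ⟨⟨⟨fun a b => Subtype.ext (commutatorElement_eq_one_iff_mul_comm.1 (mem_bot.1 (h.le
      (mem_sup_left (commutator_mem_commutator a.2 b.2)))))⟩⟩,
      fun a ha => mem_bot.1 (h.le (mem_phi_pow ha))⟩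
  refine ⟨htop, hZ, ?_, fun h => ?_, fun h => ?_, fun h => ?_, fun A hA B hB Q => ?_⟩
  · by_cases h2 : p = 2
    · rw [s0, if_pos h2, sup_eq_bot_iff, ← hphi] at hs0
      exact hel hs0.2
    by_cases h3 : p = 3
    · rw [s0, if_neg h2, if_pos h3, sup_eq_bot_iff, ← hphi] at hs0
      exact hel hs0.2
    rw [s0, if_neg h2, if_neg h3, sup_eq_bot_iff, ← hphi] at hs0
    have hc := hcomm' hs0.1
    exact ⟨⟨⟨fun a b => Subtype.ext (mem_center_iff.1 (hc b.2) a)⟩⟩,
      fun a _ => mem_bot.1 (hs0.2.le (pw_mem (mem_top a)))⟩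
  · rw [s0, if_pos h, sup_eq_bot_iff, ← hphi] at hs0
    exact hcomm' hs0.1
  · rw [s0, if_neg (by omega), if_pos h, sup_eq_bot_iff, ← hphi] at hs0
    intro x hx
    refine Subgroup.mem_upperCentralSeries_succ_iff.2 fun s => ?_
    rw [Subgroup.upperCentralSeries_one]
    exact hcomm' hs0.1 (commutator_mem_commutator hx (mem_top s))
  · rw [s0, if_neg (by omega), if_neg (by omega), sup_eq_bot_iff, ← hphi] at hs0
    have hexp : ∀ a : S, a ^ p = 1 := fun a => mem_bot.1 (hs0.2.le (pw_mem (mem_top a)))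
    refine ⟨hcomm' hs0.1, ((Nat.dvd_prime hp.out).1 (Monoid.exponent_dvd_of_forall_pow_eq_one hexp)).resolve_left
      fun h1 => not_subsingleton S (Monoid.exp_eq_one_iff.1 h1)⟩
  · haveI := hA.1
    obtain ⟨hAl, -⟩ := Cfsg.Lib.CD.cl_iff.1 (hcl A hA)
    obtain ⟨hBl, -⟩ := Cfsg.Lib.CD.cl_iff.1 (hcl B hB)
    obtain ⟨h1, -, -, -, h5⟩ := Cfsg.Lib.CD.large_sup_inf hAl hBl
    rw [Cfsg.Lib.CD.maxAb_centralizer hA, Cfsg.Lib.CD.maxAb_centralizer hB] at h5
    refine ⟨?_, ?_, h1, h5.symm⟩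
    · rw [← hmax, ← (hcl A hA : Nat.card A * _ = _), Cfsg.Lib.CD.card_center, Cfsg.Lib.CD.maxAb_centralizer hA,
        inf_idem, sq]
    · rw [← hmax, Cfsg.Lib.CD.card_center]
      exact Cfsg.Lib.CD.center_prod_le Q

/-- a pair with a centrally large second member, or the exceptional class -/
theorem exists_strong (hS : IsPGroup p S) [Nontrivial S] :
    (∃ S₁ S₂ : Subgroup S, S₁ ≠ ⊥ ∧ S₂ ≠ ⊥ ∧ S₁.Characteristic ∧ S₂.Characteristic ∧ S₁ ≤ center S ∧
      S₂ ≤ centralizer (Cfsg.centerThompsonAOf (⊤ : Subgroup S) : Set S) ∧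
      (S₂.subgroupOf (centralizer (Cfsg.centerThompsonAOf (⊤ : Subgroup S) : Set S))).Characteristic ∧
      Cfsg.maxCentralProduct ↥S₂ =
        Cfsg.maxCentralProduct ↥(centralizer (Cfsg.centerThompsonAOf (⊤ : Subgroup S) : Set S)) ∧ Good2 p S₁ S₂) ∨
    (¬ IsMulCommutative S ∧ centralizer (Cfsg.centerThompsonAOf (⊤ : Subgroup S) : Set S) = ⊤ ∧
      (∀ X : Subgroup S, Cfsg.IsMinimalCentrallyLarge X ↔ X ∈ Cfsg.maxAbelianSubgroups S) ∧
      Cfsg.thompsonSubgroupA S = ⊤ ∧ Cfsg.IsElementaryAbelian p (center S) ∧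
      Cfsg.IsElementaryAbelian p (frattini S) ∧ (p = 2 → frattini S ≤ center S) ∧
      (p = 3 → frattini S ≤ Subgroup.upperCentralSeries S 2) ∧
      (3 < p → frattini S ≤ center S ∧ Monoid.exponent S = p) ∧
      ∀ A ∈ Cfsg.maxAbelianSubgroups S, ∀ B ∈ Cfsg.maxAbelianSubgroups S, ∀ Q : Subgroup S,
        Nat.card ↥A ^ 2 = Nat.card S * Nat.card ↥(center S) ∧
        Nat.card ↥Q * Nat.card ↥(center ↥Q) ≤ Nat.card S * Nat.card ↥(center S) ∧
        ((A ⊔ B : Subgroup S) : Set S) = (A : Set S) * (B : Set S) ∧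
        A ⊔ B = centralizer ((A ⊓ B : Subgroup S) : Set S)) := by
  classical
  haveI := hS.isNilpotent
  set ZJ := Cfsg.centerThompsonAOf (⊤ : Subgroup S)
  haveI hZJ : ZJ.Characteristic := characteristic_iff_map_eq.2 zj_map
  by_cases hcomm : ⁅ZJ, (⊤ : Subgroup S)⁆ = ⊥
  swap
  · left
    refine ⟨⁅ZJ, (⊤ : Subgroup S)⁆ ⊓ center S, centralizer (ZJ : Set S),
      Cfsg.Lib.Coprime.inf_center_ne_bot _ hcomm, ?_, inferInstance, inferInstance, inf_le_right, le_rfl,
      by rw [subgroupOf_self]; infer_instance, rfl, fun G _ _ E => comm_pair E.inj E.syl E.hc E.hM E.hK⟩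
    refine ne_bot_of_le_ne_bot (center_ne_bot hS) fun z hz => mem_centralizer_iff.2 fun y _ => mem_center_iff.1 hz y
  have hJ : centralizer (ZJ : Set S) = ⊤ := eq_top_iff.2 fun x _ => mem_centralizer_iff.2 fun z hz =>
    commutatorElement_eq_one_iff_mul_comm.1 (mem_bot.1 (hcomm.le (commutator_mem_commutator hz (mem_top x))))
  -- the requirements on the second subgroup reduce to containing a centrally large one
  suffices h : (∃ S₁ S₂ : Subgroup S, S₁ ≠ ⊥ ∧ S₁.Characteristic ∧ S₂.Characteristic ∧ S₁ ≤ center S ∧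
      (∃ R, Cfsg.IsCentrallyLarge R ∧ R ≤ S₂) ∧ Good2 p S₁ S₂) ∨
      (¬ IsMulCommutative S ∧ Cfsg.IsElementaryAbelian p (center S) ∧ s0 p (⊤ : Subgroup S) = ⊥ ∧
        ∃ Q₀ : Subgroup S, Cfsg.IsMinimalCentrallyLarge Q₀ ∧ IsMulCommutative Q₀) by
    rcases h with ⟨S₁, S₂, h1, h2, h3, h4, ⟨R, hR, hR2⟩, h5⟩ | ⟨h1, h2, h3, Q₀, hQ₀, hab⟩
    · haveI := h3
      refine Or.inl ⟨S₁, S₂, h1, fun hb => ?_, h2, h3, h4, hJ.ge.trans' le_top, characteristic_top_subgroupOf hJ, ?_,
        h5⟩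
      · have hle : R = ⊥ := le_bot_iff.1 (hR2.trans hb.le)
        have hc := (Cfsg.Lib.CD.cl_iff.1 hR).2
        rw [hle, coe_bot] at hc
        exact not_subsingleton S ⟨fun a b => by
          rw [mem_bot.1 (hc (mem_centralizer_iff.2 fun y hy => by rw [Set.mem_singleton_iff.1 hy, one_mul, mul_one] :
            a ∈ centralizer ({1} : Set S))), mem_bot.1 (hc (mem_centralizer_iff.2 fun y hy => by
            rw [Set.mem_singleton_iff.1 hy, one_mul, mul_one] : b ∈ centralizer ({1} : Set S)))]⟩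
      · rw [max_eq_of_cl hR hR2, max_eq_of_cl hR (hJ.ge.trans' le_top)]
    · exact Or.inr ⟨h1, hJ, Cfsg.Lib.CD.mcl_abelian hQ₀ hab, exceptional_of hS hcomm h2 h3 hQ₀ hab⟩
  obtain ⟨R₀, hR₀⟩ := Cfsg.Lib.CD.exists_cl (P := S)
  by_cases hab : IsMulCommutative S
  · left
    refine ⟨⊤, ⊤, top_ne_bot, inferInstance, inferInstance, fun x _ => mem_center_iff.2 fun y => hab.is_comm.comm y x,
      ⟨R₀, hR₀, le_top⟩, fun G _ _ E => Or.inr ?_⟩
    obtain ⟨F, iF, iF', c, hc, -⟩ := E.exists_ctx hJ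
    rw [← MonoidHom.range_eq_map, show E.τ.range = Cfsg.pCore p G from le_antisymm ?_ (c.core_le.trans hc.le)]
    · exact c.core_normal
    rintro _ ⟨s, rfl⟩
    refine c.hc (mem_centralizer_iff.2 fun q hq => ?_)
    obtain ⟨t, rfl⟩ := hc.le (c.core_le hq)
    rw [← map_mul, ← map_mul, hab.is_comm.comm]
  by_cases hZ : Cfsg.IsElementaryAbelian p (center S)
  swap
  · left
    refine ⟨Cfsg.powerClosure p 1 (center S), ⊤, fun hb => hZ ?_, ?_, inferInstance,
      (closure_le _).2 fun _ ⟨x, hx, e⟩ => e ▸ pow_mem hx _, ⟨R₀, hR₀, le_top⟩, fun G _ _ E => ?_⟩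
    · refine ⟨⟨⟨fun a b => Subtype.ext (mem_center_iff.1 b.2 a)⟩⟩, fun a ha => ?_⟩
      have : a ^ p ^ 1 ∈ Cfsg.powerClosure p 1 (center S) := subset_closure ⟨a, ha, rfl⟩
      rwa [hb, mem_bot, pow_one] at this
    · refine characteristic_iff_map_le.2 fun φ => ?_
      rw [Cfsg.powerClosure, MonoidHom.map_closure, closure_le]
      rintro _ ⟨_, ⟨x, hx, rfl⟩, rfl⟩
      exact subset_closure ⟨φ x, (characteristic_iff_map_eq.1 (centerCharacteristic : (center S).Characteristic) φ).le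
        (mem_map_of_mem _ hx), map_pow _ _ _⟩
    obtain ⟨F, iF, iF', c, hc, hZs, hle, -⟩ := E.exists_ctx hJ
    rcases Cfsg.Lib.PushUp.power_or c with h | h
    · left
      convert h using 1
      rw [Cfsg.powerClosure, Cfsg.powerClosure, MonoidHom.map_closure, hZs]
      congr 1
      ext y
      constructor
      · rintro ⟨_, ⟨x, hx, rfl⟩, rfl⟩; exact ⟨E.τ x, mem_map_of_mem _ hx, map_pow _ _ _⟩
      · rintro ⟨_, ⟨x, hx, rfl⟩, rfl⟩; exact ⟨x ^ p ^ 1, ⟨x, hx, rfl⟩, map_pow _ _ _⟩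
    · right
      rw [← MonoidHom.range_eq_map, ← hc]
      rwa [inf_eq_left.2 hle] at h
  obtain ⟨Q, -, hQ⟩ := Cfsg.Lib.CD.exists_mcl hR₀
  by_cases hQab : ⁅Q, Q⁆ = ⊥
  swap
  · left
    haveI hQc : (⁅Q, Q⁆).Characteristic := characteristic_iff_map_eq.2 fun φ => by
      rw [Subgroup.map_commutator]
      exact ((Cfsg.Lib.CD.mcl_card hQ (Cfsg.Lib.CD.mcl_map φ hQ)).1).symm
    refine ⟨⁅Q, Q⁆ ⊓ center S, Cfsg.minimalCentrallyLargeJoin S, Cfsg.Lib.Coprime.inf_center_ne_bot _ hQab,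
      inferInstance, characteristic_iff_map_eq.2 fun φ => mcl_join_iso φ, inf_le_right,
      ⟨Q, hQ.1, le_sSup hQ⟩, fun G _ _ E => ?_⟩
    obtain ⟨F, iF, iF', c, hc, hZs, hle, e, he⟩ := E.exists_ctx hJ
    have hm : ∀ K : Subgroup S, (K.map (e : S →* ↥(c.S : Subgroup G))).map (c.S : Subgroup G).subtype = K.map E.τ :=
      fun K => by rw [map_map, he]
    rcases Cfsg.Lib.PushUp.Ctx.derived_or hle _ (mcl_iso e hQ) with h | h
    · left
      rw [Subgroup.map_inf _ _ _ E.inj, ← hZs, ← hm, Subgroup.map_commutator Q Q (e : S →* ↥(c.S : Subgroup G)), inf_comm]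
      exact h
    · right
      rw [← hm, mcl_join_iso]
      exact h
  have hQc : IsMulCommutative Q := ⟨⟨fun a b => Subtype.ext (commutatorElement_eq_one_iff_mul_comm.1
    (mem_bot.1 (hQab.le (commutator_mem_commutator a.2 b.2))))⟩⟩
  by_cases hs : s0 p (⊤ : Subgroup S) = ⊥
  · exact Or.inr ⟨hab, hZ, hs, Q, hQ, hQc⟩
  left
  set K₀ := s0 p (⊤ : Subgroup S) ⊓ center S with hK₀def
  haveI hs0 : (s0 p (⊤ : Subgroup S)).Characteristic := characteristic_iff_map_eq.2 fun φ => by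
    rw [map_s0, Subgroup.map_top_of_surjective (f := φ.toMonoidHom) φ.surjective]
  haveI hK₀ : K₀.Characteristic := inferInstanceAs (s0 p (⊤ : Subgroup S) ⊓ center S).Characteristic
  haveI : (sSup (modules p S K₀)).Characteristic := sup_char K₀
  set T := centralizer ((sSup (modules p S K₀) : Subgroup S) : Set S) with hTdef
  haveI hTc : T.Characteristic := inferInstanceAs (centralizer _).Characteristic
  obtain ⟨A, hA, hAle⟩ := exists_common (Set.toFinite (modules p S K₀)) subset_rfl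
  refine ⟨K₀, T, Cfsg.Lib.Coprime.inf_center_ne_bot _ hs, hK₀, hTc, inf_le_right,
    ⟨A, ((Cfsg.Lib.CD.mcl_abelian hQ hQc A).2 hA).1, fun a ha => mem_centralizer_iff.2 fun x hx => ?_⟩,
    fun G _ _ E => ?_⟩
  · exact congrArg Subtype.val (hA.1.is_comm.comm ⟨x, sSup_le hAle hx⟩ ⟨a, ha⟩)
  by_cases h0 : (K₀.map E.τ).Normal
  · exact Or.inl h0
  right
  by_cases hn : E.τ.range.Normal
  · exact map_normal_of_char E.inj hn T
  obtain ⟨F, iF, iF', d, hd⟩ := exists_sit E.inj E.syl E.hc E.hM E.hK inf_le_right h0 hJ hn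
  have hW : d.W.comap E.τ ∈ modules p S K₀ :=
    ⟨G, inferInstance, inferInstance, E.τ, E.inj, h0, F, iF, iF', d, hd, rfl⟩
  haveI := sup_normal E.inj d hd h0
  haveI := d.c.core_normal
  set N := centralizer ((sSup (modules p S K₀)).map E.τ : Set G)
  haveI : N.Normal := inferInstance
  have hNW : N ≤ centralizer (d.W : Set G) := centralizer_le (SetLike.coe_subset_coe.2 (by
    rw [← Subgroup.map_comap_eq_self (d.W_le_S.trans hd.le)]
    exact map_mono (le_sSup hW)))
  have e : T.map E.τ = Cfsg.pCore p G ⊓ N := by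
    have h1 : T.map E.τ = E.τ.range ⊓ N := by
      rw [hTdef, MonoidHom.range_eq_map, map_inf_centralizer E.inj, top_inf_eq]
    rw [h1, ← hd]
    refine le_antisymm (le_inf ?_ inf_le_right) (inf_le_inf_right _ d.c.core_le)
    exact (inf_le_inf_left _ hNW).trans (by simpa [cj_one] using d.cj_inf_centralizer 1)
  rw [e]
  exact inferInstance

/-- a pair, or the exceptional class with an elementary largest abelian subgroup -/
theorem exists_weak (hS : IsPGroup p S) [Nontrivial S]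
    (hJ : centralizer (Cfsg.centerThompsonAOf (⊤ : Subgroup S) : Set S) = ⊤)
    (hmcl : ∀ X : Subgroup S, Cfsg.IsMinimalCentrallyLarge X ↔ X ∈ Cfsg.maxAbelianSubgroups S)
    (hne : ¬ ∃ A ∈ Cfsg.maxAbelianSubgroups S, Cfsg.IsElementaryAbelian p A) :
    Cfsg.frattiniOfMinimalCLJoin p S ≠ ⊥ ∧ (Cfsg.frattiniOfMinimalCLJoin p S).Characteristic ∧
      Good2 p (center S) (Cfsg.frattiniOfMinimalCLJoin p S) := by
  refine ⟨fun hb => hne ?_, characteristic_iff_map_eq.2 fun φ => frattini_join_iso hS φ, fun G _ _ E => ?_⟩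
  · obtain ⟨Q₀, hQ₀⟩ := exists_maxAb (S := S)
    have hne' : {k : ℕ | ∃ Q : Subgroup S, Cfsg.IsMinimalCentrallyLarge Q ∧
        Nat.card ↥(Cfsg.omegaOneCenter p Q) = k}.Nonempty := ⟨_, Q₀, (hmcl Q₀).2 hQ₀, rfl⟩
    obtain ⟨Q, hQ, hQm⟩ := Nat.sSup_mem hne'
      ((Set.finite_range fun Q : Subgroup S => Nat.card ↥(Cfsg.omegaOneCenter p Q)).subset
        (by rintro k ⟨Q, -, rfl⟩; exact ⟨Q, rfl⟩)).bddAbove
    have hA := (hmcl Q).1 hQ
    have hQb : Cfsg.Lib.BGN.P.phi p Q ≤ ⊥ := by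
      rw [← hb, frattini_join_eq hS]
      exact le_iSup (fun Q : {Q : Subgroup S // Cfsg.IsMinimalCentrallyLarge Q ∧
        Nat.card ↥(Cfsg.omegaOneCenter p Q) = Cfsg.maxOmegaCenterOfMinimalCL p S} =>
          Cfsg.Lib.BGN.P.phi p (Q : Subgroup S)) ⟨Q, hQ, hQm⟩
    exact ⟨Q, hA, hA.1, fun a ha => mem_bot.1 (hQb (mem_phi_pow ha))⟩
  obtain ⟨F, iF, iF', c, hc, hZs, hle, e, he⟩ := E.exists_ctx hJ
  rcases Cfsg.Lib.PushUp.Ctx.frattini_or hle with h | h
  · left; rwa [← hZs]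
  · right
    rwa [← he, ← map_map, frattini_join_iso hS]

end Cfsg.Lib.PushUp.Char
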