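import Cfsg.Agent.PushUp.Char.Basic

/-!
Two characteristic subgroups for pushing up: an elementary abelian subgroup acting as a whole root group on a
core which the elements of order prime to `p` fix modulo the module.
-/

set_option autoImplicit false
set_option linter.unusedSectionVars false
set_option linter.style.haveILetI false

namespace Cfsg.Lib.BGN.P

open Subgroup Matrix Cfsg.Lib.BGN Cfsg.Lib.Known.AutPSL2
open Cfsg.Lib.PushUp.Char (s0 map_s0 s0_eq_bot cyclic_bot mem_product comm_mem_of_le)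
open scoped commutatorElement

universe u v

variable {p : ℕ} [hp : Fact p.Prime] {G : Type u} [Group G] [Finite G]

/-- `p'`-elements fixing the section `M/W` with `W` central of exponent `p` fix the Frattini subgroup -/
theorem centralize_phi {M W : Subgroup G} [M.Normal] (hWM : ∀ w ∈ W, ∀ x ∈ M, w * x = x * w) (hWMle : W ≤ M)
    (hWp : ∀ w ∈ W, w ^ p = 1) (hT : Triv p W M) {g : G} (hg : (orderOf g).Coprime p) :
    ∀ x ∈ phi p M, g * x = x * g := by
  have h1 : ∀ x ∈ M, ∃ w ∈ W, g * x * g⁻¹ = w * x := fun x hx =>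
    ⟨g * x * g⁻¹ * x⁻¹, by
      have := inv_mem (hT g hg x hx)
      simpa [commutatorElement_def, mul_assoc] using this, by group⟩
  suffices h : phi p M ≤ centralizer ({g} : Set G) from
    fun x hx => (mem_centralizer_singleton_iff.1 (h hx)).symm
  have key : ∀ y : G, g * y * g⁻¹ = y → y ∈ centralizer ({g} : Set G) := fun y e =>
    mem_centralizer_singleton_iff.2 (mul_inv_eq_iff_eq_mul.1 e).symm
  refine sup_le (commutator_le.2 fun x hx y hy => key _ ?_) ((closure_le _).2 ?_)
  · obtain ⟨w, hw, e⟩ := h1 x hx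
    obtain ⟨v, hv, e'⟩ := h1 y hy
    have a1 : Commute w y := hWM w hw y hy
    have a2 : Commute v x := hWM v hv x hx
    have a3 : Commute w v := hWM w hw v (hWMle hv)
    have a4 : Commute w x := hWM w hw x hx
    have a5 : Commute v y := hWM v hv y hy
    calc g * ⁅x, y⁆ * g⁻¹ = ⁅g * x * g⁻¹, g * y * g⁻¹⁆ := by simp only [commutatorElement_def]; group
      _ = ⁅x, y⁆ := by
        rw [e, e', show ⁅w * x, v * y⁆ = w * (x * v * x⁻¹) * (x * y * x⁻¹ * w⁻¹ * (y⁻¹ * v⁻¹)) by
          simp only [commutatorElement_def]; group, ← a2.eq, mul_inv_cancel_right,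
          ((a4.mul_right a1).mul_right a4.inv_right).inv_left.eq.symm,
          show w * v * (w⁻¹ * (x * y * x⁻¹) * (y⁻¹ * v⁻¹)) = w * v * w⁻¹ * ⁅x, y⁆ * v⁻¹ by
            simp only [commutatorElement_def]; group, a3.eq, mul_inv_cancel_right,
          show Commute v ⁅x, y⁆ from by
            rw [commutatorElement_def]
            exact ((a2.mul_right a5).mul_right a2.inv_right).mul_right a5.inv_right,
          mul_inv_cancel_right]
  · rintro _ ⟨x, hx, rfl⟩
    refine key _ ?_
    obtain ⟨w, hw, e⟩ := h1 x hx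
    show g * x ^ p * g⁻¹ = x ^ p
    rw [← conj_pow, e, (show Commute w x from hWM w hw x hx).mul_pow, hWp w hw, one_mul]

namespace Sit

variable {F : Type v} [Field F] [Fintype F] (d : Sit p G F)

include d

/-- a normal subgroup fixed by all coprime elements meets the module in fixed points -/
theorem inf_le_C {N : Subgroup G} [N.Normal] (h : ∀ g : G, (orderOf g).Coprime p → ∀ x ∈ N, g * x = x * g) :
    d.W ⊓ N ≤ d.C := by
  haveI := d.W_normal
  haveI := d.C_normal
  refine le_inf inf_le_left (by_contra fun hne => ?_)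
  have h1 := d.irred (K := d.W ⊓ N) inf_le_left hne
  obtain ⟨A, hA⟩ := d.exists_case
  haveI : (centralizer (d.W : Set G)).Normal := inferInstance
  refine d.c.hMne (top_le_iff.1 ?_)
  rw [← Cfsg.Lib.PushUp.sup_sylow_eq_top (centralizer (d.W : Set G)) d.c.S fun g hg => ?_]
  · exact sup_le hA.W_cent (le_sup_left.trans d.sup_ker_le)
  · have hle : (d.W ⊓ N) ⊔ d.C ≤ centralizer ({g} : Set G) := sup_le
      (fun x hx => mem_centralizer_singleton_iff.2 (h g hg x hx.2).symm)
      (fun x hx => mem_centralizer_singleton_iff.2 (mem_center_iff.1 hx.2 g).symm)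
    rw [h1] at hle
    exact mem_centralizer_iff.2 fun w hw => mem_centralizer_singleton_iff.1 (hle hw)

/-- a fixed point of `S` fixed by the coprime elements is central -/
theorem mem_center_of_fixed {N : Subgroup G} [N.Normal]
    (h : ∀ g : G, (orderOf g).Coprime p → ∀ x ∈ N, g * x = x * g) :
    N ⊓ centralizer (d.S : Set G) ≤ center G := by
  intro z hz
  haveI : (centralizer (N : Set G)).Normal := inferInstance
  have htop := Cfsg.Lib.PushUp.sup_sylow_eq_top (centralizer (N : Set G)) d.c.S fun g hg =>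
    mem_centralizer_iff.2 fun x hx => (h g hg x hx).symm
  refine mem_center_iff.2 fun g => ?_
  have hle : centralizer (N : Set G) ⊔ d.S ≤ centralizer ({z} : Set G) := sup_le
    (fun x hx => mem_centralizer_singleton_iff.2 (mem_centralizer_iff.1 hx z hz.1).symm)
    (fun x hx => mem_centralizer_singleton_iff.2 (mem_centralizer_iff.1 hz.2 x hx))
  exact mem_centralizer_singleton_iff.1 (hle (htop.ge (mem_top g)))

/-- unless the quotient is soluble, a normal subgroup with the core and the coprime elements is everything -/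
theorem eq_top_of_triv (h4 : 4 ≤ p ^ d.c.n) {N : Subgroup G} [N.Normal] (hQ : Cfsg.pCore p G ≤ N)
    (h : ∀ g : G, (orderOf g).Coprime p → g ∈ N) : N = ⊤ := by
  haveI := Matrix.ProjectiveSpecialLinearGroup.rank_two_simple (F := F)
    (by rw [Nat.card_eq_fintype_card, d.c.hF]; exact h4)
  haveI := d.c.core_normal
  have hk : d.c.ψ.ker ≤ N := by
    intro g hg
    refine mem_of_parts (fun x hx hcop => h x hcop) (fun x hx hpx => ?_)
    obtain ⟨k, hk⟩ := hpx
    have hxp : IsPGroup p (zpowers x) := by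
      intro z
      obtain ⟨i, hi⟩ := mem_zpowers_iff.1 z.2
      refine ⟨k, Subtype.ext ?_⟩
      show (z : G) ^ p ^ k = 1
      rw [← hi, ← zpow_natCast, ← _root_.zpow_mul, mul_comm, _root_.zpow_mul, zpow_natCast, hk, _root_.one_zpow]
    obtain ⟨P, hP⟩ := hxp.exists_le_sylow
    obtain ⟨c, hc⟩ := MulAction.exists_smul_eq G d.c.S P
    have hxc : x ∈ cj c d.S := by
      have := hP (mem_zpowers x)
      rw [← hc] at this
      exact this
    exact hQ (d.inf_ker c ⟨hxc, zpowers_le.2 hg hx⟩)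
  rcases ((inferInstance : N.Normal).map d.c.ψ d.c.hψ).eq_bot_or_eq_top with e | e
  · refine absurd (top_le_iff.1 ?_) d.c.hMne
    rw [← Cfsg.Lib.PushUp.sup_sylow_eq_top N d.c.S h]
    exact sup_le (((Subgroup.map_eq_bot_iff _).1 e).trans d.c.ker_le) (le_sup_left.trans d.sup_ker_le)
  · rw [← comap_top d.c.ψ, ← e, comap_map_eq, sup_eq_left.2 hk]

section One

variable {A : Subgroup G} (hAS : A ⊔ Cfsg.pCore p G = d.S) (hAab : ∀ a ∈ A, ∀ b ∈ A, a * b = b * a)
  (hAp : ∀ a ∈ A, a ^ p = 1) (hT : Triv p d.W (Cfsg.pCore p G))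

include hAS hAab hAp hT

/-- the radical -/
theorem one_radical : ∃ N : Subgroup G, N.Normal ∧ N ≤ Cfsg.pCore p G ∧ phi p (Cfsg.pCore p G) ≤ N ∧ d.C ≤ N ∧
    (∀ g : G, (orderOf g).Coprime p → ∀ x ∈ N, g * x = x * g) := by
  haveI := d.c.core_normal
  haveI := d.C_normal
  haveI : (phi p (Cfsg.pCore p G)).Normal := ⟨fun x hx g => by
    have h := mem_map_of_mem (MulAut.conj g).toMonoidHom hx
    rw [map_phi, show (Cfsg.pCore p G).map (MulAut.conj g).toMonoidHom = Cfsg.pCore p G from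
      cj_eq_of_mem ((normalizer_eq_top (H := Cfsg.pCore p G)).ge (mem_top g))] at h
    exact h⟩
  refine ⟨phi p (Cfsg.pCore p G) ⊔ d.C, inferInstance, sup_le (phi_le _) (inf_le_left.trans d.W_le_core),
    le_sup_left, le_sup_right, fun g hg x hx => ?_⟩
  have hle : phi p (Cfsg.pCore p G) ⊔ d.C ≤ centralizer ({g} : Set G) := by
    refine sup_le (fun x hx => mem_centralizer_singleton_iff.2 (centralize_phi (fun w hw x hx =>
        mem_centralizer_iff.1 (d.core_le_centralizer hx) w hw) d.W_le_core (fun w hw => d.W_pow hw) hT hg x hx).symm)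
      (fun x hx => mem_centralizer_singleton_iff.2 (mem_center_iff.1 hx.2 g).symm)
  exact (mem_centralizer_singleton_iff.1 (hle hx)).symm

/-- modulo the radical the commutator with `A` consists of fixed points -/
theorem one_comm (h4 : 4 ≤ p ^ d.c.n) (hp3 : p ≠ 3) {N : Subgroup G} [N.Normal] (hNQ : N ≤ Cfsg.pCore p G)
    (hphi : phi p (Cfsg.pCore p G) ≤ N) (hC : d.C ≤ N)
    (hfix : ∀ g : G, (orderOf g).Coprime p → ∀ x ∈ N, g * x = x * g) :
    ∀ q ∈ Cfsg.pCore p G, ∀ a ∈ A, ⁅q, a⁆ ∈ d.Z ⊔ N := by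
  haveI := d.c.core_normal
  haveI := d.W_normal
  have hAle : A ≤ d.S := hAS ▸ le_sup_left
  haveI hM : (d.W ⊔ N).Normal := inferInstance
  have htop : fixN (Cfsg.pCore p G) (d.W ⊔ N) = ⊤ := d.eq_top_of_triv h4
    (fun g hg z hz => mem_sup_right (hphi (mem_phi_comm hz hg)))
    (fun g hg z hz => mem_sup_left (hT g hg z hz))
  have hWN : ∀ x ∈ d.W, x ∈ N → x ∈ d.C := fun x hx hx' => d.inf_le_C hfix ⟨hx, hx'⟩
  intro q hq a ha
  by_cases haQ : a ∈ Cfsg.pCore p G
  · exact mem_sup_right (hphi (mem_phi_comm hq haQ))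
  have hqa : ⁅q, a⁆ ∈ d.W ⊔ N := (htop.ge (mem_top a)) q hq
  set π := QuotientGroup.mk' N
  have hπ : ∀ {x}, π x = 1 ↔ x ∈ N := fun {x} => QuotientGroup.eq_one_iff x
  obtain ⟨w, hw, f, hf, e⟩ := mem_product (fun y _ => (normalizer_eq_top (H := N)).ge (mem_top y)) hqa
  have ew : π ⁅q, a⁆ = π w := by rw [← e, map_mul, hπ.2 hf, mul_one]
  by_cases hp2 : p = 2
  · -- an involution inverts the commutator
    have haa : a * a = 1 := by rw [← pow_two, ← hp2]; exact hAp a ha
    have hww : w⁻¹ = w := inv_eq_of_mul_eq_one_right (by rw [← pow_two, ← hp2]; exact d.W_pow hw)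
    have hai : a⁻¹ = a := inv_eq_of_mul_eq_one_right haa
    have e1 : a * ⁅q, a⁆ * a⁻¹ = ⁅q, a⁆⁻¹ := by
      calc a * ⁅q, a⁆ * a⁻¹ = a * q * a * q⁻¹ * (a * a)⁻¹ := by simp only [commutatorElement_def]; group
        _ = a * q * a * q⁻¹ := by rw [haa, inv_one, mul_one]
        _ = (q * a⁻¹ * q⁻¹ * a⁻¹)⁻¹ := by group
        _ = _ := by rw [commutatorElement_def]; simp only [hai]
    have h2 : π (a * w * a⁻¹) = π w := by
      rw [map_mul, map_mul, map_inv, ← ew, ← map_inv, ← map_mul, ← map_mul, e1, map_inv, ew, ← map_inv, hww]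
    have h3 : ⁅w, a⁆ ∈ d.C := hWN _ (d.comm_W hw a) (hπ.1 (by
      rw [show ⁅w, a⁆ = w * (a * w * a⁻¹)⁻¹ by rw [commutatorElement_def]; group, map_mul, map_inv, h2,
        mul_inv_cancel]))
    have hwZ : w ∈ d.Z := ⟨hw, by_contra fun h => haQ (d.mem_core_of_central hw h (hAle ha) h3.2)⟩
    rw [← e]; exact mul_mem (mem_sup_left hwZ) (mem_sup_right hf)
  · -- a coprime element inverting the module
    obtain ⟨fr, ρ, hρ, hn, hfol⟩ := d.exists_rho
    obtain ⟨t, htc, ht⟩ : ∃ t : G, (orderOf t).Coprime p ∧ ρ t = negOne := by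
      obtain ⟨g, hg⟩ := hρ negOne
      obtain ⟨k, m, hm, hkm⟩ := Nat.exists_eq_pow_mul_and_not_dvd (orderOf_pos g).ne' p hp.out.ne_one
      refine ⟨g ^ p ^ k, ?_, ?_⟩
      · rw [orderOf_pow_of_dvd (pow_ne_zero _ hp.out.ne_zero) ⟨m, hkm⟩, hkm,
          Nat.mul_div_cancel_left _ (pow_pos hp.out.pos _)]
        exact ((hp.out.coprime_iff_not_dvd).2 hm).symm
      · rw [map_pow, hg]
        obtain ⟨i, hi⟩ : Odd (p ^ k) := (hp.out.odd_of_ne_two hp2).pow
        refine sl_ext ?_
        rw [Matrix.SpecialLinearGroup.coe_pow]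
        show (-1 : Matrix (Fin 2) (Fin 2) F) ^ (p ^ k) = -1
        rw [hi, pow_succ, pow_mul, neg_one_sq, one_pow, one_mul]
    have hn0 : ∀ g, ρ (t * g * t⁻¹ * g⁻¹) = 1 := fun g => by
      have hneg : ρ g * negOne = negOne * ρ g := sl_ext (by
        rw [cmul, cmul]
        show (ρ g : Matrix (Fin 2) (Fin 2) F) * -1 = -1 * (ρ g : Matrix (Fin 2) (Fin 2) F)
        simp)
      rw [map_mul, map_mul, map_mul, map_inv, map_inv, ht, ← hneg, mul_inv_cancel_right, mul_inv_cancel]
    have hinv : ∀ x ∈ d.W, π (t * x * t⁻¹) = (π x)⁻¹ := fun x hx => by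
      rw [eq_inv_iff_mul_eq_one, ← map_mul, hπ]
      exact hC (d.inverted hn ht hx)
    -- the kernel fixes the core modulo the radical
    have hker : ρ.ker ≤ fixN (Cfsg.pCore p G) N := d.ker_le hn hfol
      (fun g hg z hz => hphi (mem_phi_comm hz hg)) fun g hg h z hz => by
        obtain ⟨w', hw', f', hf', e'⟩ := mem_product (fun y _ => (normalizer_eq_top (H := N)).ge (mem_top y))
          (mem_sup_left (hT g hg z hz) : ⁅z, g⁆ ∈ d.W ⊔ N)
        have hq' : (orderOf (π g)).Coprime p := hg.coprime_dvd_left (orderOf_map_dvd π g)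
        have hc : π ⁅g, z⁆ = 1 := by
          have hwg := hT g hg z hz
          refine coprime_fix (x := π z) hq' ?_ ?_ ⟨1, ?_⟩
          · rw [← map_inv, ← map_mul, ← map_mul, ← map_mul]; congr 1; rw [commutatorElement_def]; group
          · rw [← map_mul, ← map_mul, ← commutatorElement_inv z g, d.centralize_W hn hg h _ (inv_mem hwg)]
          · rw [← map_pow, pow_one, ← commutatorElement_inv z g, inv_pow, d.W_pow hwg, inv_one, map_one]
        rw [← hπ, ← inv_eq_one, ← map_inv, commutatorElement_inv, hc]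
    obtain ⟨hh, j, hhj⟩ : ∃ h j, 2 * h = p * j + 1 := by
      obtain ⟨i, hi⟩ := hp.out.odd_of_ne_two hp2
      exact ⟨i + 1, 1, by omega⟩
    -- correct `q` to a fixed element
    obtain ⟨c, hc, ec⟩ : ∃ c ∈ d.W, π (t * q * t⁻¹) = π c * π q :=
      ⟨⁅t, q⁆, by rw [← inv_mem_iff, commutatorElement_inv]; exact hT t htc q hq, by
        rw [← map_mul]; congr 1; rw [commutatorElement_def]; group⟩
    set k := c ^ hh * q with hkdef
    have hk : k ∈ Cfsg.pCore p G := mul_mem (pow_mem (d.W_le_core hc) _) hq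
    have hcp : (π c) ^ p = 1 := by rw [← map_pow, d.W_pow hc, map_one]
    have h2h : (π c) ^ (2 * hh) = π c := by rw [hhj, pow_succ, pow_mul, hcp, one_pow, one_mul]
    have hkfix : π (t * k * t⁻¹) = π k := by
      rw [hkdef, show t * (c ^ hh * q) * t⁻¹ = (t * c ^ hh * t⁻¹) * (t * q * t⁻¹) by group, map_mul, ec,
        hinv _ (pow_mem hc _), map_mul, map_pow, ← mul_assoc]
      congr 1
      calc ((π c) ^ hh)⁻¹ * π c = ((π c) ^ hh)⁻¹ * (π c) ^ (2 * hh) := by rw [h2h]
        _ = (π c) ^ hh := by rw [two_mul, pow_add, inv_mul_cancel_left]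
    obtain ⟨u, hu, f', hf', eu⟩ := mem_product (fun y _ => (normalizer_eq_top (H := N)).ge (mem_top y))
      ((htop.ge (mem_top a)) k hk : ⁅k, a⁆ ∈ d.W ⊔ N)
    have eu' : π ⁅k, a⁆ = π u := by rw [← eu, map_mul, hπ.2 hf', mul_one]
    set n₀ := t * a * t⁻¹ * a⁻¹
    have hkn : π ⁅k, n₀⁆ = 1 := hπ.2 (hker (MonoidHom.mem_ker.2 (hn0 a)) k hk)
    have e3 : π (t * ⁅k, a⁆ * t⁻¹) = π ⁅k, a⁆ := by
      rw [d.comm_conj, show t * a * t⁻¹ = n₀ * a by simp [n₀], map_commutatorElement, hkfix,
        ← map_commutatorElement, d.comm_mul_right, map_mul, hkn, one_mul, map_mul, map_mul, map_inv, eu',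
        ← map_inv, ← map_mul, ← map_mul, d.ker_centralize_W hn hfol (hn0 a) u hu, mul_inv_cancel_right]
    have e4 : π (t * ⁅k, a⁆ * t⁻¹) = (π u)⁻¹ := by
      rw [← hinv u hu, ← eu]; simp only [map_mul, map_inv, hπ.2 hf', mul_one]
    have hu1 : π u = 1 := by
      have e5 : π u * π u = 1 := by
        nth_rw 2 [show π u = (π u)⁻¹ by rw [← e4, e3, eu']]
        exact mul_inv_cancel _
      rw [show π u = π u ^ (2 * hh) by rw [← map_pow, hhj, pow_succ, pow_mul, d.W_pow hu, one_pow, one_mul],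
        pow_mul, pow_two, e5, one_pow]
    -- so the commutator of `q` is that of the correction
    have hz : ⁅(c ^ hh)⁻¹, a⁆ ∈ d.Z :=
      ⟨d.comm_W (inv_mem (pow_mem hc _)) a, d.comm_le (commutator_mem_commutator (inv_mem (pow_mem hc _)) (hAle ha))⟩
    rw [show ⁅q, a⁆ = ((c ^ hh)⁻¹ * ⁅k, a⁆ * (c ^ hh)⁻¹⁻¹) * ⁅(c ^ hh)⁻¹, a⁆ by
      simp only [k, commutatorElement_def]; group]
    refine mul_mem (mem_sup_right (Normal.conj_mem inferInstance _ (hπ.1 ?_) _)) (mem_sup_left hz)
    rw [eu', hu1]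

/-- `S₀` meets the centre of `S` in central elements -/
theorem one_central : s0 p d.S ⊓ centralizer (d.S : Set G) ≤ center G := by
  haveI := d.c.core_normal
  haveI := d.W_normal
  obtain ⟨N, hNn, hNQ, hphi, hC, hfix⟩ := d.one_radical hAS hAab hAp hT
  suffices h : s0 p d.S ≤ N from
    le_trans (inf_le_inf_right _ h) (d.mem_center_of_fixed hfix)
  set Q := Cfsg.pCore p G
  set π := QuotientGroup.mk' N
  have hπ : ∀ {x}, π x = 1 ↔ x ∈ N := fun {x} => QuotientGroup.eq_one_iff x
  rw [← QuotientGroup.ker_mk' N, ← Subgroup.map_eq_bot_iff, map_s0]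
  have hAle : A ≤ d.S := hAS ▸ le_sup_left
  have hS : A.map π ⊔ Q.map π = d.S.map π := by rw [← Subgroup.map_sup, hAS]
  have hQn : d.S.map π ≤ normalizer (Q.map π : Set (G ⧸ N)) :=
    le_trans (map_mono (le_top.trans (normalizer_eq_top (H := Q)).ge)) (le_normalizer_map π)
  have hab : ∀ x ∈ Q.map π, ∀ y ∈ Q.map π, x * y = y * x := by
    rintro _ ⟨x, hx, rfl⟩ _ ⟨y, hy, rfl⟩
    rw [← commutatorElement_eq_one_iff_mul_comm, ← map_commutatorElement]
    exact hπ.2 (hphi (mem_phi_comm hx hy))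
  have hQp : ∀ x ∈ Q.map π, x ^ p = 1 := by
    rintro _ ⟨x, hx, rfl⟩
    rw [← map_pow]; exact hπ.2 (hphi (mem_phi_pow hx))
  have hgen : ∀ (k : ℕ), (p ≠ 3 → ⁅⁅Q.map π, d.S.map π⁆, d.S.map π⁆ = ⊥) ∧
      (p = 3 → ⁅⁅⁅Q.map π, d.S.map π⁆, d.S.map π⁆, d.S.map π⁆ = ⊥) := fun _ => by
    rcases Nat.lt_or_ge (p ^ d.c.n) 4 with hlt | h4
    · -- a cyclic supplement
      have hn1 : d.c.n = 1 := by
        refine le_antisymm (Nat.le_of_lt_succ ?_) d.c.hn
        by_contra hn
        have h22 : 2 ^ 2 ≤ p ^ d.c.n :=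
          (Nat.pow_le_pow_left hp.out.two_le 2).trans (Nat.pow_le_pow_right hp.out.pos (not_lt.1 hn))
        omega
      rw [hn1, pow_one] at hlt
      have hp23 : p = 2 ∨ p = 3 := by have := hp.out.two_le; omega
      obtain ⟨a, ha, haQ⟩ := SetLike.not_le_iff_exists.1 (show ¬ A ≤ Q from fun h => by
        have hle := card_le_of_le (hAS.ge.trans (sup_le h le_rfl))
        rw [d.card_S] at hle
        exact absurd hle (not_le.2 (lt_mul_of_one_lt_left Nat.card_pos d.one_lt_q)))
      have hS' : d.S ≤ zpowers a ⊔ Q := d.c.le_sup_of_card _ (zpowers_le.2 (hAle ha)) (by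
        have hord : orderOf a = p := orderOf_eq_prime (hAp a ha) fun h => haQ (h ▸ one_mem _)
        have hinf : zpowers a ⊓ Q = ⊥ := by
          by_contra hne
          have hc : Nat.card ↥(zpowers a ⊓ Q) ∣ p := by
            rw [← hord, ← Nat.card_zpowers]; exact card_dvd_of_le inf_le_left
          rcases (Nat.dvd_prime hp.out).1 hc with e | e
          · exact hne (card_eq_one.1 e)
          · refine haQ ((eq_of_le_of_card_ge inf_le_left ?_ : zpowers a ⊓ Q = zpowers a).ge (mem_zpowers a)).2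
            rw [e, Nat.card_zpowers, hord]
        rw [Nat.card_zpowers, hord, hn1, pow_one, hinf, card_bot, mul_one])
      refine cyclic_bot (a := π a) hp23 ?_ hQn (by rw [← map_pow, hAp a ha, map_one]) hab hQp
      rw [← MonoidHom.map_zpowers, ← Subgroup.map_sup,
        le_antisymm (sup_le (zpowers_le.2 (hAle ha)) d.c.core_le) hS']
    · have htop : fixN Q (d.W ⊔ N) = ⊤ := d.eq_top_of_triv h4
        (fun g hg z hz => mem_sup_right (hphi (mem_phi_comm hz hg)))
        (fun g hg z hz => mem_sup_left (hT g hg z hz))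
      have h1 : ⁅Q.map π, d.S.map π⁆ ≤ d.W.map π := by
        rw [← map_commutator, ← sup_bot_eq (d.W.map π), ← QuotientGroup.map_mk'_self N, ← Subgroup.map_sup]
        exact map_mono (commutator_le.2 fun q hq s _ => (htop.ge (mem_top s)) q hq)
      have h2 : ⁅d.W.map π, d.S.map π⁆ ≤ d.Z.map π := by
        rw [← map_commutator]
        exact map_mono (le_inf (commutator_le.2 fun w hw s _ => d.comm_W hw s) d.comm_le)
      have h3 : ⁅d.Z.map π, d.S.map π⁆ = ⊥ := by
        rw [← map_commutator, Subgroup.map_eq_bot_iff]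
        exact commutator_le.2 fun z hz s hs => by
          rw [commutatorElement_eq_one_iff_mul_comm.2 (mem_centralizer_iff.1 hz.2 s hs).symm]; exact one_mem _
      refine ⟨fun hp3 => ?_, fun _ => le_bot_iff.1 ((commutator_mono ((commutator_mono h1 le_rfl).trans h2)
        le_rfl).trans h3.le)⟩
      have hZN : d.S ≤ normalizer ((d.Z ⊔ N : Subgroup G) : Set G) := le_normalizer_of_forall fun s hs => by
        rw [cj_sup, cj_eq_of_mem ((normalizer_eq_top (H := N)).ge (mem_top s))]
        refine sup_le (le_trans ?_ le_sup_left) le_sup_right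
        rintro _ ⟨z, hz, rfl⟩
        show s * z * s⁻¹ ∈ d.Z
        rwa [d.Z_fix hz hs]
      have hq : ⁅Q, d.S⁆ ≤ d.Z ⊔ N := commutator_le.2 fun q hq s hs => by
        obtain ⟨a, ha, r, hr, rfl⟩ := mem_product (le_top.trans (normalizer_eq_top (H := Q)).ge) (hAS.ge hs)
        rw [d.comm_mul_right]
        exact mul_mem (d.one_comm hAS hAab hAp hT h4 hp3 hNQ hphi hC hfix q hq a ha)
          ((mem_normalizer_iff.1 (hZN (hAle ha)) _).1 (mem_sup_right (hphi (mem_phi_comm hq hr))))
      refine le_bot_iff.1 ((commutator_mono ?_ le_rfl).trans h3.le)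
      rw [← map_commutator, ← sup_bot_eq (d.Z.map π), ← QuotientGroup.map_mk'_self N, ← Subgroup.map_sup]
      exact map_mono hq
  refine s0_eq_bot hS hQn ?_ ?_ hab hQp (hgen 0).1 (hgen 0).2
  · rintro _ ⟨x, hx, rfl⟩ _ ⟨y, hy, rfl⟩
    rw [← map_mul, ← map_mul, hAab x hx y hy]
  · rintro _ ⟨x, hx, rfl⟩
    rw [← map_pow, hAp x hx, map_one]

end One

end Sit

end Cfsg.Lib.BGN.P
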