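import Cfsg.Agent.PushUp.Char.Embed
import Cfsg.Agent.PushUp.Main
import Cfsg.Agent.Coprime.SolvableBasics

/-!
Two characteristic subgroups controlling every pushing-up situation over a given Sylow subgroup.
-/

set_option autoImplicit false
set_option linter.unusedSectionVars false
set_option linter.style.haveILetI false

namespace Cfsg.Lib.PushUp.Char

open Subgroup Cfsg.Lib.BGN Cfsg.Lib.BGN.P
open Cfsg.Lib.Fusion (maxAb)
open scoped commutatorElement

universe u

variable {S : Type u} [Group S] [Finite S] {p : ℕ} [hp : Fact p.Prime]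

theorem thompson_top : Cfsg.thompsonSubgroupA S ⊓ centralizer (Cfsg.thompsonSubgroupA S : Set S) =
    Cfsg.centerThompsonAOf (⊤ : Subgroup S) := by
  have h : Cfsg.thompsonSubgroupAOf (⊤ : Subgroup S) = Cfsg.thompsonSubgroupA S := by
    rw [Cfsg.Lib.Fusion.thompsonAOf_eq, Cfsg.thompsonSubgroupA]
    congr 1
    ext A
    exact ⟨fun h => ⟨h.2.1, fun B hB => h.2.2 B le_top hB⟩, fun h => ⟨le_top, h.1, fun B _ hB => h.2 B hB⟩⟩
  rw [Cfsg.centerThompsonAOf, h]

theorem zj_map (φ : S ≃* S) : (Cfsg.centerThompsonAOf (⊤ : Subgroup S)).map φ.toMonoidHom =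
    Cfsg.centerThompsonAOf (⊤ : Subgroup S) := by
  rw [Cfsg.Lib.ZJ.centerThompsonAOf_map_injOn φ.injective.injOn,
    Subgroup.map_top_of_surjective (f := φ.toMonoidHom) φ.surjective]

variable {G : Type u} [Group G] [Finite G] {τ : S →* G} (hτ : Function.Injective τ)

include hτ

theorem map_center : (center S).map τ = τ.range ⊓ centralizer (τ.range : Set G) := by
  have h := map_inf_centralizer hτ (⊤ : Subgroup S) ⊤
  rw [MonoidHom.range_eq_map, h, top_inf_eq, coe_top, centralizer_univ]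

theorem map_zj : (Cfsg.centerThompsonAOf (⊤ : Subgroup S)).map τ = Cfsg.centerThompsonAOf τ.range := by
  rw [Cfsg.Lib.ZJ.centerThompsonAOf_map_injOn hτ.injOn, ← MonoidHom.range_eq_map]

/-- a characteristic subgroup of a normal image has a normal image -/
theorem map_normal_of_char (h : τ.range.Normal) (K : Subgroup S) [hK : K.Characteristic] : (K.map τ).Normal := by
  haveI := h
  refine ⟨?_⟩
  rintro _ ⟨x, hx, rfl⟩ g
  let e := MonoidHom.ofInjective hτ
  let φ : S ≃* S := e.trans ((MulAut.conjNormal g).trans e.symm)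
  have hφ : τ (φ x) = g * τ x * g⁻¹ := by
    show τ (e.symm (MulAut.conjNormal g (e x))) = _
    rw [MonoidHom.apply_ofInjective_symm, MulAut.conjNormal_apply]
    rfl
  exact ⟨φ x, (characteristic_iff_map_eq.1 hK φ).le (mem_map_of_mem _ hx), hφ⟩

/-- the situation over a non-normal image -/
theorem exists_sit (hR : ∃ P : Sylow p G, (P : Subgroup G) = τ.range)
    (hc : centralizer (Cfsg.pCore p G : Set G) ≤ Cfsg.pCore p G) (hM : ∃! M : Subgroup G, IsCoatom M ∧ τ.range ≤ M)
    (hK : ∃ (K : Subgroup G) (_ : K.Normal) (F : Type) (_ : Field F) (_ : Fintype F) (n : ℕ),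
      1 ≤ n ∧ Fintype.card F = p ^ n ∧ Nonempty (G ⧸ K ≃* Matrix.ProjectiveSpecialLinearGroup (Fin 2) F))
    {K₀ : Subgroup S} (hK₀ : K₀ ≤ center S) (h₀ : ¬ (K₀.map τ).Normal)
    (hJ : centralizer (Cfsg.centerThompsonAOf (⊤ : Subgroup S) : Set S) = ⊤) (hn : ¬ τ.range.Normal) :
    ∃ (F : Type) (_ : Field F) (_ : Fintype F) (d : Sit p G F), d.S = τ.range := by
  obtain ⟨P, hP⟩ := hR
  obtain ⟨K, hKn, F, iF, iF', n, hn1, hF, hiso⟩ := hK
  obtain ⟨c, hc'⟩ := Cfsg.Lib.PushUp.exists_ctx P hc (by simpa [hP] using hM) K n hn1 hF hiso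
  have hS : (c.S : Subgroup G) = τ.range := by rw [hc', hP]
  have hZs : c.Zs = (center S).map τ := by rw [map_center hτ, Cfsg.Lib.PushUp.Ctx.Zs, hS]
  have hC : (c.S : Subgroup G) ⊓ centralizer (c.Zj : Set G) = τ.range := by
    rw [Cfsg.Lib.PushUp.Ctx.Zj, hS, ← map_zj hτ, MonoidHom.range_eq_map, map_inf_centralizer hτ, hJ, inf_top_eq]
  rcases c.cases with h | h | h
  · exact absurd (Cfsg.Lib.PushUp.normal_of_le_center ((map_mono hK₀).trans (hZs.ge.trans h))) h₀
  · exact absurd (hC ▸ h) hn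
  · exact ⟨F, iF, iF', ⟨c, by rwa [hS], h⟩, hS⟩

omit hτ

/-- the first statement: some commutator with `Z(J(S))` is not trivial -/
theorem comm_pair (hτ : Function.Injective τ) (hR : ∃ P : Sylow p G, (P : Subgroup G) = τ.range)
    (hc : centralizer (Cfsg.pCore p G : Set G) ≤ Cfsg.pCore p G) (hM : ∃! M : Subgroup G, IsCoatom M ∧ τ.range ≤ M)
    (hK : ∃ (K : Subgroup G) (_ : K.Normal) (F : Type) (_ : Field F) (_ : Fintype F) (n : ℕ),
      1 ≤ n ∧ Fintype.card F = p ^ n ∧ Nonempty (G ⧸ K ≃* Matrix.ProjectiveSpecialLinearGroup (Fin 2) F)) :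
    ((⁅Cfsg.centerThompsonAOf (⊤ : Subgroup S), (⊤ : Subgroup S)⁆ ⊓ center S).map τ).Normal ∨
      ((centralizer (Cfsg.centerThompsonAOf (⊤ : Subgroup S) : Set S)).map τ).Normal := by
  obtain ⟨P, hP⟩ := hR
  obtain ⟨K, hKn, F, iF, iF', n, hn1, hF, hiso⟩ := hK
  obtain ⟨c, hc'⟩ := Cfsg.Lib.PushUp.exists_ctx P hc (by simpa [hP] using hM) K n hn1 hF hiso
  have hS : (c.S : Subgroup G) = τ.range := by rw [hc', hP]
  have e1 : (⁅Cfsg.centerThompsonAOf (⊤ : Subgroup S), (⊤ : Subgroup S)⁆ ⊓ center S).map τ =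
      ⁅c.Zj, (c.S : Subgroup G)⁆ ⊓ c.Zs := by
    rw [Subgroup.map_inf _ _ _ hτ, map_commutator, map_zj hτ, map_center hτ, ← MonoidHom.range_eq_map,
      Cfsg.Lib.PushUp.Ctx.Zs, Cfsg.Lib.PushUp.Ctx.Zj, hS]
  have e2 : (centralizer (Cfsg.centerThompsonAOf (⊤ : Subgroup S) : Set S)).map τ =
      (c.S : Subgroup G) ⊓ centralizer (c.Zj : Set G) := by
    rw [Cfsg.Lib.PushUp.Ctx.Zj, hS, ← map_zj hτ, MonoidHom.range_eq_map, map_inf_centralizer hτ, top_inf_eq]
  rw [e1, e2]
  exact Cfsg.Lib.PushUp.commutator_or c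

omit G τ

theorem characteristic_top_subgroupOf {H K : Subgroup S} (hH : H = ⊤) [hK : K.Characteristic] :
    (K.subgroupOf H).Characteristic := by
  subst hH
  refine characteristic_iff_le_comap.2 fun φ x hx => ?_
  let ψ : S ≃* S := Subgroup.topEquiv.symm.trans (φ.trans Subgroup.topEquiv)
  have h : ψ (x : S) = ((φ x : ↥(⊤ : Subgroup S)) : S) := by
    show ((φ (Subgroup.topEquiv.symm (x : S)) : ↥(⊤ : Subgroup S)) : S) = _
    congr 1
  show ((φ x : ↥(⊤ : Subgroup S)) : S) ∈ K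
  rw [← h]
  exact (characteristic_iff_map_eq.1 hK ψ).le (mem_map_of_mem _ hx)

/-- the subgroups from the modules -/
def modules (p : ℕ) [Fact p.Prime] (S : Type u) [Group S] (K₀ : Subgroup S) : Set (Subgroup S) :=
  {K | ∃ (G : Type u) (_ : Group G) (_ : Finite G) (τ : S →* G), Function.Injective τ ∧ ¬ (K₀.map τ).Normal ∧
    ∃ (F : Type) (_ : Field F) (_ : Fintype F) (d : Sit p G F), d.S = τ.range ∧ K = d.W.comap τ}

theorem modules_map (K₀ : Subgroup S) [hK₀ : K₀.Characteristic] (φ : S ≃* S) {K : Subgroup S}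
    (hK : K ∈ modules p S K₀) : K.map φ.toMonoidHom ∈ modules p S K₀ := by
  obtain ⟨G, iG, iG', τ, hτ, h0, F, iF, iF', d, hS, rfl⟩ := hK
  refine ⟨G, iG, iG', τ.comp φ.symm.toMonoidHom, hτ.comp φ.symm.injective, ?_, F, iF, iF', d, ?_, ?_⟩
  · rwa [← Subgroup.map_map, characteristic_iff_map_eq.1 hK₀ φ.symm]
  · rw [hS]
    exact SetLike.coe_injective (by
      simp only [MonoidHom.coe_range, MonoidHom.coe_comp, MulEquiv.toMonoidHom_eq_coe, MonoidHom.coe_coe]
      exact (φ.symm.surjective.range_comp τ).symm)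
  · rw [← Subgroup.comap_comap, Subgroup.map_equiv_eq_comap_symm']

theorem sup_char (K₀ : Subgroup S) [K₀.Characteristic] : (sSup (modules p S K₀)).Characteristic := by
  refine characteristic_iff_map_le.2 fun φ => ?_
  rw [Subgroup.map_le_iff_le_comap]
  exact sSup_le fun K hK => Subgroup.map_le_iff_le_comap.1 (le_sSup (modules_map K₀ φ hK))

/-- every member normalises the join of all -/
theorem sup_normal {G : Type u} [Group G] [Finite G] {τ : S →* G} (hτ : Function.Injective τ) {F : Type} [Field F]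
    [Fintype F] (d : Sit p G F) (hS : d.S = τ.range)
    (h0 : ¬ ((s0 p (⊤ : Subgroup S) ⊓ center S).map τ).Normal) :
    ((sSup (modules p S (s0 p (⊤ : Subgroup S) ⊓ center S))).map τ).Normal := by
  set K₀ := s0 p (⊤ : Subgroup S) ⊓ center S
  set Ka := d.W.comap τ
  have hKa : Ka ∈ modules p S K₀ := ⟨G, inferInstance, inferInstance, τ, hτ, h0, F, inferInstance, inferInstance, d, hS, rfl⟩
  have e : sSup (modules p S K₀) = ⨆ K : ↥(modules p S K₀), Ka ⊔ K.1 := by
    refine le_antisymm (sSup_le fun K hK => le_trans le_sup_right (le_iSup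
      (fun K : ↥(modules p S K₀) => Ka ⊔ K.1) ⟨K, hK⟩)) (iSup_le fun K => sup_le (le_sSup hKa) (le_sSup K.2))
  rw [e, Subgroup.map_iSup]
  haveI : ∀ K : ↥(modules p S K₀), ((Ka ⊔ K.1).map τ).Normal := by
    rintro ⟨_, H, iH, iH', τ', hτ', h0', F', iF, iF', d', hS', rfl⟩
    rcases main_pair hτ hτ' d d' hS hS' with h | h | h
    · exact h.1
    · exact absurd (Cfsg.Lib.PushUp.normal_of_le_center h) h0
    · exact absurd (Cfsg.Lib.PushUp.normal_of_le_center h) h0'
  exact Subgroup.iSup_normal _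

/-- two characteristic subgroups, one of which is normal in every pushing-up situation -/
theorem exists_two (hS : IsPGroup p S)
    (h : ⁅Cfsg.centerThompsonAOf (⊤ : Subgroup S), (⊤ : Subgroup S)⁆ ≠ ⊥ ∨ s0 p (⊤ : Subgroup S) ≠ ⊥) :
    ∃ S₁ S₂ : Subgroup S, S₁ ≠ ⊥ ∧ S₂ ≠ ⊥ ∧ S₁.Characteristic ∧ S₂.Characteristic ∧ S₁ ≤ center S ∧
      S₂ ≤ centralizer (Cfsg.centerThompsonAOf (⊤ : Subgroup S) : Set S) ∧
      (S₂.subgroupOf (centralizer (Cfsg.centerThompsonAOf (⊤ : Subgroup S) : Set S))).Characteristic ∧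
      ∀ (G : Type u) [Group G] [Finite G] (τ : S →* G), Function.Injective τ →
        (∃ P : Sylow p G, (P : Subgroup G) = τ.range) → centralizer (Cfsg.pCore p G : Set G) ≤ Cfsg.pCore p G →
        (∃! M : Subgroup G, IsCoatom M ∧ τ.range ≤ M) →
        (∃ (K : Subgroup G) (_ : K.Normal) (F : Type) (_ : Field F) (_ : Fintype F) (n : ℕ),
          1 ≤ n ∧ Fintype.card F = p ^ n ∧ Nonempty (G ⧸ K ≃* Matrix.ProjectiveSpecialLinearGroup (Fin 2) F)) →
        (S₁.map τ).Normal ∨ (S₂.map τ).Normal := by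
  classical
  haveI := hS.isNilpotent
  set ZJ := Cfsg.centerThompsonAOf (⊤ : Subgroup S)
  haveI hZJ : ZJ.Characteristic := characteristic_iff_map_eq.2 zj_map
  haveI hs0 : (s0 p (⊤ : Subgroup S)).Characteristic := characteristic_iff_map_eq.2 fun φ => by
    rw [map_s0, Subgroup.map_top_of_surjective (f := φ.toMonoidHom) φ.surjective]
  have hSne : Nontrivial S := by
    by_contra hc
    rw [not_nontrivial_iff_subsingleton] at hc
    rcases h with h | h <;> exact h (Subsingleton.elim _ _)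
  by_cases hcomm : ⁅ZJ, (⊤ : Subgroup S)⁆ = ⊥
  · have hs : s0 p (⊤ : Subgroup S) ≠ ⊥ := h.resolve_left (fun h => h hcomm)
    have hJ : centralizer (ZJ : Set S) = ⊤ := eq_top_iff.2 fun x _ => mem_centralizer_iff.2 fun z hz =>
      commutatorElement_eq_one_iff_mul_comm.1 (mem_bot.1 (hcomm.le (commutator_mem_commutator hz (mem_top x))))
    set K₀ := s0 p (⊤ : Subgroup S) ⊓ center S
    haveI hK₀ : K₀.Characteristic := inferInstance
    haveI hT : (sSup (modules p S K₀)).Characteristic := sup_char K₀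
    set T := if sSup (modules p S K₀) = ⊥ then ⊤ else sSup (modules p S K₀) with hTdef
    haveI hTc : T.Characteristic := by rw [hTdef]; split_ifs <;> infer_instance
    refine ⟨K₀, T, Cfsg.Lib.Coprime.inf_center_ne_bot _ hs, ?_, hK₀, hTc, inf_le_right, hJ ▸ le_top,
      characteristic_top_subgroupOf hJ, fun G _ _ τ hτ hP hc hM hK => ?_⟩
    · rw [hTdef]
      split_ifs with h1
      · exact top_ne_bot
      · exact h1
    by_cases h0 : (K₀.map τ).Normal
    · exact Or.inl h0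
    right
    by_cases hn : τ.range.Normal
    · exact map_normal_of_char hτ hn T
    obtain ⟨F, iF, iF', d, hd⟩ := exists_sit hτ hP hc hM hK inf_le_right h0 hJ hn
    have hW : d.W.comap τ ∈ modules p S K₀ := ⟨G, inferInstance, inferInstance, τ, hτ, h0, F, iF, iF', d, hd, rfl⟩
    have hne : sSup (modules p S K₀) ≠ ⊥ := fun hb => by
      have h1 : d.W.comap τ = ⊥ := le_bot_iff.1 ((le_sSup hW).trans hb.le)
      have h2 : d.W = ⊥ := by
        rw [← Subgroup.map_comap_eq_self (d.W_le_S.trans hd.le), h1, Subgroup.map_bot]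
      have := d.card_W
      rw [h2, card_bot] at this
      exact d.one_lt_q.ne' (Nat.eq_one_of_mul_eq_one_right this.symm)
    rw [hTdef, if_neg hne]
    exact sup_normal hτ d hd h0
  · refine ⟨⁅ZJ, (⊤ : Subgroup S)⁆ ⊓ center S, centralizer (ZJ : Set S),
      Cfsg.Lib.Coprime.inf_center_ne_bot _ hcomm, ?_, inferInstance, inferInstance, inf_le_right, le_rfl,
      by rw [subgroupOf_self]; infer_instance, fun G _ _ τ hτ hP hc hM hK => comm_pair hτ hP hc hM hK⟩
    intro hb
    haveI := hSne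
    obtain ⟨z, hz⟩ := @exists_ne _ hS.center_nontrivial 1
    exact hz (Subtype.ext (mem_bot.1 (hb.le (mem_centralizer_iff.2 fun y _ => (mem_center_iff.1 z.2 y)))))

end Cfsg.Lib.PushUp.Char
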