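import Cfsg.Agent.PushUp.Char.Good

/-!
Two groups with a common Sylow subgroup at critical distance two: the sections around one vertex.
-/

set_option autoImplicit false
set_option linter.unusedSectionVars false
set_option linter.style.haveILetI false

namespace Cfsg.Lib.PushUp.Char

open Subgroup Cfsg.Lib.BGN Cfsg.Lib.BGN.P
open scoped commutatorElement

universe u

variable {G : Type u} [Group G]

namespace Pair

variable {p : ℕ} [Finite G] (d : Pair G p)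

include d

/-- the module of the neighbours -/
abbrev fW (e : Bool) (y : G) : Subgroup G := ⨆ z : ↥(d.X e), cj (z : G) (d.V (!e) ⊔ cj y (d.V (!e)))
/-- its line -/
abbrev fZM (e : Bool) (y : G) : Subgroup G := d.fW e y ⊓ d.Q (!e)
/-- its radical -/
abbrev fK (e : Bool) (y : G) : Subgroup G := d.fZM e y ⊓ cj y (d.Q (!e))
/-- the part of the core fixing both neighbours -/
abbrev fD (e : Bool) (y : G) : Subgroup G := d.Q e ⊓ d.Q (!e) ⊓ cj y (d.Q (!e))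

/-- the facts around the vertex of type `e` -/
structure Facts (d : Pair G p) (e : Bool) (y x : G) : Prop where
  BS' : cj y (d.V (!e)) ⊔ d.Q (!e) = d.S
  ABy : d.V (!e) ⊔ cj y (d.Q (!e)) = cj y d.S
  A2S : cj x (d.V e) ⊔ d.Q e = d.S
  U2S : cj (y * x) (d.V e) ⊔ d.Q e = cj y d.S
  U2inf : cj (y * x) (d.V e) ⊓ d.Q e ≤ cj (y * x) d.Z
  RmX : d.R (!e) ≤ centralizer (d.X e : Set G)
  RmY : cj y (d.R (!e)) = d.R (!e)
  WQ : d.fW e y ≤ d.Q e
  WX : d.X e ≤ normalizer (d.fW e y : Set G)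
  ABW : d.V (!e) ⊔ cj y (d.V (!e)) ≤ d.fW e y
  VW : d.V e ≤ d.fW e y
  VK : d.V e ≤ d.fK e y
  WQcomm : ∀ w ∈ d.fW e y, ∀ z ∈ d.Q e, ⁅w, z⁆ ∈ d.C e
  kD : d.fK e y ≤ d.fD e y
  decQ : ∀ z ∈ d.Q e, ∃ w ∈ d.fW e y, ∃ k ∈ d.fD e y, w * k = z
  DW : ∀ k ∈ d.fD e y, ∀ w ∈ d.fW e y, k * w = w * k
  ZMab : ∀ a ∈ d.fZM e y, ∀ b ∈ d.fZM e y, a * b = b * a
  DX : d.X e ≤ normalizer (d.fD e y : Set G)
  KX : d.X e ≤ normalizer (d.fK e y : Set G)
  DA2 : ∀ k ∈ d.Q (!e), ∀ a ∈ cj x (d.V e), ⁅k, a⁆ ∈ d.R e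
  fixY : ∀ k ∈ d.fW e y, k ∈ cj y (d.Q (!e)) → ∀ s ∈ cj y d.S, ⁅k, s⁆ ∈ d.V e
  fixK : ∀ k ∈ d.fK e y, ∀ g ∈ d.X e, ⁅k, g⁆ ∈ d.V e
  fixZ : ∀ k ∈ d.fZM e y, ∀ s ∈ d.S, ⁅k, s⁆ ∈ d.Z
  move : ∀ w ∈ d.fW e y, ∀ s ∈ d.S, ⁅w, s⁆ ∈ d.fZM e y
  inter : ∀ z ∈ d.X e, d.S ⊔ cj z d.S = d.X e → d.fZM e y ⊓ cj z (d.fZM e y) ≤ d.fK e y
  nQm : d.S ≤ normalizer (d.Q (!e) : Set G)
  nyQm : cj y d.S ≤ normalizer (cj y (d.Q (!e)) : Set G)
  AQ : d.V (!e) ≤ d.Q e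
  BQ : cj y (d.V (!e)) ≤ d.Q e
  ZC : Nat.card d.Z = d.q e * Nat.card (d.C e)

theorem facts (h : d.DistTwo) {e : Bool} {y x : G} (hy : d.Far e y) (hx : d.Far (!e) x) : d.Facts e y x := by
  obtain ⟨hb, -, hRC, hfar⟩ := h
  set m := !e with hm
  set A := d.V m
  set B := cj y (d.V m)
  set A2 := cj x (d.V e)
  set U2 := cj (y * x) (d.V e)
  set R := d.R e
  set C := d.C e
  have hyX := hy.1
  have hxX := hx.1
  have hty : ty 1 (!m) = m := by simp [ty]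
  have hty' : ty 1 (!e) = e := by simp [ty]
  have hwin : ∀ z, d.Far e z → d.Crit 1 m z := fun z hz =>
    ⟨by simpa [hm] using d.wd_one hz.1, by simpa [hm] using hfar e z hz⟩
  have hwinx : d.Crit 1 e x := ⟨d.wd_one hxX, by
    have := hfar m x hx
    simpa [hm] using this⟩
  obtain ⟨f1, -, -, fRm⟩ := d.crit_full hb (hwin y hy)
  obtain ⟨g1, -, -, -⟩ := d.crit_full hb (hwin y⁻¹ (d.far_inv hy))
  obtain ⟨a1, a2, -, aR⟩ := d.crit_full hb hwinx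
  rw [hty] at f1 fRm g1
  rw [hty'] at a1 a2 aR
  have hABy : A ⊔ cj y (d.Q m) = cj y d.S := by
    have := congrArg (cj y) g1
    rwa [cj_sup, cj_inv_right] at this
  have hU2S : U2 ⊔ d.Q e = cj y d.S := by
    have := congrArg (cj y) a1
    rwa [cj_sup, ← cj_mul, d.cj_Q hyX] at this
  have hU2inf : U2 ⊓ d.Q e ≤ cj (y * x) d.Z := by
    have := cj_mono y a2
    rwa [cj, Subgroup.map_inf _ _ _ (MulAut.conj y).injective, ← cj, ← cj, ← cj_mul, d.cj_Q hyX, ← cj_mul] at this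
  have hAQ : A ≤ d.Q e := d.low_adj hb le_rfl e
  have hBQ : B ≤ d.Q e := (cj_mono y hAQ).trans (d.cj_Q hyX).le
  have hQy : d.Q e ≤ cj y d.S := d.Q_le_cjS hyX
  have hVm : d.V e ≤ d.Q m := by
    have := d.low_adj hb le_rfl m
    rwa [hm, Bool.not_not] at this
  have hVym : d.V e ≤ cj y (d.Q m) := (d.cj_V hyX).ge.trans (cj_mono y hVm)
  have hU2X : U2 ≤ d.X e := (le_sup_left.trans hU2S.le).trans (d.cjS_le hyX)
  have hRm : d.R m ≤ centralizer (d.X e : Set G) := hRC e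
  have hRmC : d.R m ≤ C := le_inf ((d.R_le_Z m).trans (d.Z_le_V e)) hRm
  have hCZ : C ≤ d.Z := fun c hc => d.Z_eq e ▸
    ⟨hc.1, centralizer_le (SetLike.coe_subset_coe.2 (d.hSX e)) hc.2⟩
  have hRZ : R ≤ d.Z := d.R_le_Z e
  have hyR : cj (y * x) R = cj y R := by rw [cj_mul, ← aR]
  have hyRV : cj y R ≤ d.V e := (cj_mono y (d.R_le_V e)).trans (d.cj_V hyX).le
  -- the commutators with the core
  set M : Subgroup G :=
    { carrier := {w | w ∈ d.Q e ∧ ∀ z ∈ d.Q e, ⁅w, z⁆ ∈ d.R m}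
      one_mem' := ⟨one_mem _, fun z _ => by rw [commutatorElement_one_left]; exact one_mem _⟩
      mul_mem' := by
        rintro a b ⟨ha, ha'⟩ ⟨hb', hb''⟩
        refine ⟨mul_mem ha hb', fun z hz => ?_⟩
        have e' := mem_centralizer_iff.1 (hRm (hb'' z hz)) a (d.QX e ha)
        have : ⁅a * b, z⁆ = ⁅b, z⁆ * ⁅a, z⁆ :=
          calc ⁅a * b, z⁆ = a * ⁅b, z⁆ * a⁻¹ * ⁅a, z⁆ := by simp only [commutatorElement_def]; group
            _ = _ := by rw [e']; group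
        rw [this]
        exact mul_mem (hb'' z hz) (ha' z hz)
      inv_mem' := by
        rintro a ⟨ha, ha'⟩
        refine ⟨inv_mem ha, fun z hz => ?_⟩
        have e' := mem_centralizer_iff.1 (hRm (inv_mem (ha' z hz))) a (d.QX e ha)
        have : ⁅a⁻¹, z⁆ = ⁅a, z⁆⁻¹ :=
          calc ⁅a⁻¹, z⁆ = a⁻¹ * (⁅a, z⁆⁻¹ * a) := by simp only [commutatorElement_def]; group
            _ = _ := by rw [← e']; group
        rw [this]
        exact inv_mem (ha' z hz) }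
  have hAB1 : A ⊔ B ≤ M := by
    refine sup_le (fun a ha => ⟨hAQ ha, fun z hz => commutator_mem_commutator ha (d.hQS e hz)⟩)
      (fun a ha => ⟨hBQ ha, fun z hz => ?_⟩)
    rw [fRm]
    show ⁅a, z⁆ ∈ cj y ⁅d.V m, d.S⁆
    rw [cj_comm]; exact commutator_mem_commutator ha (hQy hz)
  set W := d.fW e y with hWdef
  have hW1 : W ≤ M := by
    refine iSup_le fun z => ?_
    rintro _ ⟨w, hw, rfl⟩
    obtain ⟨hwQ, hw'⟩ := hAB1 hw
    refine ⟨(mem_normalizer_iff.1 (d.nQ e z.2) w).1 hwQ, fun u hu => ?_⟩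
    change ⁅(z : G) * w * (z : G)⁻¹, u⁆ ∈ _
    have hu' : (z : G)⁻¹ * u * (z : G) ∈ d.Q e := by
      simpa using (mem_normalizer_iff.1 (d.nQ e (inv_mem z.2)) u).1 hu
    have e' := mem_centralizer_iff.1 (hRm (hw' _ hu')) (z : G) z.2
    have : ⁅(z : G) * w * (z : G)⁻¹, u⁆ = ⁅w, (z : G)⁻¹ * u * (z : G)⁆ :=
      calc ⁅(z : G) * w * (z : G)⁻¹, u⁆
          = (z : G) * ⁅w, (z : G)⁻¹ * u * (z : G)⁆ * (z : G)⁻¹ := by simp only [commutatorElement_def]; group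
        _ = _ := by rw [e']; group
    rw [this]
    exact hw' _ hu'
  have hWQ : W ≤ d.Q e := fun w hw => (hW1 hw).1
  have hABW : A ⊔ B ≤ W := by
    refine le_trans ?_ (le_iSup _ (1 : ↥(d.X e)))
    exact (cj_one _).ge
  have hWX : d.X e ≤ normalizer (W : Set G) := by
    refine le_normalizer_of_forall fun z hz => ?_
    rw [hWdef, fW, cj, Subgroup.map_iSup]
    refine iSup_le fun u => ?_
    refine le_trans (le_of_eq (cj_mul z (u : G) (A ⊔ B)).symm) ?_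
    exact le_iSup (fun u : ↥(d.X e) => cj (u : G) (d.V (!e) ⊔ cj y (d.V (!e)))) ⟨z * u, mul_mem hz u.2⟩
  have hWQc : ∀ w ∈ W, ∀ z ∈ d.Q e, ⁅w, z⁆ ∈ d.R m := fun w hw z hz => (hW1 hw).2 z hz
  have hnHQ : cj y d.S ≤ normalizer (cj y (d.Q m) : Set G) := cj_le_normalizer ((d.hSX m).trans (d.nQ m)) y
  have hnQm : d.S ≤ normalizer (d.Q m : Set G) := (d.hSX m).trans (d.nQ m)
  have hAS1 : A ≤ cj y d.S := hAQ.trans hQy
  have hBS1 : B ≤ d.S := hBQ.trans (d.hQS e)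
  have hBHQ' : B ≤ cj y (d.Q m) := cj_mono y (d.hVQ m)
  have hAHQ' : A ≤ d.Q m := d.hVQ m
  have hAHQ : A ⊓ cj y (d.Q m) ≤ d.Z := fun v hv => d.Z_eq m ▸ ⟨hv.1, by
    have h1 : d.S ≤ centralizer ({v} : Set G) := by
      rw [← f1]
      refine sup_le (fun u hu => mem_centralizer_singleton_iff.2 ?_) (fun z hz => mem_centralizer_singleton_iff.2 ?_)
      · exact mem_centralizer_iff.1 (d.cjQ_cent y m hv.2) u hu
      · exact d.V_comm hz hv.1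
    exact mem_centralizer_iff.2 fun s hs => mem_centralizer_singleton_iff.1 (h1 hs)⟩
  have hBHQ : B ⊓ d.Q m ≤ cj y d.Z := fun v hv => by
    have h1 : cj y d.S ≤ centralizer ({v} : Set G) := by
      rw [← hABy]
      refine sup_le (fun u hu => mem_centralizer_singleton_iff.2 ?_) (fun z hz => mem_centralizer_singleton_iff.2 ?_)
      · exact (d.V_comm hv.2 hu).symm
      · exact (mem_centralizer_iff.1 (d.cjQ_cent y m hz) v hv.1).symm
    rw [mem_cj, ← d.Z_eq m]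
    refine ⟨mem_cj.1 hv.1, mem_centralizer_iff.2 fun s hs => ?_⟩
    have e' := mem_centralizer_singleton_iff.1 (h1 (conj_mem_cj (g := y) hs))
    calc s * (y⁻¹ * v * y) = y⁻¹ * ((y * s * y⁻¹) * v) * y := by group
      _ = y⁻¹ * (v * (y * s * y⁻¹)) * y := by rw [e']
      _ = y⁻¹ * v * y * s := by group
  have hZC : Nat.card d.Z = d.q e * Nat.card C := by
    have := d.hZC e
    rwa [d.Z_eq e] at this
  have hVAB : d.V e ≤ A ⊔ B := by
    have hle : d.Z ⊔ cj y d.Z ≤ A ⊔ B := sup_le ((d.Z_le_V m).trans le_sup_left)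
      ((cj_mono y (d.Z_le_V m)).trans le_sup_right)
    refine le_trans (le_of_eq (Subgroup.eq_of_le_of_card_ge
      (sup_le (d.Z_le_V e) ((cj_mono y (d.Z_le_V e)).trans (d.cj_V hyX).le) : d.Z ⊔ cj y d.Z ≤ d.V e) ?_).symm) hle
    have h1 := card_mul_le_sup d.Z (cj y d.Z)
    have h2 : d.Z ⊓ cj y d.Z ≤ C := le_inf (inf_le_left.trans (d.Z_le_V e))
      (d.central_of_far hy (inf_le_left.trans inf_le_right) (by
        rw [← cj_centralizer]; exact inf_le_right.trans (cj_mono y inf_le_right)))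
    rw [card_cj] at h1
    have h3 : Nat.card d.Z * Nat.card d.Z ≤ Nat.card ↥(d.Z ⊔ cj y d.Z) * Nat.card C :=
      h1.trans (Nat.mul_le_mul_left _ (card_le_of_le h2))
    refine Nat.le_of_mul_le_mul_right (c := Nat.card C) ?_ Nat.card_pos
    refine le_trans (le_of_eq ?_) h3
    rw [d.cV e, d.Z_eq e, hZC]; ring
  have hVW : d.V e ≤ W := hVAB.trans hABW
  set ZM := d.fZM e y with hZMdef
  set K := d.fK e y with hKdef
  set D := d.fD e y with hDdef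
  have hVK : d.V e ≤ K := fun v hv => ⟨⟨hVW hv, hVm hv⟩, hVym hv⟩
  -- commutators with the outer vertices
  have hA2c : ∀ k ∈ d.Q m, ∀ a ∈ A2, ⁅k, a⁆ ∈ R := fun k hk a ha => by
    show ⁅k, a⁆ ∈ d.R e
    rw [aR]
    show ⁅k, a⁆ ∈ cj x ⁅d.V e, d.S⁆
    rw [commutator_comm, cj_comm]
    exact commutator_mem_commutator (d.Q_le_cjS hxX hk) ha
  have hU2c : ∀ k ∈ cj y (d.Q m), ∀ v ∈ U2, ⁅k, v⁆ ∈ cj y R := fun k hk v hv => by
    rw [← hyR]
    show ⁅k, v⁆ ∈ cj (y * x) ⁅d.V e, d.S⁆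
    rw [commutator_comm, cj_comm]
    refine commutator_mem_commutator ?_ hv
    rw [cj_mul]
    exact cj_mono y (d.Q_le_cjS hxX) hk
  have hfixZ : ∀ k ∈ ZM, ∀ s ∈ d.S, ⁅k, s⁆ ∈ d.Z := by
    intro k hk s hs
    rw [← a1, ← SetLike.mem_coe, coe_mul_of_left_le_normalizer_right _ _
      ((le_sup_left.trans a1.le).trans ((d.hSX e).trans (d.nQ e)))] at hs
    obtain ⟨a, ha, z, hz, rfl⟩ := hs
    rw [show ⁅k, a * z⁆ = ⁅k, a⁆ * (a * ⁅k, z⁆ * a⁻¹) by simp only [commutatorElement_def]; group]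
    have haX : a ∈ d.X e := d.hSX e (a1.le (mem_sup_left ha))
    have h2 := hWQc k hk.1 z hz
    rw [mem_centralizer_iff.1 (hRm h2) a haX, mul_inv_cancel_right]
    exact mul_mem (hRZ (hA2c k hk.2 a ha)) (hCZ (hRmC h2))
  have hfixY : ∀ k ∈ W, k ∈ cj y (d.Q m) → ∀ s ∈ cj y d.S, ⁅k, s⁆ ∈ d.V e := by
    intro k hk hk1 s hs
    rw [← hU2S, ← SetLike.mem_coe, coe_mul_of_left_le_normalizer_right _ _ (hU2X.trans (d.nQ e))] at hs
    obtain ⟨a, ha, z, hz, rfl⟩ := hs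
    rw [show ⁅k, a * z⁆ = ⁅k, a⁆ * (a * ⁅k, z⁆ * a⁻¹) by simp only [commutatorElement_def]; group]
    exact mul_mem (hyRV (hU2c k hk1 a ha))
      ((mem_normalizer_iff.1 (d.nV e (hU2X ha)) _).1 (hRmC (hWQc k hk z hz)).1)
  have hfixK : ∀ k ∈ K, ∀ g ∈ d.X e, ⁅k, g⁆ ∈ d.V e := fun k hk g hg => by
    let T : Subgroup G :=
      { carrier := {g | g ∈ d.X e ∧ ⁅k, g⁆ ∈ d.V e}
        one_mem' := ⟨one_mem _, by simp⟩
        mul_mem' := fun {a b} ha hb' => ⟨mul_mem ha.1 hb'.1, by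
          rw [show ⁅k, a * b⁆ = ⁅k, a⁆ * (a * ⁅k, b⁆ * a⁻¹) by simp only [commutatorElement_def]; group]
          exact mul_mem ha.2 ((mem_normalizer_iff.1 (d.nV e ha.1) _).1 hb'.2)⟩
        inv_mem' := fun {a} ha => ⟨inv_mem ha.1, by
          rw [show ⁅k, a⁻¹⁆ = a⁻¹ * ⁅k, a⁆⁻¹ * a⁻¹⁻¹ by simp only [commutatorElement_def]; group]
          exact (mem_normalizer_iff.1 (inv_mem (d.nV e ha.1)) _).1 (inv_mem ha.2)⟩ }
    exact ((hy.2.ge.trans (sup_le (c := T)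
      (fun s hs => ⟨d.hSX e hs, d.Z_le_V e (hfixZ k hk.1 s hs)⟩)
      (fun s hs => ⟨d.cjS_le hyX hs, hfixY k hk.1.1 hk.2 s hs⟩))) hg).2
  have hKX : d.X e ≤ normalizer (K : Set G) := le_normalizer_of_forall fun z hz => by
    rintro _ ⟨k, hk, rfl⟩
    show z * k * z⁻¹ ∈ K
    have h := hfixK k hk z hz
    rw [show z * k * z⁻¹ = ⁅k, z⁆⁻¹ * k by simp only [commutatorElement_def]; group]
    exact mul_mem (hVK (inv_mem h)) hk
  -- decompositions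
  have hdec : ∀ z ∈ d.Q e, ∃ a ∈ A, ∃ b ∈ B, ∃ k ∈ D, a * b * k = z := by
    intro z hz
    have hz' : z ∈ A ⊔ cj y (d.Q m) := hABy.ge (hQy hz)
    rw [← SetLike.mem_coe, coe_mul_of_left_le_normalizer_right _ _ (hAS1.trans hnHQ)] at hz'
    obtain ⟨a, ha, z1, hz1, rfl⟩ := hz'
    have hz1Q : z1 ∈ d.Q e := by
      have := (d.Q e).mul_mem ((d.Q e).inv_mem (hAQ ha)) hz
      rwa [inv_mul_cancel_left] at this
    have hz1' : z1 ∈ B ⊔ d.Q m := f1.ge (d.hQS e hz1Q)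
    rw [← SetLike.mem_coe, coe_mul_of_left_le_normalizer_right _ _ (hBS1.trans hnQm)] at hz1'
    obtain ⟨b, hb', k, hk, rfl⟩ := hz1'
    refine ⟨a, ha, b, hb', k, ⟨⟨?_, hk⟩, ?_⟩, mul_assoc a b k⟩
    · have := (d.Q e).mul_mem ((d.Q e).inv_mem (hBQ hb')) hz1Q
      rwa [inv_mul_cancel_left] at this
    · have := (cj y (d.Q m)).mul_mem ((cj y (d.Q m)).inv_mem (hBHQ' hb')) hz1
      rwa [inv_mul_cancel_left] at this
  have hDW0 : ∀ k ∈ D, ∀ w ∈ A ⊔ B, k * w = w * k := by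
    intro k hk w hw
    have hle : A ⊔ B ≤ centralizer ({k} : Set G) :=
      sup_le (fun a ha => mem_centralizer_singleton_iff.2 (d.V_comm hk.1.2 ha).symm)
        (fun b hb' => mem_centralizer_singleton_iff.2 (mem_centralizer_iff.1 (d.cjQ_cent y m hk.2) b hb'))
    exact (mem_centralizer_singleton_iff.1 (hle hw)).symm
  have hDS : d.S ≤ normalizer (D : Set G) := by
    refine le_normalizer_of_forall fun s hs => ?_
    rintro _ ⟨k, hk, rfl⟩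
    show s * k * s⁻¹ ∈ D
    rw [← a1, ← SetLike.mem_coe, coe_mul_of_left_le_normalizer_right _ _
      ((le_sup_left.trans a1.le).trans ((d.hSX e).trans (d.nQ e)))] at hs
    obtain ⟨a, ha, z, hz, rfl⟩ := hs
    have hk' : z * k * z⁻¹ ∈ D := ⟨⟨(mem_normalizer_iff.1 (le_normalizer hz) k).1 hk.1.1,
      (mem_normalizer_iff.1 (hnQm (d.hQS e hz)) k).1 hk.1.2⟩, (mem_normalizer_iff.1 (hnHQ (hQy hz)) k).1 hk.2⟩
    rw [show a * z * k * (a * z)⁻¹ = ⁅z * k * z⁻¹, a⁆⁻¹ * (z * k * z⁻¹) by simp only [commutatorElement_def]; group]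
    have hR' := d.R_le_V e (hA2c _ hk'.1.2 a ha)
    exact mul_mem (inv_mem ⟨⟨d.hVQ e hR', hVm hR'⟩, hVym hR'⟩) hk'
  have hDY : cj y d.S ≤ normalizer (D : Set G) := by
    refine le_normalizer_of_forall fun s hs => ?_
    rintro _ ⟨k, hk, rfl⟩
    show s * k * s⁻¹ ∈ D
    rw [← hU2S, ← SetLike.mem_coe, coe_mul_of_left_le_normalizer_right _ _ (hU2X.trans (d.nQ e))] at hs
    obtain ⟨a, ha, z, hz, rfl⟩ := hs
    have hk' : z * k * z⁻¹ ∈ D := ⟨⟨(mem_normalizer_iff.1 (le_normalizer hz) k).1 hk.1.1,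
      (mem_normalizer_iff.1 (hnQm (d.hQS e hz)) k).1 hk.1.2⟩, (mem_normalizer_iff.1 (hnHQ (hQy hz)) k).1 hk.2⟩
    rw [show a * z * k * (a * z)⁻¹ = ⁅z * k * z⁻¹, a⁆⁻¹ * (z * k * z⁻¹) by simp only [commutatorElement_def]; group]
    have hR' := hyRV (hU2c _ hk'.2 a ha)
    exact mul_mem (inv_mem ⟨⟨d.hVQ e hR', hVm hR'⟩, hVym hR'⟩) hk'
  have hDX : d.X e ≤ normalizer (D : Set G) := hy.2.ge.trans (sup_le hDS hDY)
  have hDW : ∀ k ∈ D, ∀ w ∈ W, k * w = w * k := by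
    intro k hk w hw
    have hle : W ≤ centralizer ({k} : Set G) := iSup_le fun z => by
      have hk' : (z : G)⁻¹ * k * z ∈ D := by simpa using (mem_normalizer_iff.1 (hDX (inv_mem z.2)) k).1 hk
      rintro _ ⟨u, hu, rfl⟩
      refine mem_centralizer_singleton_iff.2 ?_
      have e' := hDW0 _ hk' u hu
      show (z : G) * u * (z : G)⁻¹ * k = k * ((z : G) * u * (z : G)⁻¹)
      calc (z : G) * u * (z : G)⁻¹ * k = (z : G) * (u * ((z : G)⁻¹ * k * z)) * (z : G)⁻¹ := by group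
        _ = (z : G) * (((z : G)⁻¹ * k * z) * u) * (z : G)⁻¹ := by rw [e']
        _ = _ := by group
    exact (mem_centralizer_singleton_iff.1 (hle hw)).symm
  have hKD : K ≤ D := fun k hk => ⟨⟨hWQ hk.1.1, hk.1.2⟩, hk.2⟩
  have hZMdec : ∀ w ∈ ZM, ∃ a ∈ A, ∃ k ∈ K, a * k = w := by
    intro w hw
    obtain ⟨a, ha, b, hb', k, hk, rfl⟩ := hdec w (hWQ hw.1)
    have hkK : k ∈ K := ⟨⟨by
      have := W.mul_mem (W.inv_mem (W.mul_mem (hABW (mem_sup_left ha)) (hABW (mem_sup_right hb')))) hw.1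
      rwa [inv_mul_cancel_left] at this, hk.1.2⟩, hk.2⟩
    have hb2 : b ∈ B ⊓ d.Q m := ⟨hb', by
      have h' := (d.Q m).mul_mem ((d.Q m).mul_mem ((d.Q m).inv_mem (hAHQ' ha)) hw.2) ((d.Q m).inv_mem hk.1.2)
      have e' : b = a⁻¹ * (a * b * k) * k⁻¹ := by group
      show b ∈ d.Q m
      rw [e']; exact h'⟩
    exact ⟨a, ha, b * k, mul_mem (hVK ((d.cj_V hyX).le (cj_mono y (d.Z_le_V e) (hBHQ hb2)))) hkK,
      (mul_assoc _ _ _).symm⟩
  have hmove : ∀ w ∈ W, ∀ s ∈ d.S, ⁅w, s⁆ ∈ ZM := fun w hw s hs => by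
    refine ⟨?_, d.hab m w (d.hQS e (hWQ hw)) s hs⟩
    show ⁅w, s⁆ ∈ W
    rw [commutatorElement_def, mul_assoc, mul_assoc]
    exact mul_mem hw (by
      simpa [mul_assoc] using (mem_normalizer_iff.1 (hWX (d.hSX e hs)) w⁻¹).1 (inv_mem hw))
  have hinter : ∀ z ∈ d.X e, d.S ⊔ cj z d.S = d.X e → ZM ⊓ cj z ZM ≤ K := by
    intro z hz hzS k hk
    refine ⟨hk.1, ?_⟩
    have hfx : ∀ g ∈ d.X e, ⁅k, g⁆ ∈ d.V e := by
      intro g hg
      let T : Subgroup G :=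
        { carrier := {g | g ∈ d.X e ∧ ⁅k, g⁆ ∈ d.V e}
          one_mem' := ⟨one_mem _, by simp⟩
          mul_mem' := fun {a b} ha hb' => ⟨mul_mem ha.1 hb'.1, by
            rw [show ⁅k, a * b⁆ = ⁅k, a⁆ * (a * ⁅k, b⁆ * a⁻¹) by simp only [commutatorElement_def]; group]
            exact mul_mem ha.2 ((mem_normalizer_iff.1 (d.nV e ha.1) _).1 hb'.2)⟩
          inv_mem' := fun {a} ha => ⟨inv_mem ha.1, by
            rw [show ⁅k, a⁻¹⁆ = a⁻¹ * ⁅k, a⁆⁻¹ * a⁻¹⁻¹ by simp only [commutatorElement_def]; group]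
            exact (mem_normalizer_iff.1 (inv_mem (d.nV e ha.1)) _).1 (inv_mem ha.2)⟩ }
      refine ((hzS.ge.trans (sup_le (c := T) (fun s hs => ⟨d.hSX e hs, d.Z_le_V e (hfixZ k hk.1 s hs)⟩) ?_)) hg).2
      rintro _ ⟨s, hs, rfl⟩
      refine ⟨(d.cjS_le hz) (conj_mem_cj hs), ?_⟩
      show ⁅k, z * s * z⁻¹⁆ ∈ d.V e
      rw [show ⁅k, z * s * z⁻¹⁆ = z * ⁅z⁻¹ * k * z, s⁆ * z⁻¹ by simp only [commutatorElement_def]; group]
      exact (mem_normalizer_iff.1 (d.nV e hz) _).1 (d.Z_le_V e (hfixZ _ (mem_cj.1 hk.2) s hs))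
    obtain ⟨u, hu, k', hk', hku⟩ := hZMdec k hk.1
    have hfu : ⁅u, y⁆ ∈ d.V e := by
      have h1 := hfx y hyX
      have h2 := hfixK k' hk' y hyX
      rw [← hku, show ⁅u * k', y⁆ = u * ⁅k', y⁆ * u⁻¹ * ⁅u, y⁆ by simp only [commutatorElement_def]; group] at h1
      have h3 := (mem_normalizer_iff.1 (d.nV e (d.QX e (hAQ hu))) _).1 h2
      have := mul_mem (inv_mem h3) h1
      rwa [inv_mul_cancel_left] at this
    have huQ : u ∈ cj y (d.Q m) := by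
      refine d.hC_conj (K := zpowers u) ?_ ?_ (mem_zpowers u)
      · rw [zpowers_le]; exact hAS1 hu
      rw [zpowers_le, mem_centralizer_iff]
      intro w hw
      have hw' : y⁻¹ * w * y ∈ A := mem_cj.1 hw
      have e1 : u * (y⁻¹ * w * y) = (y⁻¹ * w * y) * u := d.V_comm (d.hVQ m hu) hw'
      have e2 : ⁅u, y⁆ * w = w * ⁅u, y⁆ := (d.V_comm (hBQ hw) hfu).symm
      calc w * u = w * ⁅u, y⁆ * (y * u * y⁻¹) := by simp only [commutatorElement_def]; group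
        _ = ⁅u, y⁆ * w * (y * u * y⁻¹) := by rw [e2]
        _ = ⁅u, y⁆ * (y * ((y⁻¹ * w * y) * u) * y⁻¹) := by group
        _ = ⁅u, y⁆ * (y * (u * (y⁻¹ * w * y)) * y⁻¹) := by rw [e1]
        _ = u * w := by simp only [commutatorElement_def]; group
    rw [← hku]
    exact mul_mem huQ hk'.2
  have hZMab : ∀ a ∈ ZM, ∀ b ∈ ZM, a * b = b * a := by
    intro a ha b hb'
    obtain ⟨a1', ha1, k1, hk1, rfl⟩ := hZMdec a ha
    obtain ⟨a2', ha2, k2, hk2, rfl⟩ := hZMdec b hb'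
    have e1 : Commute k1 a2' := hDW _ (hKD hk1) _ (hABW (mem_sup_left ha2))
    have e2 : Commute a1' k2 := (show Commute k2 a1' from hDW _ (hKD hk2) _ (hABW (mem_sup_left ha1))).symm
    have e3 : Commute k1 k2 := hDW _ (hKD hk1) _ hk2.1.1
    have e4 : Commute a1' a2' := d.V_comm (d.hVQ m ha1) ha2
    exact ((e4.mul_right e2).mul_left (e1.mul_right e3)).eq
  exact
    { BS' := f1, ABy := hABy, A2S := a1, U2S := hU2S, U2inf := hU2inf, RmX := hRm, RmY := fRm.symm, WQ := hWQ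
      WX := hWX, ABW := hABW, VW := hVW, VK := hVK, WQcomm := fun w hw z hz => hRmC (hWQc w hw z hz), kD := hKD
      decQ := fun z hz => by
        obtain ⟨a, ha, b, hb', k, hk, e'⟩ := hdec z hz
        exact ⟨a * b, mul_mem (hABW (mem_sup_left ha)) (hABW (mem_sup_right hb')), k, hk, e'⟩
      DW := hDW, ZMab := hZMab, DX := hDX, KX := hKX, DA2 := hA2c, fixY := hfixY, fixK := hfixK, fixZ := hfixZ
      move := hmove, inter := hinter, nQm := hnQm, nyQm := hnHQ, AQ := hAQ, BQ := hBQ, ZC := hZC }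

section Crit

variable {e : Bool} {y x : G} (hy : d.Far e y) (hx : d.Far (!e) x) (f : d.Facts e y x)

include hy hx f

/-- commutation with an element of the middle module -/
theorem hom_main {u : G} (hu : u ∈ d.V (!e)) (huQ : u ∉ cj y (d.Q (!e))) : d.q e ≤ d.q (!e) ∧
    (d.q e = d.q (!e) → ∀ w ∈ d.S, ∃ v ∈ cj (y * x) (d.V e), ⁅u, v⁆⁻¹ * w ∈ d.Q (!e)) := by
  haveI : ((d.Q (!e)).subgroupOf d.S).Normal := normal_subgroupOf_of_le_normalizer f.nQm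
  set U2 := cj (y * x) (d.V e)
  have hU2X : U2 ≤ d.X e := (le_sup_left.trans f.U2S.le).trans (d.cjS_le hy.1)
  have huW : u ∈ d.fW e y := f.ABW (mem_sup_left hu)
  have hxW : ∀ v ∈ U2, ⁅u, v⁆ ∈ d.fW e y := fun v hv => by
    rw [show ⁅u, v⁆ = u * (v * u⁻¹ * v⁻¹) by simp only [commutatorElement_def]; group]
    exact mul_mem huW ((mem_normalizer_iff.1 (f.WX (hU2X hv)) _).1 (inv_mem huW))
  have hVm : d.V e ≤ d.Q (!e) := fun v hv => (f.VK hv).1.2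
  have hU2y : U2 ≤ cj y (d.Q (!e)) := by
    show cj (y * x) (d.V e) ≤ _
    rw [cj_mul]
    exact cj_mono y ((cj_mono x hVm).trans (d.cj_Q hx.1).le)
  have hxH : ∀ v ∈ U2, ⁅u, v⁆ ∈ cj y (d.Q (!e)) := fun v hv => by
    rw [commutatorElement_def]
    exact mul_mem ((mem_normalizer_iff.1 (f.nyQm (d.Q_le_cjS hy.1 (f.AQ hu))) v).1 (hU2y hv))
      (inv_mem (hU2y hv))
  let φ : ↥U2 →* ↥d.S ⧸ (d.Q (!e)).subgroupOf d.S :=
    { toFun := fun v => QuotientGroup.mk (⟨⁅u, (v : G)⁆, d.hQS e (f.WQ (hxW v v.2))⟩ : ↥d.S)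
      map_one' := by
        refine (QuotientGroup.eq_one_iff _).2 (mem_subgroupOf.2 ?_)
        simp
      map_mul' := fun a b => by
        rw [← QuotientGroup.mk_mul, QuotientGroup.eq, mem_subgroupOf]
        have hc := f.fixY _ (hxW b b.2) (hxH b b.2) _ (f.U2S.le (mem_sup_left a.2))
        have e' : (((⟨⁅u, ((a * b : ↥U2) : G)⁆, d.hQS e (f.WQ (hxW _ (a * b).2))⟩ : ↥d.S)⁻¹ *
            (⟨⁅u, (a : G)⁆, d.hQS e (f.WQ (hxW a a.2))⟩ * ⟨⁅u, (b : G)⁆, d.hQS e (f.WQ (hxW b b.2))⟩) : ↥d.S) : G)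
            = (a : G) * ⁅u, (b : G)⁆⁻¹ * (a : G)⁻¹ * ⁅u, (b : G)⁆ := by
          simp only [Subgroup.coe_mul, Subgroup.coe_inv, commutatorElement_def]; group
        rw [e', show (a : G) * ⁅u, (b : G)⁆⁻¹ * (a : G)⁻¹ * ⁅u, (b : G)⁆ = ⁅(a : G), ⁅u, (b : G)⁆⁻¹⁆ by
          simp only [commutatorElement_def]; group]
        refine hVm ?_
        have hVn := d.nV e (d.QX e (f.WQ (hxW b b.2)))
        rw [show ⁅(a : G), ⁅u, (b : G)⁆⁻¹⁆ = ⁅u, (b : G)⁆⁻¹ * ⁅⁅u, (b : G)⁆, (a : G)⁆ * ⁅u, (b : G)⁆⁻¹⁻¹ by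
          simp only [commutatorElement_def]; group]
        exact (mem_normalizer_iff.1 (inv_mem hVn) _).1 hc }
  have hker : φ.ker.map U2.subtype ≤ cj (y * x) d.Z := by
    refine le_trans ?_ f.U2inf
    rintro _ ⟨v, hv, rfl⟩
    refine ⟨v.2, by_contra fun hvQ => huQ ?_⟩
    have hv1 : ⁅u, (v : G)⁆ ∈ d.Q (!e) := mem_subgroupOf.1 ((QuotientGroup.eq_one_iff _).1 hv)
    set v' : G := (v : G)
    have hgen := d.sep e y hy.1 hy.2 v' (f.U2S.le (mem_sup_left v.2)) hvQ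
    have hk1 : v' * u * v'⁻¹ = ⁅u, v'⁆⁻¹ * u := by simp only [commutatorElement_def]; group
    have hkW : v' * u * v'⁻¹ ∈ d.fW e y := (mem_normalizer_iff.1 (f.WX (hU2X v.2)) u).1 huW
    have hkZ : v' * u * v'⁻¹ ∈ d.fZM e y := by
      refine ⟨hkW, ?_⟩
      show v' * u * v'⁻¹ ∈ d.Q (!e)
      rw [hk1]
      exact mul_mem (inv_mem hv1) (d.hVQ _ hu)
    have huZ : u ∈ d.fZM e y ⊓ cj v'⁻¹ (d.fZM e y) :=
      ⟨⟨huW, d.hVQ _ hu⟩, mem_cj.2 (by simpa using hkZ)⟩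
    exact (f.inter v'⁻¹ (inv_mem (hU2X v.2)) hgen huZ).2
  have h2 : Nat.card φ.ker ≤ Nat.card d.Z := by
    rw [← card_map_of_injective U2.subtype_injective]
    exact (card_le_of_le hker).trans (card_cj _ _).le
  have h1 : Nat.card φ.range * Nat.card φ.ker = Nat.card U2 := by rw [← index_ker, index_mul_card]
  rw [card_cj, d.cV e, d.Z_eq e] at h1
  have hlow : d.q e ≤ Nat.card φ.range :=
    Nat.le_of_mul_le_mul_right (h1.ge.trans (Nat.mul_le_mul_left _ h2)) Nat.card_pos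
  have hquot : Nat.card (↥d.S ⧸ (d.Q (!e)).subgroupOf d.S) = d.q (!e) := by
    rw [← index_eq_card]
    refine Nat.eq_of_mul_eq_mul_right (Nat.card_pos (α := ↥(d.Q (!e)))) ?_
    rw [← d.cS (!e), ← index_mul_card ((d.Q (!e)).subgroupOf d.S),
      Nat.card_congr (subgroupOfEquivOfLe (d.hQS (!e))).toEquiv]
  refine ⟨hlow.trans (hquot ▸ Nat.card_le_card_of_injective _ φ.range.subtype_injective), fun hq w hw => ?_⟩
  have htop : φ.range = ⊤ := Subgroup.eq_top_of_le_card _ (by rw [hquot, ← hq]; exact hlow)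
  obtain ⟨⟨v, hv⟩, hfv⟩ := htop.ge (mem_top (QuotientGroup.mk ⟨w, hw⟩))
  exact ⟨v, hv, by simpa [mem_subgroupOf] using QuotientGroup.eq.1 hfv⟩

theorem exists_pair : ∃ u ∈ d.V (!e), ∃ w ∈ cj y (d.V (!e)), ⁅u, w⁆ ∈ d.R (!e) ∧
    ⁅u, w⁆ ∉ centralizer (d.X (!e) : Set G) ∧ u ∉ cj y (d.Q (!e)) := by
  have hAB : d.R (!e) ≤ ⁅d.V (!e), cj y (d.V (!e))⁆ := commutator_le.2 fun a ha s hs => by
    have hs' : s ∈ cj y (d.V (!e)) ⊔ d.Q (!e) := f.BS'.ge hs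
    obtain ⟨b, hb, q, hq, rfl⟩ := mem_product ((f.BQ.trans (d.hQS e)).trans f.nQm) hs'
    rw [show ⁅a, b * q⁆ = ⁅a, b⁆ * (b * ⁅a, q⁆ * b⁻¹) by simp only [commutatorElement_def]; group,
      commutatorElement_eq_one_iff_mul_comm.2 (d.V_comm hq ha).symm, mul_one, mul_inv_cancel, mul_one]
    exact commutator_mem_commutator ha hb
  obtain ⟨u, hu, w, hw, hne⟩ : ∃ u ∈ d.V (!e), ∃ w ∈ cj y (d.V (!e)),
      ⁅u, w⁆ ∉ centralizer (d.X (!e) : Set G) := by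
    by_contra h
    push Not at h
    exact d.hR (!e) (hAB.trans (commutator_le.2 h))
  refine ⟨u, hu, w, hw, commutator_mem_commutator hu (d.hQS e (f.BQ hw)), hne, fun h => hne ?_⟩
  rw [commutatorElement_eq_one_iff_mul_comm.2 (mem_centralizer_iff.1 (d.cjQ_cent y _ h) w hw).symm]
  exact one_mem _

theorem q_le : d.q e ≤ d.q (!e) := by
  obtain ⟨u, hu, w, hw, -, -, huQ⟩ := d.exists_pair hy hx f
  exact (d.hom_main hy hx f hu huQ).1

theorem crit' (hq : d.q e = d.q (!e)) : ∃ u ∈ d.V (!e), ∃ v ∈ cj (y * x) (d.V e),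
    ⁅u, ⁅u, v⁆⁆ ∈ d.R (!e) ∧ ⁅u, ⁅u, v⁆⁆ ∉ centralizer (d.X (!e) : Set G) := by
  obtain ⟨u, hu, w, hw, hr, hne, huQ⟩ := d.exists_pair hy hx f
  obtain ⟨v, hv, hz⟩ := (d.hom_main hy hx f hu huQ).2 hq w (d.hQS e (f.BQ hw))
  have hzu : Commute u (⁅u, v⁆⁻¹ * w) := (d.V_comm hz hu).symm
  have e1 : ⁅u, w⁆ = ⁅u, ⁅u, v⁆⁆ :=
    calc ⁅u, w⁆ = u * ⁅u, v⁆ * ((⁅u, v⁆⁻¹ * w) * u⁻¹) * w⁻¹ := by
          simp only [commutatorElement_def]; group
      _ = u * ⁅u, v⁆ * (u⁻¹ * (⁅u, v⁆⁻¹ * w)) * w⁻¹ := by rw [hzu.inv_left.eq]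
      _ = ⁅u, ⁅u, v⁆⁆ := by simp only [commutatorElement_def]; group
  exact ⟨u, hu, v, hv, e1 ▸ hr, e1 ▸ hne⟩

theorem card_W (hq : d.q e = d.q (!e)) : Nat.card (d.fW e y) = d.q e * Nat.card (d.fZM e y) := by
  have h := card_mul_eq (f.WQ.trans (d.hQS e)) f.nQm (d.hQS _)
    (le_antisymm (sup_le (f.WQ.trans (d.hQS e)) (d.hQS _))
      (f.BS'.ge.trans (sup_le_sup (le_sup_right.trans f.ABW) le_rfl)))
  rw [d.cS (!e), ← hq] at h
  exact Nat.eq_of_mul_eq_mul_right (Nat.card_pos (α := ↥(d.Q (!e)))) (h.trans (by ring))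

theorem card_ZM (hq : d.q e = d.q (!e)) : Nat.card (d.fZM e y) = d.q e * Nat.card (d.fK e y) := by
  have hle : d.fZM e y ≤ cj y d.S := (inf_le_left.trans f.WQ).trans (d.Q_le_cjS hy.1)
  have hQy : cj y (d.Q (!e)) ≤ cj y d.S := cj_mono y (d.hQS _)
  have h := card_mul_eq hle f.nyQm hQy
    (le_antisymm (sup_le hle hQy)
      (f.ABy.ge.trans (sup_le_sup (le_inf (le_sup_left.trans f.ABW) (d.hVQ _)) le_rfl)))
  rw [card_cj, card_cj, d.cS (!e), ← hq] at h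
  exact Nat.eq_of_mul_eq_mul_right (Nat.card_pos (α := ↥(d.Q (!e)))) (h.trans (by ring))

end Crit

/-- the two sections, with the critical element -/
theorem dist_two (h : d.DistTwo) (e : Bool) : ∃ y x, d.Far e y ∧ d.Far (!e) x ∧ d.Facts e y x ∧
    Nat.card (d.fW e y) = d.q e * Nat.card (d.fZM e y) ∧ Nat.card (d.fZM e y) = d.q e * Nat.card (d.fK e y) ∧
    ∃ a ∈ cj x (d.V e), ∃ b ∈ cj y (d.V (!e)), ⁅a, ⁅a, b⁆⁆ ∈ d.R e ∧
      ⁅a, ⁅a, b⁆⁆ ∉ centralizer (d.X e : Set G) := by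
  obtain ⟨y, hy⟩ := d.exists_far e
  obtain ⟨x, hx⟩ := d.exists_far (!e)
  have hy' : d.Far (!!e) y := by rwa [Bool.not_not]
  have hxi := d.far_inv hx
  have f := d.facts h hy hx
  have f' := d.facts h hxi hy'
  have h1 := d.q_le hy hx f
  have h2 := d.q_le hxi hy' f'
  rw [Bool.not_not] at h2
  have hq := le_antisymm h1 h2
  obtain ⟨u, hu, v, hv, hr, hne⟩ := d.crit' hxi hy' f' (by rw [Bool.not_not, hq])
  rw [Bool.not_not] at hu hr hne
  refine ⟨y, x, hy, hx, f, d.card_W hy hx f hq, d.card_ZM hy hx f hq, x * u * x⁻¹, conj_mem_cj hu, x * v * x⁻¹, ?_, ?_⟩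
  · rw [cj_mul] at hv
    have h3 := conj_mem_cj (g := x) hv
    rwa [cj_inv_right] at h3
  have e1 : ⁅x * u * x⁻¹, ⁅x * u * x⁻¹, x * v * x⁻¹⁆⁆ = ⁅u, ⁅u, v⁆⁆ := by
    have hc : d.R e ≤ centralizer (d.X (!e) : Set G) := by
      have := h.2.2.1 (!e)
      rwa [Bool.not_not] at this
    calc _ = x * ⁅u, ⁅u, v⁆⁆ * x⁻¹ := by simp only [commutatorElement_def]; group
      _ = _ := by rw [mem_centralizer_iff.1 (hc hr) x hx.1, mul_inv_cancel_right]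
  rw [e1]
  exact ⟨hr, hne⟩

end Pair

end Cfsg.Lib.PushUp.Char
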